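import Groth.Agent.SpLimit.DescentCharts
import Groth.Agent.Limits.FlatDescent

/-!
# Descending etale, smooth, flat and surjective morphisms along limits
-/

set_option autoImplicit false
set_option backward.isDefEq.respectTransparency false
set_option backward.isDefEq.respectTransparency.types false

universe u

open CategoryTheory CategoryTheory.Limits AlgebraicGeometry Opposite AlgSp
open Groth.AlgSpBasic

noncomputable section

namespace Groth.SpLimit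

variable {S : Scheme.{u}} {I : Type u} [SmallCategory I] [IsCofiltered I] {D : I ⥤ Sp S} {c : Cone D}
  {i₀ : I} {X₀ Y₀ : Sp S} {f₀ : X₀ ⟶ Y₀} {b₀ : Y₀ ⟶ D.obj i₀}

instance {T : Over S} [IsAffine T.left] {g : (yon S).obj T ⟶ D.obj i₀} (P : PullSys c i₀ g) (k : Over i₀) :
    IsAffine ((P.E ⋙ Over.forget S).obj k) :=
  P.affSys.aff k

theorem lfp_of_comp_q {T U : Over S} {g : (yon S).obj T ⟶ D.obj i₀} (P : PullSys c i₀ g) {h : U ⟶ T}
    (hh : LocallyOfFinitePresentation h.left)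
    {x₀ : U.left ⟶ (P.E ⋙ Over.forget S).obj (Over.mk (𝟙 i₀))}
    (hx : x₀ ≫ (P.q (Over.mk (𝟙 i₀))).left = h.left) : LocallyOfFinitePresentation x₀ := by
  have := P.isIso_q
  rw [(IsIso.eq_comp_inv _).2 hx]
  infer_instance

variable [QuasiSeparatedSpace S] (hD : ∀ i, IsAlgSpace (D.obj i))
  (hDa : ∀ (i j : I) (φ : i ⟶ j), IsAffineMor (D.map φ)) (hc : IsLimit c)
  (hX₀ : IsAlgSpace X₀) (hY₀ : IsAlgSpace Y₀) (hXqc : IsQuasiCompactSp X₀) (hYqc : IsQuasiCompactSp Y₀)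
  (hYqs : IsQuasiSeparatedSp Y₀) (hf₀ : LocP @LocallyOfFinitePresentation f₀)
  {X Y : Sp S} {f : X ⟶ Y} {pY : Y ⟶ Y₀} {qY : Y ⟶ c.pt} (hY : IsPullback pY qY b₀ (c.π.app i₀))
  {pX : X ⟶ X₀} (hX : IsPullback pX f f₀ pY)

omit [IsCofiltered I] [QuasiSeparatedSpace S] in
theorem morChart_lfp (hf₀ : LocP @LocallyOfFinitePresentation f₀) (M : MorChart f₀) :
    LocallyOfFinitePresentation M.h.left :=
  hf₀ (M.κ ≫ pullback.fst f₀ M.b) M.b M.h
    (repWith_comp M.etale_κ (repWith_of_isPullback (IsPullback.of_hasPullback f₀ M.b).flip M.etale_b))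
    M.etale_b (by rw [Category.assoc, pullback.condition, reassoc_of% M.κ_snd])

include hD hX₀ hY₀ in
theorem isAlgSpace_bc {i : I} {φ : i ⟶ i₀} {Xi Yi : Sp S} {fi : Xi ⟶ Yi} {pYi : Yi ⟶ Y₀} {qYi : Yi ⟶ D.obj i}
    (hYi : IsPullback pYi qYi b₀ (D.map φ)) {pXi : Xi ⟶ X₀} (hXi : IsPullback pXi fi f₀ pYi) :
    IsAlgSpace Xi ∧ IsAlgSpace Yi := by
  have h := isAlgSpace_of_isPullback hYi (hD i₀).diag hY₀ (hD i)
  exact ⟨isAlgSpace_of_isPullback hXi hY₀.diag hX₀ h, h⟩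

include hD hDa hc hX₀ hY₀ hXqc hYqc hYqs hf₀ hY hX

theorem exists_locP_stage (Q : MorphismProperty Scheme.{u}) [EtaleLocal Q]
    {R : ∀ {A B : Type u} [CommRing A] [CommRing B], (A →+* B) → Prop} [HasRingHomProperty Q R]
    [Q.IsStableUnderComposition] [Q.IsStableUnderBaseChange]
    (hR : Groth.Limits.RingDescends.{u} R) (hopen : @IsOpenImmersion ≤ Q) (hf : LocP Q f) :
    ∃ (i : I) (φ : i ⟶ i₀), ∀ (Xi Yi : Sp S) (fi : Xi ⟶ Yi) (pYi : Yi ⟶ Y₀) (qYi : Yi ⟶ D.obj i)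
      (_ : IsPullback pYi qYi b₀ (D.map φ)) (pXi : Xi ⟶ X₀) (_ : IsPullback pXi fi f₀ pYi),
      LocP Q fi := by
  obtain ⟨M⟩ := nonempty_morChart hX₀ hY₀ hXqc hYqc hYqs f₀
  obtain ⟨P⟩ := nonempty_pullSys D hDa hc i₀ (M.b ≫ b₀)
  obtain ⟨i, φ, h⟩ := exists_stage_chart M P Q (fun x₀ hx hlim => by
      have := lfp_of_comp_q P (morChart_lfp hf₀ M) hx
      obtain ⟨j, hj⟩ := Groth.Limits.exists_stage_of_ringDescends Q hR hopen (P.E ⋙ Over.forget S) _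
        P.isLimit _ x₀ hlim
      exact ⟨j.left, j.hom, hj⟩) hY hX (fun C => hf C.a' C.b' C.w C.etale_a C.etale_b C.comm)
  refine ⟨i, φ, fun Xi Yi fi pYi qYi hYi pXi hXi => ?_⟩
  obtain ⟨E, q, C, hC⟩ := h Xi Yi fi pYi qYi hYi pXi hXi
  obtain ⟨h₁, h₂⟩ := isAlgSpace_bc hD hX₀ hY₀ hYi hXi
  exact locP_of_chart h₁.diag h₂.diag C.etale_a C.surj_a C.etale_b C.comm hC

theorem exists_surjective_stage (hf : IsSurjectiveMor f) :
    ∃ (i : I) (φ : i ⟶ i₀), ∀ (Xi Yi : Sp S) (fi : Xi ⟶ Yi) (pYi : Yi ⟶ Y₀) (qYi : Yi ⟶ D.obj i)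
      (_ : IsPullback pYi qYi b₀ (D.map φ)) (pXi : Xi ⟶ X₀) (_ : IsPullback pXi fi f₀ pYi),
      IsSurjectiveMor fi := by
  obtain ⟨M⟩ := nonempty_morChart hX₀ hY₀ hXqc hYqc hYqs f₀
  obtain ⟨P⟩ := nonempty_pullSys D hDa hc i₀ (M.b ≫ b₀)
  obtain ⟨i, φ, h⟩ := exists_stage_chart M P @Surjective (fun x₀ hx hlim => by
      have := lfp_of_comp_q P (morChart_lfp hf₀ M) hx
      exact Groth.Calg2.DescendProps.baseDesc_surjective (P.E ⋙ Over.forget S) _ P.isLimit x₀ hlim)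
    hY hX (fun C => C.surj_pair hf)
  refine ⟨i, φ, fun Xi Yi fi pYi qYi hYi pXi hXi y => ?_⟩
  obtain ⟨E, q, C, hC⟩ := h Xi Yi fi pYi qYi hYi pXi hXi
  obtain ⟨t, rfl⟩ := surjective_ofPt_of_repWith C.surj_b y
  obtain ⟨w, rfl⟩ := hC.surj t
  exact ⟨Points.ofPt C.a' w, by rw [Points.map_ofPt, C.comm, ofPt_comp_yon]⟩

end Groth.SpLimit
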