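import Groth.Agent.SpLimit.AffineEventual
import Groth.Agent.SpLimit.DescentRows

/-!
# Descending affine morphisms along limits, and properties of affine morphisms
-/

set_option autoImplicit false
set_option backward.isDefEq.respectTransparency false
set_option backward.isDefEq.respectTransparency.types false

universe u

open CategoryTheory CategoryTheory.Limits AlgebraicGeometry Opposite AlgSp
open Groth.AlgSpBasic

noncomputable section

namespace Groth.SpLimit

variable {S : Scheme.{u}} {X₀ Y₀ Z₀ : Sp S} {f₀ : X₀ ⟶ Y₀} {b₀ : Y₀ ⟶ Z₀} {T : Over S}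
  {b : (yon S).obj T ⟶ Y₀}

/-- The chart of a base change and the fibre product above it. -/
theorem exists_atlas_bc (hbe : RepWith @Etale b) (hbs : RepWith @Surjective b) {Z : Sp S}
    {ψ : Z ⟶ Z₀} {E : Over S} {p : (yon S).obj E ⟶ Z} {q : E ⟶ T}
    (sq : IsPullback p ((yon S).map q) ψ (b ≫ b₀)) {X' Y' : Sp S} {f' : X' ⟶ Y'} {pY : Y' ⟶ Y₀}
    {qY : Y' ⟶ Z} (hY' : IsPullback pY qY b₀ ψ) {pX : X' ⟶ X₀} (hX' : IsPullback pX f' f₀ pY) :
    ∃ (b' : (yon S).obj E ⟶ Y') (μ : pullback f' b' ⟶ pullback f₀ b),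
      RepWith @Etale b' ∧ RepWith @Surjective b' ∧ b' ≫ pY = (yon S).map q ≫ b ∧ b' ≫ qY = p ∧
        IsPullback (pullback.snd f' b' ≫ p) μ ψ (pullback.snd f₀ b ≫ b ≫ b₀) := by
  let b' : (yon S).obj E ⟶ Y' := hY'.lift ((yon S).map q ≫ b) p (by rw [Category.assoc]; exact sq.w.symm)
  have hb' : IsPullback b' ((yon S).map q) pY b :=
    IsPullback.of_right (by rw [hY'.lift_snd]; exact sq) (hY'.lift_fst _ _ _) hY'.flip
  let sqP : IsPullback (pullback.fst f₀ b) (pullback.snd f₀ b) f₀ b := IsPullback.of_hasPullback f₀ b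
  let sqP' : IsPullback (pullback.fst f' b') (pullback.snd f' b') f' b' := IsPullback.of_hasPullback f' b'
  let μ := sqP.lift (pullback.fst f' b' ≫ pX) (pullback.snd f' b' ≫ (yon S).map q) (by
    rw [Category.assoc, hX'.w, reassoc_of% sqP'.w, hb'.w, Category.assoc])
  have hμ : IsPullback μ (pullback.snd f' b') (pullback.snd f₀ b) ((yon S).map q) := by
    refine IsPullback.of_right ?_ (sqP.lift_snd _ _ _) sqP
    rw [sqP.lift_fst, ← hb'.w]
    exact sqP'.paste_horiz hX'
  exact ⟨b', μ, repWith_of_isPullback hb'.flip hbe, repWith_of_isPullback hb'.flip hbs,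
    hY'.lift_fst _ _ _, hY'.lift_snd _ _ _, hμ.flip.paste_horiz sq⟩

variable {I : Type u} [SmallCategory I] [IsCofiltered I] {D : I ⥤ Sp S} {c : Cone D} {i₀ : I}
  {b₀ : Y₀ ⟶ D.obj i₀} [QuasiSeparatedSpace S] (hD : ∀ i, IsAlgSpace (D.obj i))
  (hDa : ∀ (i j : I) (φ : i ⟶ j), IsAffineMor (D.map φ)) (hc : IsLimit c)
  (hBqc : IsQuasiCompactSp (D.obj i₀)) (hBqs : IsQuasiSeparatedSp (D.obj i₀))
  (hX₀ : IsAlgSpace X₀) (hY₀ : IsAlgSpace Y₀) (hXqc : IsQuasiCompactSp X₀)
  (hXqs : IsQuasiSeparatedSp X₀) (hYqs : IsQuasiSeparatedSp Y₀)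
  {X Y : Sp S} {f : X ⟶ Y} {pY : Y ⟶ Y₀} {qY : Y ⟶ c.pt} (hY : IsPullback pY qY b₀ (c.π.app i₀))
  {pX : X ⟶ X₀} (hX : IsPullback pX f f₀ pY)

omit [IsCofiltered I] in
include hD hDa hBqc in
theorem isQuasiCompactSp_stage (k : Over i₀) : IsQuasiCompactSp (D.obj k.left) := by
  obtain ⟨U, a, hU, hae, has⟩ := exists_affine_chart (hD i₀) hBqc
  have hr := isAffineMor_iff_repWith.1 (hDa _ _ k.hom)
  obtain ⟨M, m, t, sq⟩ := hr.rep a
  have : IsAffineHom m.left := hr.property _ _ _ sq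
  have : IsAffine M.left := isAffine_of_isAffineHom m.left
  exact ⟨M, t, repWith_of_isPullback sq.flip hae, repWith_of_isPullback sq.flip has, inferInstance⟩

omit [IsCofiltered I] in
include hD hDa hBqs in
theorem isQuasiSeparatedSp_stage (k : Over i₀) : IsQuasiSeparatedSp (D.obj k.left) := by
  refine isQuasiSeparatedSp_of_mor (f := D.map k.hom) ?_ hBqs
  exact repWith_mono (fun _ _ g (_ : IsClosedImmersion g) => (inferInstance : QuasiCompact g))
    (repWith_diagonal_of_isAffineMor (hD k.left) (hDa _ _ k.hom))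

include hD hDa hc hBqc hBqs hX₀ hY₀ hXqc hXqs hYqs hY hX in
/-- A morphism which is affine in the limit is affine at a stage. -/
theorem exists_isAffineMor_stage' (hYqc : IsQuasiCompactSp Y₀) (hf : IsAffineMor f) :
    ∃ (i : I) (φ : i ⟶ i₀), ∀ (Xi Yi : Sp S) (fi : Xi ⟶ Yi) (pYi : Yi ⟶ Y₀) (qYi : Yi ⟶ D.obj i)
      (_ : IsPullback pYi qYi b₀ (D.map φ)) (pXi : Xi ⟶ X₀) (_ : IsPullback pXi fi f₀ pYi),
      IsAffineMor fi := by
  obtain ⟨T, b, hT, hbe, hbs⟩ := exists_affine_chart hY₀ hYqc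
  obtain ⟨P⟩ := nonempty_pullSys D hDa hc i₀ (b ≫ b₀)
  let V : Sp S := pullback f₀ b
  let e : V ⟶ D.obj i₀ := pullback.snd f₀ b ≫ b ≫ b₀
  have hVa : IsAlgSpace V := isAlgSpace_pullback ⟨_, hX₀⟩ ⟨_, IsAlgSpace.yon_obj T⟩ ⟨_, hY₀⟩ _ _
  have hVqs : IsQuasiSeparatedSp V := isQuasiSeparatedSp_of_isPullback hVa hXqs hYqs
    (isQuasiSeparatedSp_yon_affine T) (IsPullback.of_hasPullback f₀ b)
  let D' : Over i₀ ⥤ Sp S := Over.forget i₀ ⋙ D
  let t : D' ⟶ (Functor.const (Over i₀)).obj (D.obj i₀) :=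
    { app := fun k => D.map k.hom
      naturality := fun k l m => by
        show D.map m.left ≫ D.map l.hom = D.map k.hom ≫ 𝟙 _
        rw [Category.comp_id, ← D.map_comp, Over.w m] }
  have hg : ∀ k, (c.whisker (Over.forget i₀)).π.app k ≫ t.app k = c.π.app i₀ := fun k => c.w k.hom
  have := IsCofiltered.isConnected (C := Over i₀)
  obtain ⟨hc'⟩ := nonempty_isLimit_bcCone t e (c := c.whisker (Over.forget i₀)) hg
    ((Functor.Initial.isLimitWhiskerEquiv (Over.forget i₀) c).symm hc)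
  -- the limit is affine
  obtain ⟨bInf, μ, -, -, -, -, hμ⟩ := exists_atlas_bc hbe hbs P.sqTop hY hX
  obtain ⟨W, w, p, sqW, hW⟩ := hf (P.affSys.affPt) bInf
  let eW : (yon S).obj W ≅ pullback (c.π.app i₀) e := sqW.isoPullback ≪≫ hμ.isoPullback
  have hF := fun k => isAlgSpace_bcSys (fun k : Over i₀ => hD k.left) (hD i₀) hVa t e k
  have hFc : ∀ k, IsQuasiCompactSp ((bcSys t e).obj k) := fun k => by
    obtain ⟨U, a, hU, hae, has⟩ := exists_affine_chart hX₀ hXqc
    obtain ⟨M, m₁, m₂, hM⟩ := exists_pullback_of_diag hY₀.diag (a ≫ f₀) b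
    have : CompactSpace M.left := compactSpace_pullback_of_qs hYqs hM
    have sqV : IsPullback (pullback.fst f₀ b) (pullback.snd f₀ b) f₀ b := IsPullback.of_hasPullback _ _
    let r := sqV.lift ((yon S).map m₁ ≫ a) ((yon S).map m₂) (by rw [Category.assoc]; exact hM.w)
    have sqM : IsPullback ((yon S).map m₁) r a (pullback.fst f₀ b) := by
      refine IsPullback.of_bot ?_ (sqV.lift_fst _ _ _).symm sqV
      rw [sqV.lift_snd]
      exact hM
    have hre : RepWith @Etale r := repWith_of_isPullback sqM hae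
    have hrs : RepWith @Surjective r := repWith_of_isPullback sqM has
    have ha : RepWith @IsAffineHom (pullback.snd (D.map k.hom) e) :=
      repWith_of_isPullback (IsPullback.of_hasPullback (D.map k.hom) e)
        (isAffineMor_iff_repWith.1 (hDa _ _ k.hom))
    obtain ⟨N, n, s, sqN⟩ := ha.rep r
    have : IsAffineHom n.left := ha.property _ _ _ sqN
    have : CompactSpace N.left := QuasiCompact.compactSpace_of_compactSpace n.left
    exact ⟨N, s, repWith_of_isPullback sqN.flip hre, repWith_of_isPullback sqN.flip hrs,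
      inferInstance⟩
  obtain ⟨k, T', hT', ⟨eT⟩⟩ := exists_affine_of_limit (D := bcSys t e) hF
    (fun k l m => isAffineMor_iff_repWith.2 (repWith_of_isPullback (isPullback_bcSys_map t e m)
      (isAffineMor_iff_repWith.1 (hDa _ _ m.left))))
    hc' hFc (fun k => isQuasiSeparatedSp_of_isPullback (hF k)
      (isQuasiSeparatedSp_stage hD hDa hBqs k) hBqs hVqs (IsPullback.of_hasPullback (t.app k) e))
    W eW
  refine ⟨k.left, k.hom, fun Xi Yi fi pYi qYi hYi pXi hXi => ?_⟩
  obtain ⟨bk, μk, hke, hks, -, -, hμk⟩ := exists_atlas_bc hbe hbs (P.sq k) hYi hXi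
  obtain ⟨-, hYa⟩ := isAlgSpace_bc hD hX₀ hY₀ hYi hXi
  let ek : (yon S).obj T' ≅ pullback fi bk := eT ≪≫ hμk.isoPullback.symm
  obtain ⟨v, hv⟩ := (yon S).map_surjective (ek.hom ≫ pullback.snd fi bk)
  have sq₀ : IsPullback (ek.hom ≫ pullback.fst fi bk) ((yon S).map v) fi bk :=
    (IsPullback.of_hasPullback fi bk).of_iso ek.symm (Iso.refl _) (Iso.refl _) (Iso.refl _)
      (by simp) (by simp [hv]) (by simp) (by simp)
  have : IsAffine (P.E.obj k).left := P.affSys.aff k
  have : IsAffine T'.left := hT'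
  have hva : IsAffineHom v.left := inferInstance
  exact isAffineMor_iff_repWith.2 (repWith_of_affWith (affWith_of_cover hYa hke hks sq₀
    (affWith_of_repWith le_rfl ((repWith_yon_map_iff _ v).2 hva))))

end Groth.SpLimit
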