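import Groth.Agent.SpLimit.DiagDescent
import Groth.Agent.AlgSpBasic.ImmersionDescent

/-!
# Descending separated, injective and monomorphic morphisms along limits
-/

set_option autoImplicit false
set_option backward.isDefEq.respectTransparency false
set_option backward.isDefEq.respectTransparency.types false

universe u

open CategoryTheory CategoryTheory.Limits AlgebraicGeometry Opposite AlgSp
open Groth.AlgSpBasic

noncomputable section

namespace Groth.SpLimit

variable {S : Scheme.{u}}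

theorem mono_of_isIso_diagonal {X Y : Sp S} (f : X ⟶ Y) [IsIso (pullback.diagonal f)] : Mono f := by
  refine ⟨fun {Z} a b e => ?_⟩
  have h₁ : pullback.lift a b e = (pullback.lift a b e ≫ CategoryTheory.inv (pullback.diagonal f)) ≫
      pullback.diagonal f := by rw [Category.assoc, IsIso.inv_hom_id, Category.comp_id]
  have h₂ := h₁ =≫ pullback.fst f f
  have h₃ := h₁ =≫ pullback.snd f f
  rw [pullback.lift_fst, Category.assoc, pullback.diagonal_fst, Category.comp_id] at h₂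
  rw [pullback.lift_snd, Category.assoc, pullback.diagonal_snd, Category.comp_id] at h₃
  exact h₂.trans h₃.symm

/-- Over a chart of a morphism locally of finite type the pairs with equal image are finitely presented. -/
theorem lfp_kernelChart {X₀ Y₀ : Sp S} {f₀ : X₀ ⟶ Y₀} (hf₀ : LocP @LocallyOfFiniteType f₀)
    (M : MorChart f₀) {R : Over S} (ρ : R ⟶ pullback M.h M.h)
    (hρ : Etale (ρ ≫ pullback.fst M.h M.h).left) : LocallyOfFinitePresentation ρ.left := by
  have : LocallyOfFiniteType M.h.left :=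
    hf₀ (M.κ ≫ pullback.fst f₀ M.b) M.b M.h
      (repWith_comp M.etale_κ (repWith_of_isPullback (IsPullback.of_hasPullback f₀ M.b).flip M.etale_b))
      M.etale_b (by rw [Category.assoc, pullback.condition, reassoc_of% M.κ_snd])
  have : LocallyOfFiniteType (pullback.fst M.h M.h).left :=
    MorphismProperty.of_isPullback (P := @LocallyOfFiniteType)
      (isPullback_left (IsPullback.of_hasPullback M.h M.h)).flip this
  have : LocallyOfFinitePresentation (ρ.left ≫ (pullback.fst M.h M.h).left) := by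
    rw [← Over.comp_left]; infer_instance
  exact Groth.SpectralTopology.lfp_of_comp ρ.left (pullback.fst M.h M.h).left

theorem lft_kernelChart {X₀ Y₀ : Sp S} {f₀ : X₀ ⟶ Y₀}
    (M : MorChart f₀) {R : Over S} (ρ : R ⟶ pullback M.h M.h)
    (hρ : Etale (ρ ≫ pullback.fst M.h M.h).left) : LocallyOfFiniteType ρ.left := by
  have : LocallyOfFiniteType (ρ.left ≫ (pullback.fst M.h M.h).left) := by
    rw [← Over.comp_left]; infer_instance
  exact locallyOfFiniteType_of_comp ρ.left (pullback.fst M.h M.h).left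

variable {I : Type u} [SmallCategory I] [IsCofiltered I] {D : I ⥤ Sp S} {c : Cone D}
  {i₀ : I} {X₀ Y₀ : Sp S} {f₀ : X₀ ⟶ Y₀} {b₀ : Y₀ ⟶ D.obj i₀}
  [QuasiSeparatedSpace S] (hD : ∀ i, IsAlgSpace (D.obj i))
  (hDa : ∀ (i j : I) (φ : i ⟶ j), IsAffineMor (D.map φ)) (hc : IsLimit c)
  (hX₀ : IsAlgSpace X₀) (hY₀ : IsAlgSpace Y₀) (hXqc : IsQuasiCompactSp X₀) (hYqc : IsQuasiCompactSp Y₀)
  (hXqs : IsQuasiSeparatedSp X₀) (hYqs : IsQuasiSeparatedSp Y₀)
  {X Y : Sp S} {f : X ⟶ Y} {pY : Y ⟶ Y₀} {qY : Y ⟶ c.pt} (hY : IsPullback pY qY b₀ (c.π.app i₀))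
  {pX : X ⟶ X₀} (hX : IsPullback pX f f₀ pY)

include hD hDa hc hX₀ hY₀ hXqc hYqc hXqs hYqs hY hX

theorem exists_separated_stage (hf : IsSeparatedMor f) :
    ∃ (i : I) (φ : i ⟶ i₀), ∀ (Xi Yi : Sp S) (fi : Xi ⟶ Yi) (pYi : Yi ⟶ Y₀) (qYi : Yi ⟶ D.obj i)
      (_ : IsPullback pYi qYi b₀ (D.map φ)) (pXi : Xi ⟶ X₀) (_ : IsPullback pXi fi f₀ pYi),
      IsSeparatedMor fi :=
  exists_diag_stage hD hDa hc hX₀ hY₀ hXqc hYqc hXqs hYqs hY hX @LocallyOfFiniteType @IsClosedImmersion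
    affineDesc_isClosedImmersion (fun M _ ρ h => lft_kernelChart M ρ h) hf

theorem exists_mono_stage [Mono f] (hf₀ : LocP @LocallyOfFiniteType f₀) :
    ∃ (i : I) (φ : i ⟶ i₀), ∀ (Xi Yi : Sp S) (fi : Xi ⟶ Yi) (pYi : Yi ⟶ Y₀) (qYi : Yi ⟶ D.obj i)
      (_ : IsPullback pYi qYi b₀ (D.map φ)) (pXi : Xi ⟶ X₀) (_ : IsPullback pXi fi f₀ pYi),
      Mono fi := by
  obtain ⟨i, φ, h⟩ := exists_diag_stage hD hDa hc hX₀ hY₀ hXqc hYqc hXqs hYqs hY hX
    @LocallyOfFinitePresentation (MorphismProperty.isomorphisms Scheme.{u}) affineDesc_isIso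
    (fun M _ ρ hρ => lfp_kernelChart hf₀ M ρ hρ) (repWith_isIso _)
  refine ⟨i, φ, fun Xi Yi fi pYi qYi hYi pXi hXi => ?_⟩
  have := Groth.AlgSp2.isIso_of_repWith (h Xi Yi fi pYi qYi hYi pXi hXi)
  exact mono_of_isIso_diagonal fi

theorem exists_univInjective_stage (hf : IsUnivInjectiveMor f) (hf₀ : LocP @LocallyOfFiniteType f₀) :
    ∃ (i : I) (φ : i ⟶ i₀), ∀ (Xi Yi : Sp S) (fi : Xi ⟶ Yi) (pYi : Yi ⟶ Y₀) (qYi : Yi ⟶ D.obj i)
      (_ : IsPullback pYi qYi b₀ (D.map φ)) (pXi : Xi ⟶ X₀) (_ : IsPullback pXi fi f₀ pYi),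
      IsUnivInjectiveMor fi := by
  have hYa := isAlgSpace_of_isPullback hY (hD i₀).diag hY₀ (isAlgSpace_pt D hDa hc hD)
  have hXa := isAlgSpace_of_isPullback hX hY₀.diag hX₀ hYa
  obtain ⟨i, φ, h⟩ := exists_diag_stage hD hDa hc hX₀ hY₀ hXqc hYqc hXqs hYqs hY hX
    @LocallyOfFinitePresentation @Surjective affineDesc_surjective
    (fun M _ ρ hρ => lfp_kernelChart hf₀ M ρ hρ)
    (repWith_surjective_of_points (monoLFT_diagonal hXa f).rep (surjective_diagonal_of_univInjective hXa hf))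
  exact ⟨i, φ, fun Xi Yi fi pYi qYi hYi pXi hXi =>
    isUnivInjectiveMor_of_diagonal (surjective_map_of_repWith (h Xi Yi fi pYi qYi hYi pXi hXi))⟩

end Groth.SpLimit
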