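import Groth.Agent.SpLimit.Stage
import Groth.Agent.AlgSpBasic.AffineMor
import Groth.Agent.AlgSpBasic.LocPInst
import Groth.Agent.AlgSp2.InfGlue
import Groth.Agent.SpectralTopology.FpCancel

/-!
# Maps from limits of affine schemes to algebraic spaces locally of finite presentation
-/

set_option autoImplicit false
set_option backward.isDefEq.respectTransparency false
set_option backward.isDefEq.respectTransparency.types false

universe u

open CategoryTheory CategoryTheory.Limits AlgebraicGeometry AlgSp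
open Groth.AlgSpBasic

noncomputable section

namespace Groth.SpLimit

variable {S : Scheme.{u}}

/-- A chart property of a map of representables is a property of the map. -/
theorem prop_of_locP_yon {P : MorphismProperty Scheme.{u}} {U V : Over S} {g : U ⟶ V}
    (h : LocP P ((yon S).map g)) : P g.left :=
  h (𝟙 _) (𝟙 _) g (repWith_id _ _) (repWith_id _ _) (by simp)

/-- An etale map is locally of finite presentation on charts. -/
theorem locP_lfp_of_etale {X Y : Sp S} {f : X ⟶ Y} (hf : RepWith @Etale f) :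
    LocP @LocallyOfFinitePresentation f :=
  locP_of_repWith (repWith_mono
    (fun _ _ g (_ : Etale g) => inferInstanceAs (LocallyOfFinitePresentation g)) hf)

/-- An affine etale cover of an affine scheme lifting finitely many maps to an atlas. -/
theorem exists_affine_lift {X : Sp S} {U : Over S} {p : (yon S).obj U ⟶ X}
    (hp : RepWith @Etale p) (hps : RepWith @Surjective p) {T : Over S} [IsAffine T.left]
    (x : (yon S).obj T ⟶ X) :
    ∃ (T' : Over S) (f : T' ⟶ T) (u : T' ⟶ U), IsAffine T'.left ∧ Etale f.left ∧ Surjective f.left ∧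
      (yon S).map u ≫ p = (yon S).map f ≫ x := by
  obtain ⟨W, snd, fst, sq⟩ := hp.rep x
  obtain ⟨fst, rfl⟩ := (yon S).map_surjective fst
  have : Etale snd.left := hp.property _ _ _ sq
  have : Surjective snd.left := hps.property _ _ _ sq
  obtain ⟨T', k, hT', hk, hks⟩ := exists_affine_refinement snd
  refine ⟨T', k ≫ snd, k ≫ fst, hT', (inferInstance : Etale (k.left ≫ snd.left)), hks, ?_⟩
  rw [Functor.map_comp, Category.assoc, sq.w, Functor.map_comp, Category.assoc]

variable {I : Type u} [SmallCategory I] [IsCofiltered I] (A : AffSys S I)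
variable {X Y : Sp S} (hX : IsAlgSpace X) (hY : IsAlgSpace Y) {a : X ⟶ Y}
  (ha : LocP @LocallyOfFinitePresentation a)

include hX hY ha

/-- Maps from a stage which agree in the limit agree at a later stage. -/
theorem eq_eventually {i : I} (x₁ x₂ : (yon S).obj (A.D.obj i) ⟶ X) (h : x₁ ≫ a = x₂ ≫ a)
    (he : (yon S).map (A.c.π.app i) ≫ x₁ = (yon S).map (A.c.π.app i) ≫ x₂) :
    ∃ (j : I) (φ : j ⟶ i), (yon S).map (A.D.map φ) ≫ x₁ = (yon S).map (A.D.map φ) ≫ x₂ := by
  obtain ⟨U, p, hp, hps⟩ := hX.atlas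
  obtain ⟨T₁, f₁, v₁, hT₁, hf₁, hf₁s, hv₁⟩ := exists_affine_lift hp hps x₁
  obtain ⟨T', g, u₂, hT', hg, hgs, hu₂⟩ := exists_affine_lift hp hps ((yon S).map f₁ ≫ x₂)
  obtain ⟨f, hf⟩ : ∃ f, f = g ≫ f₁ := ⟨_, rfl⟩
  obtain ⟨u₁, hu⟩ : ∃ u, u = g ≫ v₁ := ⟨_, rfl⟩
  have hu₁ : (yon S).map u₁ ≫ p = (yon S).map f ≫ x₁ := by
    rw [hu, Functor.map_comp, Category.assoc, hv₁, ← Category.assoc, ← Functor.map_comp, ← hf]
  have hu₂' : (yon S).map u₂ ≫ p = (yon S).map f ≫ x₂ := by
    rw [hu₂, ← Category.assoc, ← Functor.map_comp, ← hf]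
  obtain ⟨R, r₁, r₂, hR⟩ := exists_pullback_of_diag hX.diag p p
  obtain ⟨P, q₁, q₂, hP⟩ := exists_pullback_of_diag hY.diag (p ≫ a) (p ≫ a)
  have hpa : LocP @LocallyOfFinitePresentation (p ≫ a) :=
    locP_comp (IsAlgSpace.yon_obj U) hX hY (locP_lfp_of_etale hp) ha
  have hq₁ : LocallyOfFinitePresentation q₁.left := prop_of_locP_yon
    (locP_of_isPullback (IsAlgSpace.yon_obj U) hY (IsAlgSpace.yon_obj U) hP.flip hpa)
  have hr₁ : Etale r₁.left := hp.property _ _ _ hR.flip
  obtain ⟨ρ, hρ⟩ := (yon S).map_surjective (hP.lift ((yon S).map r₁) ((yon S).map r₂)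
    (by rw [reassoc_of% hR.w]))
  have hρ₁ : ρ ≫ q₁ = r₁ := (yon S).map_injective (by rw [Functor.map_comp, hρ, hP.lift_fst])
  have hρ₂ : ρ ≫ q₂ = r₂ := (yon S).map_injective (by rw [Functor.map_comp, hρ, hP.lift_snd])
  have hρf : LocallyOfFinitePresentation ρ.left := by
    have : LocallyOfFinitePresentation (ρ.left ≫ q₁.left) := by
      rw [← Over.comp_left, hρ₁]; infer_instance
    exact Groth.SpectralTopology.lfp_of_comp ρ.left q₁.left
  let B := A.pull i f
  let k₀ : Over i := Over.mk (𝟙 i)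
  let sn : B.D.obj k₀ ⟶ T' := pullback.snd _ _
  obtain ⟨w, hw⟩ := (yon S).map_surjective (hP.lift ((yon S).map (sn ≫ u₁)) ((yon S).map (sn ≫ u₂))
    (by
      rw [Functor.map_comp, Functor.map_comp, Category.assoc, Category.assoc, reassoc_of% hu₁, reassoc_of% hu₂', h]))
  have hπ : B.c.π.app k₀ ≫ pullback.fst _ f = pullback.fst (A.c.π.app i) f ≫ A.c.π.app i :=
    pullback.lift_fst _ _ _
  have hπ' : B.c.π.app k₀ ≫ sn = pullback.snd (A.c.π.app i) f := pullback.lift_snd _ _ _
  obtain ⟨r, hr⟩ := (yon S).map_surjective (hR.lift ((yon S).map (B.c.π.app k₀ ≫ sn ≫ u₁))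
    ((yon S).map (B.c.π.app k₀ ≫ sn ≫ u₂)) (by
      rw [reassoc_of% hπ', reassoc_of% hπ']
      simp only [Functor.map_comp, Category.assoc, hu₁, hu₂']
      rw [← Category.assoc ((yon S).map _) ((yon S).map f), ← Category.assoc ((yon S).map _) ((yon S).map f),
        ← Functor.map_comp, ← pullback.condition, Functor.map_comp, Category.assoc, Category.assoc, he]))
  have hrw : B.c.π.app k₀ ≫ w = r ≫ ρ := by
    refine (yon S).map_injective (hP.hom_ext ?_ ?_)
    · rw [Functor.map_comp, Category.assoc, hw, hP.lift_fst, Functor.map_comp _ r, Category.assoc,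
        hρ, hP.lift_fst, hr, hR.lift_fst, ← Functor.map_comp]
    · rw [Functor.map_comp, Category.assoc, hw, hP.lift_snd, Functor.map_comp _ r, Category.assoc,
        hρ, hP.lift_snd, hr, hR.lift_snd, ← Functor.map_comp]
  obtain ⟨k, φ, s', hs', -⟩ := exists_factor_stage B (Z := pullback w ρ) (pullback.fst w ρ)
    (MorphismProperty.of_isPullback ((IsPullback.of_hasPullback w ρ).map (Over.forget S)).flip hρf)
    (pullback.lift _ r hrw) (pullback.lift_fst _ _ _)
  refine ⟨k.left, k.hom, ?_⟩
  let fk : B.D.obj k ⟶ A.D.obj k.left := pullback.fst (A.D.map k.hom) f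
  have hfs : Surjective f.left := hf ▸ inferInstanceAs (Surjective (g.left ≫ f₁.left))
  have hfe : Etale f.left := hf ▸ inferInstanceAs (Etale (g.left ≫ f₁.left))
  have hsq := ((IsPullback.of_hasPullback (A.D.map k.hom) f).map (Over.forget S)).flip
  have : Etale fk.left := MorphismProperty.of_isPullback hsq hfe
  have : Surjective fk.left := MorphismProperty.of_isPullback hsq hfs
  have hφ : B.D.map φ ≫ sn = pullback.snd (A.D.map k.hom) f := pullback.lift_snd _ _ _
  have e : B.D.map φ ≫ w = (s' ≫ pullback.snd w ρ) ≫ ρ := by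
    rw [← hs', Category.assoc, Category.assoc, pullback.condition]
  refine Groth.AlgSp2.hom_ext_of_fppf fk ?_
  have hwq₁ : w ≫ q₁ = sn ≫ u₁ := (yon S).map_injective (by rw [Functor.map_comp, hw, hP.lift_fst])
  have hwq₂ : w ≫ q₂ = sn ≫ u₂ := (yon S).map_injective (by rw [Functor.map_comp, hw, hP.lift_snd])
  have key : (yon S).map (B.D.map φ ≫ sn ≫ u₁) ≫ p = (yon S).map (B.D.map φ ≫ sn ≫ u₂) ≫ p := by
    rw [← hwq₁, ← hwq₂, reassoc_of% e, reassoc_of% e, hρ₁, hρ₂]
    simp only [Functor.map_comp, Category.assoc, hR.w]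
  have hc : (yon S).map fk ≫ (yon S).map (A.D.map k.hom) = (yon S).map (B.D.map φ ≫ sn) ≫ (yon S).map f := by
    rw [← Functor.map_comp, ← Functor.map_comp, hφ, pullback.condition]
  simp only [Functor.map_comp, Category.assoc] at key hc ⊢
  rw [reassoc_of% hc, reassoc_of% hc, ← hu₁, ← hu₂']
  exact key

/-- A map from the limit lying over a map from a stage comes from a later stage. -/
theorem exists_lift_stage {i : I} (y : (yon S).obj (A.D.obj i) ⟶ Y)
    (x : (yon S).obj A.c.pt ⟶ X) (hxy : x ≫ a = (yon S).map (A.c.π.app i) ≫ y) :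
    ∃ (j : I) (φ : j ⟶ i) (x' : (yon S).obj (A.D.obj j) ⟶ X),
      (yon S).map (A.c.π.app j) ≫ x' = x ∧ x' ≫ a = (yon S).map (A.D.map φ) ≫ y := by
  obtain ⟨U, p, hp, hps⟩ := hX.atlas
  have : IsAffine (A.c.whisker (Over.forget i)).pt.left := A.affPt
  obtain ⟨W, f, u, hW, hfe, hfs, hu⟩ := exists_affine_lift hp hps (T := (A.above i).c.pt) x
  obtain ⟨k, W₀, f₀, top, sq, hW₀, hf₀e, hf₀s⟩ :=
    exists_etale_surjective_stage (A.above i) f hfe hfs
  let B := A.pull k.left (W := W₀) f₀
  let k₀ : Over k.left := Over.mk (𝟙 k.left)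
  let b₀ : B.D.obj k₀ ⟶ A.D.obj k.left := pullback.fst (A.D.map k₀.hom) f₀
  obtain ⟨q, hq⟩ : ∃ q, q = (yon S).map (b₀ ≫ A.D.map k.hom) ≫ y := ⟨_, rfl⟩
  obtain ⟨Z, z₁, z₂, hZ⟩ := exists_pullback_of_diag hY.diag (p ≫ a) q
  have hpa : LocP @LocallyOfFinitePresentation (p ≫ a) :=
    locP_comp (IsAlgSpace.yon_obj U) hX hY (locP_lfp_of_etale hp) ha
  have hz₂ : LocallyOfFinitePresentation z₂.left := prop_of_locP_yon
    (locP_of_isPullback (IsAlgSpace.yon_obj U) hY (IsAlgSpace.yon_obj _) hZ hpa)
  let e : B.c.pt ≅ W := sq.flip.isoPullback.symm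
  have he₁ : e.hom ≫ f = pullback.fst (A.c.π.app k.left) f₀ := sq.flip.isoPullback_inv_fst
  have hbπ : B.c.π.app k₀ ≫ b₀ = pullback.fst (A.c.π.app k.left) f₀ ≫ A.c.π.app k.left :=
    pullback.lift_fst _ _ _
  obtain ⟨s, hs⟩ := (yon S).map_surjective (hZ.lift ((yon S).map (e.hom ≫ u))
    ((yon S).map (B.c.π.app k₀)) (by
      rw [hq, Functor.map_comp, Category.assoc, reassoc_of% hu, hxy, ← Category.assoc,
        ← Category.assoc, ← Functor.map_comp, ← Functor.map_comp, ← Category.assoc ((yon S).map _) _ y,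
        ← Functor.map_comp, he₁, reassoc_of% hbπ, A.c.w]))
  obtain ⟨l, φ, s', hs', hs''⟩ := exists_factor_stage B z₂ hz₂ s
    ((yon S).map_injective (by rw [Functor.map_comp, hs, hZ.lift_snd]))
  obtain ⟨v, hv⟩ : ∃ v, v = s' ≫ z₁ := ⟨_, rfl⟩
  let fl : B.D.obj l ⟶ A.D.obj l.left := pullback.fst (A.D.map l.hom) f₀
  have hvu : B.c.π.app l ≫ v = e.hom ≫ u := by
    rw [hv, reassoc_of% hs'']
    exact (yon S).map_injective (by rw [Functor.map_comp, hs, hZ.lift_fst])
  have hbl : B.D.map φ ≫ b₀ = fl ≫ A.D.map l.hom := by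
    refine (pullback.lift_fst _ _ _).trans ?_
    exact congrArg (fun m => fl ≫ A.D.map m) ((Category.comp_id _).symm.trans (Over.w φ) : φ.left = l.hom)
  have hva : (yon S).map v ≫ p ≫ a = (yon S).map fl ≫ (yon S).map (A.D.map (l.hom ≫ k.hom)) ≫ y := by
    rw [hv, Functor.map_comp, Category.assoc, hZ.w, ← Category.assoc, ← Functor.map_comp, hs', hq,
      ← Category.assoc, ← Functor.map_comp, reassoc_of% hbl, ← A.D.map_comp, Functor.map_comp,
      Category.assoc]
  have hflsq := ((IsPullback.of_hasPullback (A.D.map l.hom) f₀).map (Over.forget S)).flip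
  have hfle : Etale fl.left := MorphismProperty.of_isPullback hflsq hf₀e
  have hfls : Surjective fl.left := MorphismProperty.of_isPullback hflsq hf₀s
  have hsq₂ := (IsPullback.of_hasPullback fl fl).map (Over.forget S)
  have haP : IsAffine (pullback fl fl).left := by
    have : IsAffine (B.D.obj l).left := B.aff l
    have : IsAffineHom ((Over.forget S).map fl) := inferInstanceAs (IsAffineHom fl.left)
    have : IsAffineHom (pullback.fst fl fl).left :=
      MorphismProperty.of_isPullback (P := @IsAffineHom) hsq₂.flip inferInstance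
    exact isAffine_of_isAffineHom (pullback.fst fl fl).left
  let g₂ : pullback fl fl ⟶ A.D.obj l.left := pullback.fst fl fl ≫ fl
  let C := A.pull l.left g₂
  let m₀ : Over l.left := Over.mk (𝟙 l.left)
  let sn : C.D.obj m₀ ⟶ pullback fl fl := pullback.snd _ _
  have hsn : C.c.π.app m₀ ≫ sn = pullback.snd (A.c.π.app l.left) g₂ := pullback.lift_snd _ _ _
  have hxπ : (yon S).map (B.c.π.app l) ≫ (yon S).map v ≫ p =
      (yon S).map (pullback.fst (A.c.π.app k.left) f₀) ≫ x := by
    rw [← Category.assoc, ← Functor.map_comp, hvu, ← he₁, Functor.map_comp, Category.assoc, hu,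
      Functor.map_comp, Category.assoc]
  have hlim : ∀ pr : pullback fl fl ⟶ B.D.obj l, pr ≫ fl = g₂ →
      (yon S).map (C.c.π.app m₀ ≫ sn ≫ pr) ≫ (yon S).map v ≫ p =
        (yon S).map (pullback.fst (A.c.π.app l.left) g₂) ≫ x := fun pr hpr => by
    have w : pullback.fst (A.c.π.app l.left) g₂ ≫ A.c.π.app k.left =
        (pullback.snd (A.c.π.app l.left) g₂ ≫ pr ≫ pullback.snd (A.D.map l.hom) f₀) ≫ f₀ := by
      rw [Category.assoc, Category.assoc, ← pullback.condition, ← A.c.w l.hom,
        reassoc_of% (pullback.condition : pullback.fst (A.c.π.app l.left) g₂ ≫ _ = _),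
        ← reassoc_of% hpr]
    let τ : C.c.pt ⟶ B.c.pt := pullback.lift _ _ w
    have hτ : τ ≫ B.c.π.app l = C.c.π.app m₀ ≫ sn ≫ pr := by
      rw [reassoc_of% hsn]
      apply pullback.hom_ext
      · rw [Category.assoc]
        erw [pullback.lift_fst]
        rw [← Category.assoc]
        erw [pullback.lift_fst, pullback.condition]
        exact (congrArg (_ ≫ ·) hpr.symm).trans (Category.assoc _ _ _).symm
      · rw [Category.assoc]
        erw [pullback.lift_snd, pullback.lift_snd]
        try rw [Category.assoc]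
        rfl
    rw [← hτ, Functor.map_comp, Category.assoc, hxπ, ← Category.assoc, ← Functor.map_comp]
    erw [pullback.lift_fst]
  obtain ⟨m, ψ, hψ⟩ := eq_eventually C hX hY ha (i := m₀)
    ((yon S).map (sn ≫ pullback.fst fl fl) ≫ (yon S).map v ≫ p)
    ((yon S).map (sn ≫ pullback.snd fl fl) ≫ (yon S).map v ≫ p)
    (by
      simp only [Category.assoc]
      rw [hva, ← Category.assoc, ← Category.assoc ((yon S).map (sn ≫ pullback.snd fl fl)), ← Functor.map_comp,
        ← Functor.map_comp, Category.assoc, Category.assoc, pullback.condition])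
    (by
      rw [← Category.assoc, ← Functor.map_comp, ← Category.assoc _ ((yon S).map (sn ≫ pullback.snd _ _)),
        ← Functor.map_comp, hlim _ rfl, hlim _ pullback.condition.symm])
  let Wm : Over S := pullback (A.D.map m.hom) fl
  let fm : Wm ⟶ A.D.obj m.left := pullback.fst _ _
  have hmsq := ((IsPullback.of_hasPullback (A.D.map m.hom) fl).map (Over.forget S)).flip
  have : Etale fm.left := MorphismProperty.of_isPullback hmsq hfle
  have : Surjective fm.left := MorphismProperty.of_isPullback hmsq hfls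
  obtain ⟨x', hx'⟩ := Groth.AlgSp2.exists_glue_of_fppf fm
    ((yon S).map (pullback.snd (A.D.map m.hom) fl ≫ v) ≫ p) fun T p₁ p₂ hp₁₂ => by
      let pp : T ⟶ pullback fl fl := pullback.lift (p₁ ≫ pullback.snd _ _) (p₂ ≫ pullback.snd _ _) (by
        rw [Category.assoc, Category.assoc, ← pullback.condition, reassoc_of% hp₁₂])
      let t : T ⟶ C.D.obj m := pullback.lift (p₁ ≫ fm) pp (by
        rw [pullback.lift_fst_assoc, Category.assoc, Category.assoc]
        exact congrArg (p₁ ≫ ·) pullback.condition)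
      have ht : t ≫ C.D.map ψ ≫ sn = pp := by
        erw [pullback.lift_snd]
        exact pullback.lift_snd _ _ _
      have := congrArg ((yon S).map t ≫ ·) hψ
      simp only [← Category.assoc, ← Functor.map_comp] at this ⊢
      simp only [Category.assoc, reassoc_of% ht] at this
      simp only [pp, pullback.lift_fst_assoc, pullback.lift_snd_assoc, Category.assoc] at this ⊢
      simpa only [Functor.map_comp, Category.assoc] using this
  refine ⟨m.left, m.hom ≫ l.hom ≫ k.hom, x', ?_, ?_⟩
  · have w : pullback.fst (A.c.π.app k.left) f₀ ≫ A.c.π.app m.left ≫ A.D.map m.hom =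
        B.c.π.app l ≫ fl := by
      rw [A.c.w]
      exact (pullback.lift_fst _ _ _).symm
    let σ : B.c.pt ⟶ Wm := pullback.lift (pullback.fst (A.c.π.app k.left) f₀ ≫ A.c.π.app m.left)
      (B.c.π.app l) ((Category.assoc _ _ _).trans w)
    have hπsq := ((IsPullback.of_hasPullback (A.c.π.app k.left) f₀).map (Over.forget S)).flip
    have : Etale (pullback.fst (A.c.π.app k.left) f₀).left := MorphismProperty.of_isPullback hπsq hf₀e
    have : Surjective (pullback.fst (A.c.π.app k.left) f₀).left := MorphismProperty.of_isPullback hπsq hf₀s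
    refine Groth.AlgSp2.hom_ext_of_fppf (pullback.fst (A.c.π.app k.left) f₀) ?_
    have h₁ : σ ≫ fm = pullback.fst (A.c.π.app k.left) f₀ ≫ A.c.π.app m.left := pullback.lift_fst _ _ _
    have h₂ : σ ≫ pullback.snd (A.D.map m.hom) fl = B.c.π.app l := pullback.lift_snd _ _ _
    rw [← hxπ, ← h₂, ← Category.assoc, ← Functor.map_comp, ← h₁]
    simp only [Functor.map_comp, Category.assoc, hx']
  · refine Groth.AlgSp2.hom_ext_of_fppf fm ?_
    rw [reassoc_of% hx', Functor.map_comp, Category.assoc, hva, ← Category.assoc, ← Functor.map_comp,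
      ← pullback.condition, Functor.map_comp, Category.assoc, ← Category.assoc ((yon S).map (A.D.map m.hom)),
      ← Functor.map_comp, ← A.D.map_comp]

end Groth.SpLimit
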