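import Groth.Agent.SpectralTopology.DescendFP
import Groth.Agent.Calg2.DescendProps
import Groth.Agent.Limits.SmoothDescent
import Mathlib.AlgebraicGeometry.AffineTransitionLimit
import Mathlib.CategoryTheory.Limits.Constructions.Over.Connected

/-!
# Stages of systems of affine schemes over a base
-/

set_option autoImplicit false
set_option backward.isDefEq.respectTransparency false
set_option backward.isDefEq.respectTransparency.types false

universe u

open CategoryTheory CategoryTheory.Limits AlgebraicGeometry

noncomputable section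

namespace Groth.SpLimit

variable {S : Scheme.{u}}

/-- A cofiltered system of affine schemes over `S` with a limit. -/
structure AffSys (S : Scheme.{u}) (I : Type u) [SmallCategory I] where
  /-- The system. -/
  D : I ⥤ Over S
  /-- The cone. -/
  c : Cone D
  isLimit : IsLimit ((Over.forget S).mapCone c)
  aff : ∀ i, IsAffine (D.obj i).left
  affPt : IsAffine c.pt.left

variable {I : Type u} [SmallCategory I] (A : AffSys S I)

instance (i : I) : IsAffine (A.D.obj i).left := A.aff i
instance (i : I) : IsAffine (((Functor.const I).obj A.c.pt).obj i).left := A.affPt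
instance : IsAffine A.c.pt.left := A.affPt
instance (i : I) : IsAffine ((A.D ⋙ Over.forget S).obj i) := A.aff i
instance (i j : I) (φ : i ⟶ j) : IsAffineHom ((A.D ⋙ Over.forget S).map φ) :=
  inferInstanceAs (IsAffineHom (A.D.map φ).left)

variable [IsCofiltered I]

theorem exists_factor_stage {i : I} {Z : Over S} (z : Z ⟶ A.D.obj i)
    (hz : LocallyOfFinitePresentation z.left) (s : A.c.pt ⟶ Z) (hs : s ≫ z = A.c.π.app i) :
    ∃ (j : I) (φ : j ⟶ i) (s' : A.D.obj j ⟶ Z), s' ≫ z = A.D.map φ ∧ A.c.π.app j ≫ s' = s := by
  let D' : Over i ⥤ Scheme.{u} := Over.forget i ⋙ A.D ⋙ Over.forget S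
  let c' : Cone D' := ((Over.forget S).mapCone A.c).whisker (Over.forget i)
  have hc' : IsLimit c' := (Functor.Initial.isLimitWhiskerEquiv (Over.forget i) _).symm A.isLimit
  let t : D' ⟶ (Functor.const (Over i)).obj (A.D.obj i).left :=
    { app := fun k => (A.D.map k.hom).left
      naturality := fun k l m => by
        simp [D', ← Over.comp_left, ← Functor.map_comp] }
  have hAff : ∀ k, IsAffine (D'.obj k) := fun k => A.aff k.left
  have : ∀ k, CompactSpace (D'.obj k) := fun k => inferInstanceAs (CompactSpace (A.D.obj k.left).left)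
  have : ∀ k, QuasiSeparatedSpace (D'.obj k) := fun k => inferInstanceAs (QuasiSeparatedSpace (A.D.obj k.left).left)
  obtain ⟨k, g, hg₁, hg₂⟩ := Scheme.exists_π_app_comp_eq_of_locallyOfFinitePresentation D' t z.left
    c' hc' s.left (by
      ext k : 2
      simp [D', c', t, ← Over.comp_left, hs])
  refine ⟨k.left, k.hom, Over.homMk g ?_, Over.OverMorphism.ext hg₂, Over.OverMorphism.ext hg₁⟩
  rw [← Over.w z, ← Category.assoc, hg₂]
  exact Over.w (A.D.map k.hom)

theorem exists_eq_stage {i : I} {Z B : Over S} (z : Z ⟶ B) (hz : LocallyOfFiniteType z.left)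
    (a b : A.D.obj i ⟶ Z) (h : a ≫ z = b ≫ z) (he : A.c.π.app i ≫ a = A.c.π.app i ≫ b) :
    ∃ (j : I) (φ : j ⟶ i), A.D.map φ ≫ a = A.D.map φ ≫ b := by
  let D' : Over i ⥤ Scheme.{u} := Over.forget i ⋙ A.D ⋙ Over.forget S
  let c' : Cone D' := ((Over.forget S).mapCone A.c).whisker (Over.forget i)
  have hc' : IsLimit c' := (Functor.Initial.isLimitWhiskerEquiv (Over.forget i) _).symm A.isLimit
  let t : D' ⟶ (Functor.const (Over i)).obj B.left :=
    { app := fun k => (A.D.map k.hom ≫ a ≫ z).left
      naturality := fun k l m => by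
        simp [D', ← Over.comp_left, ← Functor.map_comp_assoc] }
  let k₀ : Over i := Over.mk (𝟙 i)
  have hAff : ∀ k, IsAffine (D'.obj k) := fun k => A.aff k.left
  have : ∀ k, CompactSpace (D'.obj k) := fun k => inferInstanceAs (CompactSpace (A.D.obj k.left).left)
  have : ∀ (k l : Over i) (m : k ⟶ l), IsAffineHom (D'.map m) := fun k l m =>
    inferInstanceAs (IsAffineHom (A.D.map m.left).left)
  obtain ⟨k, m, hk⟩ := Scheme.exists_hom_comp_eq_comp_of_locallyOfFiniteType D' t z.left c' hc'
    (i := k₀) a.left b.left (by simp [t, k₀]) (by simp [t, k₀, h]) (by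
      simp only [c', k₀]
      exact congrArg CommaMorphism.left he)
  exact ⟨k.left, k.hom, Over.OverMorphism.ext (by
    have e : m.left = k.hom := (Category.comp_id _).symm.trans (Over.w m)
    rw [← e]
    exact hk)⟩

/-- The system of base changes of a scheme over a stage. -/
def AffSys.pull (i : I) {W : Over S} (f : W ⟶ A.D.obj i) [IsAffine W.left] : AffSys S (Over i) where
  D := Over.post A.D ⋙ Over.pullback f ⋙ Over.forget W
  c := (Over.forget W).mapCone ((Over.pullback f).mapCone ((Over.conePost A.D i).obj A.c))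
  isLimit := by
    have := IsCofiltered.isConnected (C := Over i)
    have := IsCofiltered.isConnected (C := I)
    have hc : IsLimit A.c := isLimitOfReflects (Over.forget S) A.isLimit
    exact isLimitOfPreserves (Over.forget S) (isLimitOfPreserves (Over.forget W)
      (isLimitOfPreserves (Over.pullback f) (Over.isLimitConePost i hc)))
  aff k := by
    have hp := (IsPullback.of_hasPullback (A.D.map k.hom) f).map (Over.forget S)
    have : IsAffineHom ((Over.forget S).map f) := inferInstanceAs (IsAffineHom f.left)
    have : IsAffineHom (pullback.fst (A.D.map k.hom) f).left :=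
      MorphismProperty.of_isPullback (P := @IsAffineHom) hp.flip inferInstance
    exact isAffine_of_isAffineHom (pullback.fst (A.D.map k.hom) f).left
  affPt := by
    have hp := (IsPullback.of_hasPullback (A.c.π.app i) f).map (Over.forget S)
    have : IsAffineHom ((Over.forget S).map f) := inferInstanceAs (IsAffineHom f.left)
    have : IsAffineHom (pullback.fst (A.c.π.app i) f).left :=
      MorphismProperty.of_isPullback (P := @IsAffineHom) hp.flip inferInstance
    exact isAffine_of_isAffineHom (pullback.fst (A.c.π.app i) f).left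

/-- The system above a stage. -/
def AffSys.above (i : I) : AffSys S (Over i) where
  D := Over.forget i ⋙ A.D
  c := A.c.whisker (Over.forget i)
  isLimit := IsLimit.ofIsoLimit ((Functor.Initial.isLimitWhiskerEquiv (Over.forget i) _).symm A.isLimit)
    (Cone.ext (Iso.refl _))
  aff k := A.aff k.left
  affPt := A.affPt

theorem prop_fst_iff {P : MorphismProperty Scheme.{u}} [P.RespectsIso] {X Y Z : Scheme.{u}}
    (f : X ⟶ Z) (g : Y ⟶ Z) : P (pullback.fst g f) ↔ P (pullback.snd f g) := by
  rw [← pullbackSymmetry_hom_comp_snd, P.cancel_left_of_respectsIso]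

/-- An etale surjection onto the limit by an affine scheme comes from a stage. -/
theorem exists_etale_surjective_stage {W : Over S} [IsAffine W.left] (f : W ⟶ A.c.pt)
    (he : Etale f.left) (hs : Surjective f.left) :
    ∃ (i : I) (W₀ : Over S) (f₀ : W₀ ⟶ A.D.obj i) (top : W ⟶ W₀),
      IsPullback top f f₀ (A.c.π.app i) ∧ IsAffine W₀.left ∧ Etale f₀.left ∧ Surjective f₀.left := by
  let D' := A.D ⋙ Over.forget S
  have : Etale f.left := he
  have hlfp : LocallyOfFinitePresentation f.left := inferInstance
  have hqc : QuasiCompact f.left := inferInstance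
  have hqs : QuasiSeparated f.left := inferInstance
  obtain ⟨i, ⟨M⟩⟩ := Groth.SpectralTopology.exists_stageModel (D := D') (c := (Over.forget S).mapCone A.c)
    A.isLimit (X := W.left) (f := f.left)
  have htr : ∀ (P : MorphismProperty Scheme.{u}) [P.RespectsIso] {i : I}
      (M : Groth.SpectralTopology.StageModel (show W.left ⟶ ((Over.forget S).mapCone A.c).pt from f.left) i),
      P f.left → P (pullback.snd M.hom (((Over.forget S).mapCone A.c).π.app i)) := fun P _ i M h => by
    rw [← M.sq.isoPullback_inv_snd, P.cancel_left_of_respectsIso]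
    exact h
  have : CompactSpace M.obj :=
    have : IsAffine (D'.obj i) := A.aff i
    QuasiCompact.compactSpace_of_compactSpace M.hom
  obtain ⟨j₁, h₁⟩ := Groth.Limits.exists_stage_of_ringDescends @Etale Groth.Limits.ringDescends_etale
    (fun _ _ _ _ => inferInstance) D' _ A.isLimit i M.hom (htr @Etale M he)
  let M₁ := M.pull j₁.hom
  have e₁ : Etale M₁.hom := (prop_fst_iff (P := @Etale) _ _).2 h₁
  obtain ⟨j₂, φ₂, h₂⟩ := Groth.Calg2.DescendProps.baseDesc_surjective D' _ A.isLimit M₁.hom (htr @Surjective M₁ hs)
  let M₂ := M₁.pull φ₂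
  have s₂ : Surjective M₂.hom := (prop_fst_iff (P := @Surjective) _ _).2 h₂
  have e₂ : Etale M₂.hom := MorphismProperty.pullback_fst (P := @Etale) _ _ e₁
  obtain ⟨j₃, φ₃, h₃⟩ := Groth.Calg2.DescendProps.baseDesc_isAffineHom D' _ A.isLimit M₂.hom
    (htr @IsAffineHom M₂ inferInstance)
  let M₃ := M₂.pull φ₃
  have a₃ : IsAffineHom M₃.hom := (prop_fst_iff (P := @IsAffineHom) _ _).2 h₃
  refine ⟨j₃, Over.mk (M₃.hom ≫ (A.D.obj j₃).hom), Over.homMk M₃.hom rfl,
    Over.homMk M₃.map (by
      change M₃.map ≫ M₃.hom ≫ (A.D.obj j₃).hom = W.hom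
      rw [← Over.w f, ← Category.assoc, M₃.sq.w, Category.assoc]
      exact congrArg (f.left ≫ ·) (Over.w (A.c.π.app j₃))), ?_, ?_, ?_, ?_⟩
  · exact IsPullback.of_map (Over.forget S) (Over.OverMorphism.ext M₃.sq.w) M₃.sq
  · have : IsAffine (D'.obj j₃) := A.aff j₃
    exact isAffine_of_isAffineHom M₃.hom
  · exact MorphismProperty.pullback_fst (P := @Etale) _ _ e₂
  · exact MorphismProperty.pullback_fst (P := @Surjective) _ _ s₂

end Groth.SpLimit
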