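import Groth.Agent.SpLimit.Basic
import Groth.Agent.SpLimit.Stage
import Groth.Agent.AlgSpBasic.Compact
import Groth.Agent.AlgSp3.ImmersionImage

/-!
# Charts of limits of algebraic spaces
-/

set_option autoImplicit false
set_option backward.isDefEq.respectTransparency false
set_option backward.isDefEq.respectTransparency.types false

universe u

open CategoryTheory CategoryTheory.Limits AlgebraicGeometry Opposite AlgSp
open Groth.AlgSpBasic

noncomputable section

namespace Groth.SpLimit

variable {S : Scheme.{u}} {I : Type u} [SmallCategory I] [IsCofiltered I] {D : I ⥤ Sp S} {c : Cone D}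
  {i₀ : I} {T : Over S} {g : (yon S).obj T ⟶ D.obj i₀} (P : PullSys c i₀ g)

namespace PullSys

/-- The system as a system of affine schemes. -/
def affSys [IsAffine T.left] : AffSys S (Over i₀) where
  D := P.E
  c := P.L
  isLimit := P.isLimit
  aff k := have := P.aff k; isAffine_of_isAffineHom (P.q k).left
  affPt := have := P.isAffineHom_bot; isAffine_of_isAffineHom P.bot.left

theorem repWith_p {Q : MorphismProperty Scheme.{u}} [Q.IsStableUnderBaseChange] (h : RepWith Q g)
    (k : Over i₀) : RepWith Q (P.p k) :=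
  repWith_of_isPullback (P.sq k).flip h

theorem repWith_top {Q : MorphismProperty Scheme.{u}} [Q.IsStableUnderBaseChange] (h : RepWith Q g) :
    RepWith Q P.top :=
  repWith_of_isPullback P.sqTop.flip h

theorem nonempty_obj [IsAffine T.left] (h : RepWith @Surjective g) (k : Over i₀)
    (hne : Nonempty (Points (D.obj k.left))) : Nonempty (P.E.obj k).left := by
  obtain ⟨x⟩ := hne
  obtain ⟨t, -⟩ := surjective_ofPt_of_repWith (P.repWith_p h k) x
  exact ⟨t⟩

end PullSys

omit [IsCofiltered I] in
theorem PullSys.sq_π {i₀ : I} {T : Over S} {g : (yon S).obj T ⟶ D.obj i₀} (P : PullSys c i₀ g)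
    (k : Over i₀) : IsPullback P.top ((yon S).map (P.L.π.app k)) (c.π.app k.left) (P.p k) :=
  IsPullback.of_bot
    (show IsPullback P.top ((yon S).map (P.L.π.app k) ≫ (yon S).map (P.q k))
        (c.π.app k.left ≫ D.map k.hom) g by
      rw [← Functor.map_comp, P.π_q, c.w]; exact P.sqTop) (P.top_π k) (P.sq k)

instance (i₀ : I) {T : Over S} {g : (yon S).obj T ⟶ D.obj i₀} (P : PullSys c i₀ g) (k l : Over i₀)
    (m : k ⟶ l) : IsAffineHom ((P.E ⋙ Over.forget S).map m) :=
  P.aff_map m

variable (D) (hDa : ∀ (i j : I) (φ : i ⟶ j), IsAffineMor (D.map φ)) (hc : IsLimit c)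

include hDa hc

theorem nonempty_points_pt (hD : ∀ i, IsAlgSpace (D.obj i)) (hqc : ∀ i, IsQuasiCompactSp (D.obj i))
    (hne : ∀ i, Nonempty (Points (D.obj i))) : Nonempty (Points c.pt) := by
  obtain ⟨i⟩ := IsCofiltered.nonempty (C := I)
  obtain ⟨T, g, hT, he, hs⟩ := exists_affine_chart (hD i) (hqc i)
  obtain ⟨P⟩ := nonempty_pullSys D hDa hc i g
  let A := P.affSys
  have : ∀ k, CompactSpace ((A.D ⋙ Over.forget S).obj k) := fun k =>
    inferInstanceAs (CompactSpace (A.D.obj k).left)
  have : ∀ k, Nonempty ((A.D ⋙ Over.forget S).obj k) := fun k => P.nonempty_obj hs k (hne k.left)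
  obtain ⟨x⟩ := Scheme.nonempty_of_isLimit (A.D ⋙ Over.forget S) _ A.isLimit
  exact ⟨Points.ofPt P.top x⟩

omit hDa hc in
theorem AffSys.isReduced_pt (A : AffSys S I) (h : ∀ i, IsReduced (A.D.obj i).left) :
    IsReduced A.c.pt.left := by
  have : _root_.IsReduced Γ(A.c.pt.left, ⊤) := ⟨fun x ⟨n, hn⟩ => by
    obtain ⟨i, y, rfl⟩ := exists_appTop_π_eq_of_isAffine_of_isLimit (A.D ⋙ Over.forget S) _ A.isLimit x
    obtain ⟨j, φ, hj⟩ := exists_appTop_map_eq_zero_of_isAffine_of_isLimit (A.D ⋙ Over.forget S) _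
      A.isLimit i (y ^ n) (by rw [map_pow]; exact hn)
    rw [map_pow] at hj
    have : IsReduced ((A.D ⋙ Over.forget S).obj j) := h j
    rw [← (Cone.w ((Over.forget S).mapCone A.c) φ), Scheme.Hom.comp_appTop, CommRingCat.comp_apply,
      eq_zero_of_pow_eq_zero hj, map_zero]⟩
  exact isReduced_of_isAffine_isReduced _

theorem isReducedSp_pt (hD : ∀ i, IsAlgSpace (D.obj i)) (hred : ∀ i, IsReducedSp (D.obj i)) :
    IsReducedSp c.pt := by
  obtain ⟨i⟩ := IsCofiltered.nonempty (C := I)
  obtain ⟨T, g, he, hs⟩ := (hD i).atlas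
  obtain ⟨P⟩ := nonempty_pullSys D hDa hc i g
  refine ⟨P.L.pt, P.top, P.repWith_top he, P.repWith_top hs, ?_⟩
  let 𝒰 := T.left.affineCover.pullback₁ P.bot.left
  have : ∀ j, IsReduced (𝒰.X j) := fun j => by
    let T' : Over S := Over.mk (T.left.affineCover.f j ≫ T.hom)
    let ι : T' ⟶ T := Over.homMk (T.left.affineCover.f j) rfl
    obtain ⟨P'⟩ := nonempty_pullSys D hDa hc i ((yon S).map ι ≫ g)
    have : IsAffine T'.left := inferInstanceAs (IsAffine (Spec _))
    have hι : RepWith @Etale ((yon S).map ι) :=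
      (repWith_yon_map_iff _ ι).2 (inferInstanceAs (Etale (T.left.affineCover.f j)))
    have hr : ∀ k, IsReduced (P'.affSys.D.obj k).left := fun k =>
      Groth.AlgSp3.isReduced_etale_chart (hD k.left) (hred k.left) (P'.repWith_p (repWith_comp hι he) k)
    have := AffSys.isReduced_pt P'.affSys hr
    obtain ⟨l, hl⟩ := (yon S).map_surjective (P.sqTop.lift P'.top ((yon S).map (P'.bot ≫ ι))
      (by rw [P'.sqTop.w, Functor.map_comp, Category.assoc]))
    have sq : IsPullback ((yon S).map l) ((yon S).map P'.bot) ((yon S).map P.bot) ((yon S).map ι) :=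
      IsPullback.of_right (by rw [hl, IsPullback.lift_fst]; exact P'.sqTop)
        (by rw [hl, IsPullback.lift_snd, Functor.map_comp]) P.sqTop
    have e := (isPullback_left (isPullback_of_yon sq)).isoPullback
    have : IsReduced P'.L.pt.left := this
    exact isReduced_of_isOpenImmersion e.inv
  exact IsReduced.of_openCover _ 𝒰

end Groth.SpLimit
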