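import Groth.Agent.SpLimit.Basic
import Groth.Agent.AlgSpBasic.Presentation
import Groth.Agent.Limits.DescentStage

/-!
# Systems of representable sheaves as systems of schemes
-/

set_option autoImplicit false
set_option backward.isDefEq.respectTransparency false
set_option backward.isDefEq.respectTransparency.types false

universe u

open CategoryTheory CategoryTheory.Limits AlgebraicGeometry Opposite AlgSp
open Groth.AlgSpBasic

noncomputable section

namespace Groth.SpLimit

variable {S : Scheme.{u}} {J : Type u} [SmallCategory J]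

/-- A system of representable sheaves comes from a system of schemes. -/
theorem exists_scheme_system (F : J ⥤ Sp S) (h : ∀ j, ∃ W : Over S, Nonempty ((yon S).obj W ≅ F.obj j)) :
    ∃ E : J ⥤ Over S, Nonempty (E ⋙ yon S ≅ F) := by
  choose W e using h
  let E : J ⥤ Over S :=
    { obj := W
      map := fun {i j} m => (yon S).preimage ((e i).some.hom ≫ F.map m ≫ (e j).some.inv)
      map_id := fun i => (yon S).map_injective (by simp)
      map_comp := fun m n => (yon S).map_injective (by simp) }
  exact ⟨E, ⟨NatIso.ofComponents (fun j => (e j).some) (fun {i j} m => by simp [E])⟩⟩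

variable [IsCofiltered J]

/-- A limit of a system of schemes over `S`, seen as a limit in schemes. -/
theorem exists_scheme_cone (E : J ⥤ Over S) [∀ (i j : J) (m : i ⟶ j), IsAffineHom (E.map m).left]
    {c : Cone (E ⋙ yon S)} (hc : IsLimit c) :
    ∃ (c' : Cone E) (e : (yon S).obj c'.pt ≅ c.pt),
      (∀ j, e.hom ≫ c.π.app j = (yon S).map (c'.π.app j)) ∧
        Nonempty (IsLimit ((Over.forget S).mapCone c')) := by
  have : ∀ (i j : J) (m : i ⟶ j), IsAffineHom ((E ⋙ Over.forget S).map m) :=
    fun i j m => inferInstanceAs (IsAffineHom (E.map m).left)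
  obtain ⟨L, hL, -⟩ := Groth.Limits.exists_limit_of_isAffineHom (E ⋙ Over.forget S)
  have := IsCofiltered.isConnected (C := J)
  obtain ⟨j₀⟩ := IsCofiltered.nonempty (C := J)
  let L' : Cone E :=
    { pt := Over.mk (L.π.app j₀ ≫ (E.obj j₀).hom)
      π :=
        { app := fun j => Over.homMk (L.π.app j) (constant_of_preserves_morphisms
            (fun j => L.π.app j ≫ (E.obj j).hom) (fun i j φ => by
              rw [← L.w φ, Category.assoc]
              exact congrArg (L.π.app i ≫ ·) (Over.w (E.map φ)).symm) j j₀)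
          naturality := fun i j φ => Over.OverMorphism.ext (L.π.naturality φ) } }
  have hL'' : IsLimit ((Over.forget S).mapCone L') := IsLimit.ofIsoLimit hL (Cone.ext (Iso.refl _))
  have hyL := isLimitOfPreserves (yon S) (isLimitOfReflects (Over.forget S) hL'')
  exact ⟨L', IsLimit.conePointUniqueUpToIso hyL hc,
    fun j => IsLimit.conePointUniqueUpToIso_hom_comp hyL hc j, ⟨hL''⟩⟩

theorem exists_repWith_isClosedImmersion_app {F G : J ⥤ Sp S} (φ : F ⟶ G)
    (hF : ∀ j, ∃ W : Over S, CompactSpace W.left ∧ QuasiSeparatedSpace W.left ∧ Nonempty ((yon S).obj W ≅ F.obj j))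
    (hG : ∀ j, ∃ W : Over S, CompactSpace W.left ∧ QuasiSeparatedSpace W.left ∧ Nonempty ((yon S).obj W ≅ G.obj j))
    (hFa : ∀ (i j : J) (m : i ⟶ j), RepWith @IsAffineHom (F.map m))
    (hGa : ∀ (i j : J) (m : i ⟶ j), RepWith @IsAffineHom (G.map m))
    (hft : ∀ j, RepWith @LocallyOfFiniteType (φ.app j))
    {cF : Cone F} (hcF : IsLimit cF) {cG : Cone G} (hcG : IsLimit cG) (f : cF.pt ⟶ cG.pt)
    (hf : ∀ j, f ≫ cG.π.app j = cF.π.app j ≫ φ.app j) (hfc : RepWith @IsClosedImmersion f)
    (hl : ∀ {i k : J} (m : k ⟶ i), ∃ (N : Sp S) (fst : N ⟶ F.obj i) (snd : N ⟶ G.obj k)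
      (j : F.obj k ⟶ N), IsPullback fst snd (φ.app i) (G.map m) ∧ j ≫ fst = F.map m ∧ j ≫ snd = φ.app k ∧
        RepWith @IsClosedImmersion j)
    (j₀ : J) : ∃ (k : J) (_ : k ⟶ j₀), RepWith @IsClosedImmersion (φ.app k) := by
  obtain ⟨E, ⟨eE⟩⟩ := exists_scheme_system F fun j => by
    obtain ⟨W, -, -, h⟩ := hF j; exact ⟨W, h⟩
  obtain ⟨E', ⟨eE'⟩⟩ := exists_scheme_system G fun j => by
    obtain ⟨W, -, -, h⟩ := hG j; exact ⟨W, h⟩
  have hEa : ∀ (i j : J) (m : i ⟶ j), IsAffineHom (E.map m).left := fun i j m => by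
    refine (repWith_yon_map_iff @IsAffineHom (E.map m)).1 ?_
    have e : (yon S).map (E.map m) = eE.hom.app i ≫ F.map m ≫ eE.inv.app j := by
      rw [← reassoc_of% (eE.hom.naturality m)]; simp
    rw [e]
    exact repWith_comp (repWith_isIso _) (repWith_comp (hFa i j m) (repWith_isIso _))
  have hEa' : ∀ (i j : J) (m : i ⟶ j), IsAffineHom (E'.map m).left := fun i j m => by
    refine (repWith_yon_map_iff @IsAffineHom (E'.map m)).1 ?_
    have e : (yon S).map (E'.map m) = eE'.hom.app i ≫ G.map m ≫ eE'.inv.app j := by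
      rw [← reassoc_of% (eE'.hom.naturality m)]; simp
    rw [e]
    exact repWith_comp (repWith_isIso _) (repWith_comp (hGa i j m) (repWith_isIso _))
  let ψ : E ⟶ E' :=
    { app := fun j => (yon S).preimage (eE.hom.app j ≫ φ.app j ≫ eE'.inv.app j)
      naturality := fun i j m => (yon S).map_injective (by
        rw [Functor.map_comp, Functor.map_comp, (yon S).map_preimage, (yon S).map_preimage]
        have h₁ := eE.hom.naturality m
        have h₂ := eE'.inv.naturality m
        simp only [Functor.comp_map] at h₁ h₂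
        simp only [Category.assoc]
        rw [reassoc_of% h₁, φ.naturality_assoc, h₂]) }
  have hψ : ∀ j, (yon S).map (ψ.app j) = eE.hom.app j ≫ φ.app j ≫ eE'.inv.app j :=
    fun j => (yon S).map_preimage _
  have tr : ∀ (P : MorphismProperty Scheme.{u}) [P.IsStableUnderBaseChange], ∀ j, RepWith P (φ.app j) ↔ P (ψ.app j).left :=
    fun P _ j => by
      have : P.RespectsIso := MorphismProperty.IsStableUnderBaseChange.respectsIso
      rw [← repWith_yon_map_iff P (ψ.app j), hψ, MorphismProperty.cancel_left_of_respectsIso (RepWith P),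
        MorphismProperty.cancel_right_of_respectsIso (RepWith P)]
  obtain ⟨cE, e, he, ⟨hE⟩⟩ := exists_scheme_cone E
    ((IsLimit.postcomposeHomEquiv eE.symm cF).symm hcF)
  obtain ⟨cE', e', he', ⟨hE'⟩⟩ := exists_scheme_cone E'
    ((IsLimit.postcomposeHomEquiv eE'.symm cG).symm hcG)
  let f' : cE.pt ⟶ cE'.pt := (yon S).preimage (e.hom ≫ f ≫ e'.inv)
  have hf' : ∀ j, f' ≫ cE'.π.app j = cE.π.app j ≫ ψ.app j := fun j => (yon S).map_injective (by
    have h₁ : e.hom ≫ cF.π.app j = (yon S).map (cE.π.app j) ≫ eE.hom.app j := by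
      rw [← he]; simp
    rw [Functor.map_comp, Functor.map_comp, (yon S).map_preimage, hψ, ← he' j]
    simp only [Category.assoc, Iso.inv_hom_id_assoc]
    simp [reassoc_of% (hf j), reassoc_of% h₁])
  have : IsClosedImmersion f'.left := by
    refine (repWith_yon_map_iff @IsClosedImmersion f').1 ?_
    rw [(yon S).map_preimage]
    exact repWith_comp (repWith_isIso _) (repWith_comp hfc (repWith_isIso _))
  have hcomp : ∀ (X : J ⥤ Sp S) (E : J ⥤ Over S) (η : E ⋙ yon S ≅ X),
      (∀ j, ∃ W : Over S, CompactSpace W.left ∧ QuasiSeparatedSpace W.left ∧ Nonempty ((yon S).obj W ≅ X.obj j)) →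
      ∀ j, CompactSpace (E.obj j).left ∧ QuasiSeparatedSpace (E.obj j).left := fun X E η h j => by
    obtain ⟨W, h₁, h₂, ⟨w⟩⟩ := h j
    let i := (Over.forget S).mapIso ((yon S).preimageIso (w ≪≫ (η.app j).symm))
    have : CompactSpace ((Over.forget S).obj W) := h₁
    have : QuasiSeparatedSpace ((Over.forget S).obj W) := h₂
    exact ⟨i.hom.homeomorph.compactSpace, quasiSeparatedSpace_of_quasiSeparated i.inv⟩
  let Φ : E ⋙ Over.forget S ⟶ E' ⋙ Over.forget S := Functor.whiskerRight ψ (Over.forget S)
  have : ∀ (i j : J) (m : i ⟶ j), IsAffineHom ((E ⋙ Over.forget S).map m) := hEa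
  have : ∀ (i j : J) (m : i ⟶ j), IsAffineHom ((E' ⋙ Over.forget S).map m) := hEa'
  have : CompactSpace ((E' ⋙ Over.forget S).obj j₀) := (hcomp G E' eE' hG j₀).1
  have : ∀ j, QuasiCompact (Φ.app j) := fun j => by
    have : CompactSpace ((E ⋙ Over.forget S).obj j) := (hcomp F E eE hF j).1
    have : QuasiSeparatedSpace ((E' ⋙ Over.forget S).obj j) := (hcomp G E' eE' hG j).2
    infer_instance
  have : ∀ j, QuasiSeparated (Φ.app j) := fun j => by
    have : QuasiSeparatedSpace ((E ⋙ Over.forget S).obj j) := (hcomp F E eE hF j).2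
    infer_instance
  have : ∀ j, LocallyOfFiniteType (Φ.app j) := fun j => (tr @LocallyOfFiniteType j).1 (hft j)
  obtain ⟨k, m, hk⟩ := Groth.Limits.exists_isClosedImmersion Φ hE hE' f'.left
    (fun j => (Over.comp_left _ _ _ _ _).symm.trans ((congrArg CommaMorphism.left (hf' j)).trans
      (Over.comp_left _ _ _ _ _))) j₀ (fun i k m => by
      obtain ⟨N, fst, snd, j, hN, hj₁, hj₂, hj⟩ := hl m
      have hw : E.map m ≫ ψ.app i = ψ.app k ≫ E'.map m := ψ.naturality m
      have sq := IsPullback.of_hasPullback (ψ.app i) (E'.map m)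
      let w := sq.lift (E.map m) (ψ.app k) hw
      have sqN : IsPullback ((yon S).map (pullback.fst (ψ.app i) (E'.map m)) ≫ eE.hom.app i)
          ((yon S).map (pullback.snd (ψ.app i) (E'.map m)) ≫ eE'.hom.app k) (φ.app i) (G.map m) :=
        (sq.map (yon S)).of_iso (Iso.refl _) (eE.app i) (eE'.app k) (eE'.app i) (by simp) (by simp)
          (by simp [hψ]) (eE'.hom.naturality m)
      let ε := sqN.isoIsPullback _ _ hN
      have he₁ : (yon S).map w ≫ ε.hom = eE.hom.app k ≫ j := by
        apply hN.hom_ext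
        · rw [Category.assoc, sqN.isoIsPullback_hom_fst, Category.assoc, hj₁, ← Category.assoc,
            ← Functor.map_comp, sq.lift_fst]
          exact eE.hom.naturality m
        · rw [Category.assoc, sqN.isoIsPullback_hom_snd, Category.assoc, hj₂, ← Category.assoc,
            ← Functor.map_comp, sq.lift_snd, hψ]
          simp
      have hwc : IsClosedImmersion w.left := (repWith_yon_map_iff @IsClosedImmersion w).1 (by
        rw [← MorphismProperty.cancel_right_of_respectsIso (RepWith @IsClosedImmersion) _ ε.hom, he₁,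
          MorphismProperty.cancel_left_of_respectsIso (RepWith @IsClosedImmersion)]
        exact hj)
      let δ := (sq.map (Over.forget S)).isoPullback
      have e₂ : Groth.Limits.liftMap Φ m = w.left ≫ δ.hom := by
        apply pullback.hom_ext
        · refine (pullback.lift_fst _ _ _).trans ?_
          refine Eq.trans ?_ (Category.assoc _ _ _).symm
          refine Eq.trans ?_ (congrArg (w.left ≫ ·) ((sq.map (Over.forget S)).isoPullback_hom_fst)).symm
          exact (congrArg CommaMorphism.left (sq.lift_fst _ _ hw)).symm.trans (Over.comp_left _ _ _ _ _)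
        · refine (pullback.lift_snd _ _ _).trans ?_
          refine Eq.trans ?_ (Category.assoc _ _ _).symm
          refine Eq.trans ?_ (congrArg (w.left ≫ ·) ((sq.map (Over.forget S)).isoPullback_hom_snd)).symm
          exact (congrArg CommaMorphism.left (sq.lift_snd _ _ hw)).symm.trans (Over.comp_left _ _ _ _ _)
      rw [e₂, MorphismProperty.cancel_right_of_respectsIso @IsClosedImmersion]
      exact hwc)
  exact ⟨k, m, (tr @IsClosedImmersion k).2 hk⟩

end Groth.SpLimit
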