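import Groth.Agent.SpLimit.PairSys
import Groth.Agent.SpLimit.SchemeModel
import Groth.Agent.SpLimit.Charts
import Groth.Agent.AlgSpBasic.SepLocal

/-!
# Separatedness over a fixed base is eventual in systems of algebraic spaces
-/

set_option autoImplicit false
set_option backward.isDefEq.respectTransparency false
set_option backward.isDefEq.respectTransparency.types false

universe u

open CategoryTheory CategoryTheory.Limits AlgebraicGeometry Opposite AlgSp
open Groth.AlgSpBasic

noncomputable section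

namespace Groth.SpLimit

variable {S : Scheme.{u}} {I : Type u} [SmallCategory I] [IsCofiltered I] {D : I ⥤ Sp S} {c : Cone D}

/-- A fibre product of two affine schemes over a quasi-separated space is a qcqs scheme. -/
theorem exists_qcqs_scheme_pullback [QuasiSeparatedSpace S] {X : Sp S} (hX : IsAlgSpace X)
    (hqs : IsQuasiSeparatedSp X) {U : Over S} [IsAffine U.left] (a : (yon S).obj U ⟶ X) :
    ∃ W : Over S, CompactSpace W.left ∧ QuasiSeparatedSpace W.left ∧
      Nonempty ((yon S).obj W ≅ pullback a a) := by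
  obtain ⟨W, w₁, w₂, hW⟩ := exists_pullback_of_diag hX.diag a a
  have hWc := compactSpace_pullback_of_qs hqs hW
  have hm : IsSeparated (prod.lift w₁ w₂).left :=
    (monoLFT_le _ (prop_lift_of_repWith_diag (monoLFT_diag hX) hW)).1
  have : IsSeparated (prod.lift w₁ w₂).left := hm
  have : QuasiSeparatedSpace (U ⨯ U).left := by
    have : QuasiSeparatedSpace ↥(pullback U.hom U.hom) :=
      quasiSeparatedSpace_of_quasiSeparated (pullback.fst U.hom U.hom)
    exact quasiSeparatedSpace_of_quasiSeparated (Over.prodLeftIsoPullback U U).hom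
  exact ⟨W, hWc, quasiSeparatedSpace_of_quasiSeparated (prod.lift w₁ w₂).left, ⟨hW.isoPullback⟩⟩

theorem exists_isSeparated_app [QuasiSeparatedSpace S] (hc : IsLimit c) (hD : ∀ i, IsAlgSpace (D.obj i))
    (hDa : ∀ (i j : I) (φ : i ⟶ j), IsAffineMor (D.map φ))
    (hqc : ∀ i, IsQuasiCompactSp (D.obj i)) (hqs : ∀ i, IsQuasiSeparatedSp (D.obj i))
    {Y : Sp S} (hY : IsAlgSpace Y) (hYqs : IsQuasiSeparatedSp Y)
    (t : D ⟶ (Functor.const I).obj Y) (g : c.pt ⟶ Y) (hg : ∀ i, c.π.app i ≫ t.app i = g)
    (hX : IsSeparatedMor g) :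
    ∃ i₀ : I, ∀ (i : I) (_ : i ⟶ i₀), IsSeparatedMor (t.app i) := by
  obtain ⟨i₁⟩ := IsCofiltered.nonempty (C := I)
  obtain ⟨T, g₁, hT, he, hs⟩ := exists_affine_chart (hD i₁) (hqc i₁)
  obtain ⟨P⟩ := nonempty_pullSys D hDa hc i₁ g₁
  let F := Over.forget i₁ ⋙ D
  let G := (Functor.const (Over i₁)).obj Y
  let p : P.E ⋙ yon S ⟶ F :=
    { app := fun k => P.p k
      naturality := fun k l m => P.map_p m }
  let b : F ⟶ G := Functor.whiskerLeft (Over.forget i₁) t
  let q : P.E ⋙ yon S ⟶ G :=
    { app := fun k => P.p k ≫ t.app k.left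
      naturality := fun k l m => by
        have h : D.map m.left ≫ t.app l.left = t.app k.left := by simpa using t.naturality m.left
        show (yon S).map (P.E.map m) ≫ P.p l ≫ t.app l.left = (P.p k ≫ t.app k.left) ≫ 𝟙 Y
        rw [← Category.assoc, P.map_p, Category.assoc, h]
        exact (Category.comp_id _).symm }
  have hbq : ∀ k, p.app k ≫ b.app k = q.app k := fun k => rfl
  have := IsCofiltered.isConnected (C := Over i₁)
  have hL' : IsLimit P.L := isLimitOfReflects (Over.forget S) P.isLimit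
  let cE : Cone (P.E ⋙ yon S) := (yon S).mapCone P.L
  have hcE : IsLimit cE := isLimitOfPreserves (yon S) hL'
  let cF : Cone F := c.whisker (Over.forget i₁)
  have hcF : IsLimit cF := (Functor.Initial.isLimitWhiskerEquiv (Over.forget i₁) c).symm hc
  let k₀ : Over i₁ := Over.mk (𝟙 i₁)
  let cG : Cone G :=
    { pt := Y
      π := { app := fun _ => 𝟙 Y } }
  have hcG : IsLimit cG :=
    { lift := fun s => s.π.app k₀
      fac := fun s k => by
        show s.π.app k₀ ≫ 𝟙 Y = s.π.app k
        exact (Category.comp_id _).trans ((s.w (Over.mkIdTerminal.from k : k ⟶ k₀)).symm.trans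
          (Category.comp_id _))
      uniq := fun s m h => (Category.comp_id m).symm.trans (h k₀) }
  have hp : ∀ k, P.top ≫ cF.π.app k = cE.π.app k ≫ p.app k := P.top_π
  have hq : ∀ k, (P.top ≫ g) ≫ cG.π.app k = cE.π.app k ≫ q.app k := fun k => by
    show (P.top ≫ g) ≫ 𝟙 Y = _
    rw [Category.comp_id, ← hg k.left, reassoc_of% (P.top_π k)]
    rfl
  obtain ⟨hcR⟩ := nonempty_isLimit_pairCone p (cE := cE) (cF := cF) (g := P.top) hp hcE hcF
  obtain ⟨hcQ⟩ := nonempty_isLimit_pairCone q (cE := cE) (cF := cG) (g := P.top ≫ g) hq hcE hcG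
  let φ := pairMap p b q hbq
  let cR := pairCone p (cE := cE) (cF := cF) (g := P.top) hp
  let cQ := pairCone q (cE := cE) (cF := cG) (g := P.top ≫ g) hq
  let f : cR.pt ⟶ cQ.pt := pullback.mapDesc P.top P.top g
  have hf : ∀ k : Over i₁, f ≫ cQ.π.app k = cR.π.app k ≫ φ.app k := fun k => by
    apply pullback.hom_ext <;>
      simp [f, φ, cR, cQ, pairCone, pairMap, pullback.map, pullback.mapDesc]
  have hsmall : ∀ k : Over i₁, IsAffine (P.E.obj k).left := P.affSys.aff
  have hRm : ∀ {k l : Over i₁} (m : l ⟶ k),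
      RepWith @IsClosedImmersion (pullback.mapDesc (p.app l) (p.app l) (F.map m)) := fun {k l} m =>
    repWith_mapDesc_isClosedImmersion (hD l.left) (p.app l) (p.app l) (hDa _ _ m.left)
  have hQa : ∀ (l k : Over i₁) (m : l ⟶ k), RepWith @IsAffineHom ((pairSys q).map m) := fun l k m => by
    have h₁ : RepWith @IsAffineHom ((P.E ⋙ yon S).map m) := (repWith_yon_map_iff _ _).2 (P.aff_map m)
    have e : q.app l = (P.E ⋙ yon S).map m ≫ q.app k :=
      ((q.naturality m).trans (Category.comp_id _)).symm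
    exact MorphismProperty.pullbackMap h₁ h₁ e e
  have hsq : ∀ {k l : Over i₁} (m : l ⟶ k), ∃ (N : Sp S) (fst : N ⟶ (pairSys p).obj k)
      (snd : N ⟶ (pairSys q).obj l) (j : (pairSys p).obj l ⟶ N), IsPullback fst snd (φ.app k) ((pairSys q).map m) ∧
        j ≫ fst = (pairSys p).map m ∧ j ≫ snd = φ.app l ∧ RepWith @IsClosedImmersion j := fun {k l} m => by
    have : Mono (G.map m) := inferInstanceAs (Mono (𝟙 Y))
    obtain ⟨fst, snd, h₁, h₂, h₃⟩ := exists_isPullback_pairMap p b q hbq m
    exact ⟨_, fst, snd, _, h₁, h₂, h₃, hRm m⟩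
  have hft : ∀ k, RepWith @LocallyOfFiniteType (φ.app k) := fun k => by
    have e : φ.app k = pullback.mapDesc (P.p k) (P.p k) (t.app k.left) := by
      apply pullback.hom_ext <;> simp [φ, p, q, pairMap, pullback.map, pullback.mapDesc]
    rw [e]
    exact repWith_mapDesc _ _ _ (repWith_inf_iff.1
      (repWith_mono (fun _ _ g h => h) (monoLFT_diagonal (hD k.left) (t.app k.left)))).2
  obtain ⟨k, -, hk⟩ := exists_repWith_isClosedImmersion_app φ
    (fun k => exists_qcqs_scheme_pullback (hD k.left) (hqs k.left) (P.p k))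
    (fun k => exists_qcqs_scheme_pullback hY hYqs (P.p k ≫ t.app k.left))
    (fun l k m => by
      obtain ⟨N, fst, snd, j, h₁, h₂, -, hj⟩ := hsq m
      rw [← h₂]
      exact repWith_comp (repWith_mono (fun _ _ g (_ : IsClosedImmersion g) =>
        (inferInstance : IsAffineHom g)) hj) (repWith_of_isPullback h₁.flip (hQa l k m)))
    hQa hft hcR hcQ f hf (repWith_mapDesc P.top P.top g hX) (fun m => hsq m) k₀
  refine ⟨k.left, fun i ψ => ?_⟩
  let l : Over i₁ := Over.mk (ψ ≫ k.hom)
  let m : l ⟶ k := Over.homMk ψ rfl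
  have hl : RepWith @IsClosedImmersion (φ.app l) := by
    obtain ⟨N, fst, snd, j, h₁, -, h₃, hj⟩ := hsq m
    rw [← h₃]
    exact repWith_comp hj (repWith_of_isPullback h₁ hk)
  -- read the diagonal on the chart
  have sq := pullback_map_diagonal_isPullback (P.p l) (P.p l) (t.app i)
  have hmap : ∀ (Q : MorphismProperty Scheme.{u}) [Q.IsStableUnderBaseChange] [Q.IsStableUnderComposition],
      RepWith Q (P.p l) → RepWith Q (pullback.map (P.p l ≫ t.app i) (P.p l ≫ t.app i) (t.app i) (t.app i)
        (P.p l) (P.p l) (𝟙 _) (Category.comp_id _) (Category.comp_id _)) :=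
    fun Q _ _ h => MorphismProperty.pullbackMap h h rfl rfl
  have := isLocallySurjective_of_etale _ (hmap @Etale (P.repWith_p he l)) (hmap @Surjective (P.repWith_p hs l))
  obtain ⟨W, -, -, ⟨eW⟩⟩ := exists_qcqs_scheme_pullback hY hYqs (P.p l ≫ t.app i)
  let ν := eW.hom ≫ pullback.map (P.p l ≫ t.app i) (P.p l ≫ t.app i) (t.app i) (t.app i)
    (P.p l) (P.p l) (𝟙 _) (Category.comp_id _) (Category.comp_id _)
  have hν₁ : RepWith @Etale ν := repWith_comp (repWith_isIso _) (hmap @Etale (P.repWith_p he l))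
  have hν₂ : RepWith @Surjective ν := repWith_comp (repWith_isIso _) (hmap @Surjective (P.repWith_p hs l))
  have := isLocallySurjective_of_etale ν hν₁ hν₂
  have hl' : RepWith @IsClosedImmersion (pullback.mapDesc (P.p l) (P.p l) (t.app i)) := by
    have e : φ.app l = pullback.mapDesc (P.p l) (P.p l) (t.app i) := by
      apply pullback.hom_ext <;> simp [φ, p, q, l, pairMap, pullback.map, pullback.mapDesc]
    rw [← e]; exact hl
  obtain ⟨W', w, v, hW'⟩ := hl'.rep eW.hom
  exact repWith_of_isLocallySurjective _ (monoLFT_diagonal (hD i) (t.app i)).rep ν _ _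
    (hW'.paste_horiz sq) ((repWith_yon_map_iff _ w).2 (hl'.property _ v w hW'))

end Groth.SpLimit
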