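import Groth.Agent.S10048
import Groth.Agent.SpLimit.DiagRows
import Groth.Agent.SpLimit.AffineRows
import Groth.Agent.Limits.ProperDescent
import Groth.Agent.AlgSp2.FiniteTfae
import Groth.Agent.AlgSpBasic.ClosedQC
import Groth.Agent.AlgSpBasic.DecentFinite

/-!
# A morphism which is proper in the limit is proper at a stage
-/

set_option autoImplicit false
set_option backward.isDefEq.respectTransparency false
set_option backward.isDefEq.respectTransparency.types false

universe u

open CategoryTheory CategoryTheory.Limits AlgebraicGeometry Opposite AlgSp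
open Groth.AlgSpBasic

noncomputable section

namespace Groth.SpLimit

variable {S : Scheme.{u}}

section Chart

variable {X₀ Y₀ : Sp S} {f₀ : X₀ ⟶ Y₀} {W₀ T M : Over S} {g : (yon S).obj W₀ ⟶ X₀}
  {b : (yon S).obj T ⟶ Y₀} {m₁ : M ⟶ W₀} {m₂ : M ⟶ T}
  (hM : IsPullback ((yon S).map m₁) ((yon S).map m₂) (g ≫ f₀) b)

include hM in
/-- The cover of a base change induced by a cover of the source. -/
theorem exists_cover_chart {E : Over S} (q : E ⟶ T) {X' Y' : Sp S} {f' : X' ⟶ Y'} {pY : Y' ⟶ Y₀}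
    {pX : X' ⟶ X₀} (hX' : IsPullback pX f' f₀ pY) (b' : (yon S).obj E ⟶ Y')
    (hb' : b' ≫ pY = (yon S).map q ≫ b) :
    ∃ r : (yon S).obj (pullback m₂ q) ⟶ pullback f' b',
      r ≫ pullback.snd f' b' = (yon S).map (pullback.snd m₂ q) ∧
      IsPullback ((yon S).map (pullback.fst m₂ q ≫ m₁)) r g (pullback.fst f' b' ≫ pX) := by
  have sqV : IsPullback (pullback.fst f' b' ≫ pX) (pullback.snd f' b') f₀ (b' ≫ pY) :=
    (IsPullback.of_hasPullback f' b').paste_horiz hX'
  have sqN : IsPullback ((yon S).map (pullback.fst m₂ q ≫ m₁)) ((yon S).map (pullback.snd m₂ q))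
      (g ≫ f₀) (b' ≫ pY) := by
    rw [Functor.map_comp, hb']
    exact ((IsPullback.of_hasPullback m₂ q).map (yon S)).paste_horiz hM
  let r := sqV.lift ((yon S).map (pullback.fst m₂ q ≫ m₁) ≫ g) ((yon S).map (pullback.snd m₂ q))
    (by rw [Category.assoc]; exact sqN.w)
  refine ⟨r, sqV.lift_snd _ _ _, IsPullback.of_bot ?_ (sqV.lift_fst _ _ _).symm sqV⟩
  rw [sqV.lift_snd]
  exact sqN

end Chart

variable {I : Type u} [SmallCategory I] [IsCofiltered I] {D : I ⥤ Sp S} {c : Cone D}
  {i₀ : I} {X₀ Y₀ : Sp S} {f₀ : X₀ ⟶ Y₀} {b₀ : Y₀ ⟶ D.obj i₀}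
  [QuasiSeparatedSpace S] (hD : ∀ i, IsAlgSpace (D.obj i))
  (hDa : ∀ (i j : I) (φ : i ⟶ j), IsAffineMor (D.map φ)) (hc : IsLimit c)
  (hX₀ : IsAlgSpace X₀) (hY₀ : IsAlgSpace Y₀) (hXqc : IsQuasiCompactSp X₀) (hYqc : IsQuasiCompactSp Y₀)
  (hXqs : IsQuasiSeparatedSp X₀) (hYqs : IsQuasiSeparatedSp Y₀)
  {X Y : Sp S} {f : X ⟶ Y} {pY : Y ⟶ Y₀} {qY : Y ⟶ c.pt} (hY : IsPullback pY qY b₀ (c.π.app i₀))
  {pX : X ⟶ X₀} (hX : IsPullback pX f f₀ pY)

include hD hDa hc hX₀ hY₀ hXqc hYqc hXqs hYqs hY hX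

/-- A morphism, locally of finite type, which is proper in the limit is proper at a stage. -/
theorem exists_proper_stage (hf : IsProperMor f) (hf₀ : LocP @LocallyOfFiniteType f₀) :
    ∃ (i : I) (φ : i ⟶ i₀), ∀ (Xi Yi : Sp S) (fi : Xi ⟶ Yi) (pYi : Yi ⟶ Y₀) (qYi : Yi ⟶ D.obj i)
      (_ : IsPullback pYi qYi b₀ (D.map φ)) (pXi : Xi ⟶ X₀) (_ : IsPullback pXi fi f₀ pYi),
      IsProperMor fi := by
  obtain ⟨iS, φS, hS⟩ := exists_separated_stage hD hDa hc hX₀ hY₀ hXqc hYqc hXqs hYqs hY hX hf.1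
  -- a finite cover of the source by a scheme
  obtain ⟨U, p, hpe, hps⟩ := hX₀.atlas
  obtain ⟨W₀, g, hgf, hgs, hgp, -⟩ :=
    Groth.Agent.S10048.result S ⟨X₀, hX₀⟩ hXqc hXqs U p hpe hps
  have hgR : RepWith @IsFinite g := (Groth.AlgSp2.isFiniteMor_iff (IsAlgSpace.yon_obj W₀) hX₀).1 hgf
  have : CompactSpace W₀.left := (isQuasiCompactSp_yon_iff W₀).1
    (hgp.2.1 hX₀ hXqc (𝟙 _) (𝟙 _) g (IsPullback.of_horiz_isIso ⟨by simp⟩))
  have hWqs : IsQuasiSeparatedSp ((yon S).obj W₀) := isQuasiSeparatedSp_of_mor (f := g)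
    (repWith_mono (fun _ _ k (_ : IsClosedImmersion k) => (inferInstance : QuasiCompact k))
      ((Groth.AlgSp2.isProperMor_iff_repWith (IsAlgSpace.yon_obj W₀) hX₀ hgR.rep).2
        (repWith_mono (fun _ _ k (_ : IsFinite k) => (inferInstance : IsProper k)) hgR)).1) hXqs
  -- an affine chart of the target
  obtain ⟨T, b, hT, hbe, hbs⟩ := exists_affine_chart hY₀ hYqc
  obtain ⟨M, m₁, m₂, hM⟩ := exists_pullback_of_diag hY₀.diag (g ≫ f₀) b
  have : CompactSpace M.left := compactSpace_pullback_of_qs hYqs hM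
  have : QuasiSeparated M.hom := quasiSeparated_hom_of_mono
    (isQuasiSeparatedSp_of_isPullback (IsAlgSpace.yon_obj M) hWqs hYqs
      (isQuasiSeparatedSp_yon_affine T) hM) (𝟙 _)
  have : QuasiSeparatedSpace M.left := quasiSeparatedSpace_of_quasiSeparated M.hom
  have : LocallyOfFiniteType m₂.left :=
    (repWith_of_locP hY₀ (representable_of_diag hY₀.diag (g ≫ f₀)) (locP_comp (IsAlgSpace.yon_obj W₀)
      hX₀ hY₀ (locP_of_repWith (repWith_mono (fun _ _ k (_ : IsFinite k) =>
        (inferInstance : LocallyOfFiniteType k)) hgR)) hf₀)).property _ _ _ hM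
  have : QuasiCompact m₂.left := inferInstance
  have : QuasiSeparated m₂.left := inferInstance
  obtain ⟨P⟩ := nonempty_pullSys D hDa hc i₀ (b ≫ b₀)
  -- the scheme over the limit is proper
  obtain ⟨bInf, -, -, -, hbb, -⟩ := exists_atlas_bc hbe hbs P.sqTop hY hX
  have hYa := isAlgSpace_of_isPullback hY (hD i₀).diag hY₀ (isAlgSpace_pt D hDa hc hD)
  have hXa := isAlgSpace_of_isPullback hX hY₀.diag hX₀ hYa
  have hProper : IsProper (pullback.snd m₂.left P.bot.left) := by
    obtain ⟨r, hr, hr'⟩ := exists_cover_chart hM P.bot hX bInf hbb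
    have hV : IsAlgSpace (pullback f bInf) :=
      isAlgSpace_pullback ⟨_, hXa⟩ ⟨_, IsAlgSpace.yon_obj _⟩ ⟨_, hYa⟩ _ _
    have hrP := (Groth.AlgSp2.isProperMor_iff_repWith (IsAlgSpace.yon_obj _) hV
      (repWith_of_isPullback hr' hgR).rep).2 (repWith_mono (fun _ _ k (_ : IsFinite k) =>
        (inferInstance : IsProper k)) (repWith_of_isPullback hr' hgR))
    have sqV := IsPullback.of_hasPullback f bInf
    have hrep : Representable ((yon S).map (pullback.snd m₂ P.bot)) :=
      representable_of_diag (IsAlgSpace.yon_obj _).diag _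
    have h₁ : IsSeparated (pullback.snd m₂ P.bot).left := (repWith_yon_map_iff _ _).1
      ((Groth.AlgSp2.repWith_isSeparated_iff hrep).1 (by
        rw [← hr]; exact repWith_diagonal_comp hrP.1 (repWith_diagonal_baseChange sqV hf.1)))
    have h₂ : UniversallyClosed (pullback.snd m₂ P.bot).left := (repWith_yon_map_iff _ _).1
      ((Groth.AlgSp2.repWith_universallyClosed_iff hrep).2 (by
        rw [← hr]
        exact isUnivClosedMor_comp hV (IsAlgSpace.yon_obj _) hrP.2.2
          (isUnivClosedMor_of_isPullback sqV hf.2.2)))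
    have sqL : IsPullback (pullback.fst m₂ P.bot).left (pullback.snd m₂ P.bot).left m₂.left
        P.bot.left := (IsPullback.of_hasPullback m₂ P.bot).map (Over.forget S)
    rw [← sqL.isoPullback_inv_snd]
    have : LocallyOfFiniteType (pullback.snd m₂ P.bot).left :=
      MorphismProperty.of_isPullback (P := @LocallyOfFiniteType) sqL ‹_›
    have : IsProper (pullback.snd m₂ P.bot).left := {}
    infer_instance
  -- descend to a stage
  let E := P.E ⋙ Over.forget S
  let t : E ⟶ (Functor.const (Over i₀)).obj T.left :=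
    { app := fun k => (P.q k).left
      naturality := fun k l m => by
        show (P.E.map m).left ≫ (P.q l).left = (P.q k).left ≫ 𝟙 _
        rw [Category.comp_id, ← Over.comp_left, P.map_q m] }
  have : ∀ (k l : Over i₀) (m : k ⟶ l), IsAffineHom (E.map m) := fun k l m => P.aff_map m
  have hEaff : ∀ k, IsAffine (E.obj k) := fun k => P.affSys.aff k
  have : ∀ k, CompactSpace (E.obj k) := fun k => by have := hEaff k; infer_instance
  have : ∀ k, QuasiSeparatedSpace (E.obj k) := fun k => by have := hEaff k; infer_instance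
  obtain ⟨j, hj⟩ := Groth.Limits.exists_isProper_bcTrans (D := E)
    (c := (Over.forget S).mapCone P.L) P.isLimit t P.bot.left
    (fun k => by
      show (P.L.π.app k).left ≫ (P.q k).left = P.bot.left
      rw [← Over.comp_left, P.π_q k]) m₂.left
  obtain ⟨l, uS, uj, -⟩ := IsCofilteredOrEmpty.cone_objs (Over.mk φS) j
  refine ⟨l.left, l.hom, fun Xi Yi fi pYi qYi hYi pXi hXi => ?_⟩
  obtain ⟨hXia, hYia⟩ := isAlgSpace_bc hD hX₀ hY₀ hYi hXi
  -- separatedness
  have hsep : IsSeparatedMor fi := by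
    have sqS := IsPullback.of_hasPullback b₀ (D.map φS)
    have sqS' := IsPullback.of_hasPullback f₀ (pullback.fst b₀ (D.map φS))
    let β : Yi ⟶ pullback b₀ (D.map φS) := sqS.lift pYi (qYi ≫ D.map uS.left) (by
      rw [Category.assoc, ← D.map_comp, show uS.left ≫ φS = l.hom from Over.w uS]; exact hYi.w)
    let α : Xi ⟶ pullback f₀ (pullback.fst b₀ (D.map φS)) :=
      sqS'.lift pXi (fi ≫ β) (by rw [Category.assoc, sqS.lift_fst]; exact hXi.w)
    refine repWith_diagonal_baseChange (fst := α) (g := β) ?_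
      (hS _ _ _ _ _ sqS _ sqS')
    refine IsPullback.of_right ?_ (sqS'.lift_snd _ _ _) sqS'
    rw [sqS'.lift_fst, sqS.lift_fst]
    exact hXi
  -- universal closedness
  have huc : IsUnivClosedMor fi := by
    obtain ⟨bk, -, hke, hks, hkb, -⟩ := exists_atlas_bc hbe hbs (P.sq l) hYi hXi
    obtain ⟨r, hr, hr'⟩ := exists_cover_chart hM (P.q l) hXi bk hkb
    refine isUnivClosedMor_of_cover hYia hke hks (IsPullback.of_hasPullback fi bk) ?_
    have hrs : IsSurjectiveMor r := fun z => by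
      obtain ⟨x, hx⟩ := hgs (Points.map (pullback.fst fi bk ≫ pXi) z)
      obtain ⟨a, -, ha⟩ := exists_point_of_isPullback hr' x z hx
      exact ⟨a, ha⟩
    refine isUnivClosedMor_of_surjective (IsAlgSpace.yon_obj _)
      (isAlgSpace_pullback ⟨_, hXia⟩ ⟨_, IsAlgSpace.yon_obj _⟩ ⟨_, hYia⟩ _ _) hrs ?_
    rw [hr]
    have sqj : IsPullback (pullback.map m₂.left (t.app l) m₂.left (t.app j) (𝟙 _) (E.map uj) (𝟙 _)
        (by simp) (by rw [Category.comp_id]; exact ((t.naturality uj).trans (Category.comp_id _)).symm))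
        (pullback.snd m₂.left (t.app l)) (pullback.snd m₂.left (t.app j)) (E.map uj) := by
      refine IsPullback.of_right ?_ (pullback.lift_snd _ _ _) (IsPullback.of_hasPullback _ _)
      rw [pullback.lift_fst, Category.comp_id]
      rw [show E.map uj ≫ t.app j = t.app l from (t.naturality uj).trans (Category.comp_id _)]
      exact IsPullback.of_hasPullback _ _
    have hpl : IsProper (pullback.snd m₂.left (t.app l)) := MorphismProperty.of_isPullback sqj hj
    have sqN : IsPullback (pullback.fst m₂ (P.q l)).left (pullback.snd m₂ (P.q l)).left m₂.left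
        (t.app l) := (IsPullback.of_hasPullback m₂ (P.q l)).map (Over.forget S)
    have : IsProper (pullback.snd m₂ (P.q l)).left := by
      rw [← sqN.isoPullback_hom_snd]; infer_instance
    exact (Groth.AlgSp2.repWith_universallyClosed_iff
      (representable_of_diag (IsAlgSpace.yon_obj _).diag _)).1
      ((repWith_yon_map_iff _ _).2 (inferInstance : UniversallyClosed (pullback.snd m₂ (P.q l)).left))
  exact ⟨hsep, ⟨locP_of_isPullback hX₀ hY₀ hYia hXi hf₀,
    isQuasiCompactMor_of_univClosed hXia hYia huc⟩, huc⟩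

end Groth.SpLimit
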