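import Groth.Agent.SpLimit.SpaceLift
import Groth.Agent.AlgSpBasic.QComp
import Mathlib.CategoryTheory.Limits.Types.Filtered

/-!
# Finite presentation as a cartesian square of morphism sets
-/

set_option autoImplicit false
set_option backward.isDefEq.respectTransparency false
set_option backward.isDefEq.respectTransparency.types false

universe u

open CategoryTheory CategoryTheory.Limits AlgebraicGeometry Opposite AlgSp
open Groth.AlgSpBasic

noncomputable section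

namespace Groth.SpLimit

variable {S : Scheme.{u}}

theorem isQuasiSeparatedSp_yon_of_hom (A : Over S) [QuasiSeparated A.hom] :
    IsQuasiSeparatedSp ((yon S).obj A) := by
  let e := Over.prodLeftIsoPullback A A
  have he : (Limits.diag A).left ≫ e.hom = pullback.diagonal A.hom := by
    apply pullback.hom_ext
    · rw [Category.assoc, Over.prodLeftIsoPullback_hom_fst, ← Over.comp_left, prod.lift_fst,
        pullback.diagonal_fst]; rfl
    · rw [Category.assoc, Over.prodLeftIsoPullback_hom_snd, ← Over.comp_left, prod.lift_snd,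
        pullback.diagonal_snd]; rfl
  have : QuasiCompact (pullback.diagonal A.hom) := inferInstance
  have : QuasiCompact (Limits.diag A).left := by
    rw [← MorphismProperty.cancel_right_of_respectsIso @QuasiCompact _ e.hom, he]; infer_instance
  have h : RepWith @QuasiCompact ((yon S).map (Limits.diag A)) :=
    (repWith_yon_map_iff _ _).2 this
  have e' : (yon S).map (Limits.diag A) ≫ prodComparison (yon S) A A =
      Limits.diag ((yon S).obj A) := by
    apply prod.hom_ext <;> simp [← Functor.map_comp, prod.lift_fst, prod.lift_snd]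
  rw [IsQuasiSeparatedSp, ← e']
  exact repWith_comp h (repWith_isIso _)

theorem isQuasiSeparatedSp_yon_affine [QuasiSeparatedSpace S] (A : Over S) [IsAffine A.left] :
    IsQuasiSeparatedSp ((yon S).obj A) :=
  isQuasiSeparatedSp_yon_of_hom A

variable {I : Type u} [SmallCategory I] {D : I ⥤ Sp S} (c : Cone D)

/-- The map from the colimit of maps from the stages to maps from the limit. -/
abbrev toLimit (Z : Sp S) : colimit (D.op ⋙ yoneda.obj Z) ⟶ (c.pt ⟶ Z) :=
  colimit.desc (D.op ⋙ yoneda.obj Z) ((yoneda.obj Z).mapCocone c.op)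

theorem toLimit_ι (Z : Sp S) (i : I) (x : D.obj i ⟶ Z) :
    toLimit c Z (colimit.ι (D.op ⋙ yoneda.obj Z) (op i) x) = c.π.app i ≫ x :=
  ConcreteCategory.congr_hom (colimit.ι_desc ((yoneda.obj Z).mapCocone c.op) (op i)) x

theorem colimMap_ι {X Y : Sp S} (a : X ⟶ Y) (i : I) (x : D.obj i ⟶ X) :
    colimMap (Functor.whiskerLeft D.op (yoneda.map a)) (colimit.ι (D.op ⋙ yoneda.obj X) (op i) x) =
      colimit.ι (D.op ⋙ yoneda.obj Y) (op i) (x ≫ a) :=
  ConcreteCategory.congr_hom (ι_colimMap (Functor.whiskerLeft D.op (yoneda.map a)) (op i)) x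

theorem ι_map_eq {Z : Sp S} {i j : I} (φ : j ⟶ i) (x : D.obj i ⟶ Z) :
    colimit.ι (D.op ⋙ yoneda.obj Z) (op j) (D.map φ ≫ x) = colimit.ι (D.op ⋙ yoneda.obj Z) (op i) x :=
  ConcreteCategory.congr_hom (colimit.w (D.op ⋙ yoneda.obj Z) φ.op) x

theorem exists_rep {Z : Sp S} (ξ : (colimit (D.op ⋙ yoneda.obj Z) : Type (u + 1))) :
    ∃ (i : I) (x : D.obj i ⟶ Z), colimit.ι (D.op ⋙ yoneda.obj Z) (op i) x = ξ := by
  obtain ⟨i, x, h⟩ := Types.jointly_surjective _ (colimit.isColimit (D.op ⋙ yoneda.obj Z)) ξ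
  exact ⟨i.unop, x, h⟩

variable [IsCofiltered I]

theorem ι_eq_iff {Z : Sp S} {i i' : I} (x : D.obj i ⟶ Z) (x' : D.obj i' ⟶ Z) :
    colimit.ι (D.op ⋙ yoneda.obj Z) (op i) x = colimit.ι (D.op ⋙ yoneda.obj Z) (op i') x' ↔
      ∃ (j : I) (φ : j ⟶ i) (φ' : j ⟶ i'), D.map φ ≫ x = D.map φ' ≫ x' := by
  refine (Types.FilteredColimit.colimit_eq_iff (D.op ⋙ yoneda.obj Z)).trans ⟨?_, ?_⟩
  · rintro ⟨k, f, g, h⟩
    exact ⟨k.unop, f.unop, g.unop, h⟩
  · rintro ⟨j, φ, φ', h⟩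
    exact ⟨op j, φ.op, φ'.op, h⟩

variable [QuasiSeparatedSpace S] {X Y : Sp S} {a : X ⟶ Y}

theorem isPullback_of_lfp (hX : IsAlgSpace X) (hY : IsAlgSpace Y)
    (ha : LocP @LocallyOfFinitePresentation a) (hD : ∀ i, IsAlgSpace (D.obj i))
    (hDa : ∀ (i j : I) (φ : i ⟶ j), IsAffineMor (D.map φ)) (hc : IsLimit c)
    (hqc : ∀ i, IsQuasiCompactSp (D.obj i)) (hqs : ∀ i, IsQuasiSeparatedSp (D.obj i)) :
    IsPullback (colimMap (Functor.whiskerLeft D.op (yoneda.map a))) (toLimit c X) (toLimit c Y)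
      ((yoneda.map a).app (op c.pt)) := by
  refine (Types.isPullback_iff _ _ _ _).2 ⟨?_, fun ξ₁ ξ₂ h => ?_, fun η x h => ?_⟩
  · refine ConcreteCategory.hom_ext _ _ fun ξ => ?_
    obtain ⟨i, x, rfl⟩ := exists_rep ξ
    change toLimit c Y (colimMap (Functor.whiskerLeft D.op (yoneda.map a))
      (colimit.ι (D.op ⋙ yoneda.obj X) (op i) x)) =
      toLimit c X (colimit.ι (D.op ⋙ yoneda.obj X) (op i) x) ≫ a
    rw [colimMap_ι, toLimit_ι, toLimit_ι, Category.assoc]
  · obtain ⟨i₁, x₁, rfl⟩ := exists_rep ξ₁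
    obtain ⟨i₂, x₂, rfl⟩ := exists_rep ξ₂
    obtain ⟨h₁, h₂⟩ := h
    rw [colimMap_ι, colimMap_ι, ι_eq_iff] at h₁
    rw [toLimit_ι, toLimit_ι] at h₂
    obtain ⟨j, φ₁, φ₂, hj⟩ := h₁
    obtain ⟨k, ψ, hk⟩ := space_eq_eventually hD hDa hc hqc hX hY ha (D.map φ₁ ≫ x₁) (D.map φ₂ ≫ x₂)
      (by rw [Category.assoc, Category.assoc, hj]) (by rw [← Category.assoc, ← Category.assoc, c.w, c.w, h₂])
    rw [← ι_map_eq φ₁ x₁, ← ι_map_eq φ₂ x₂, ι_eq_iff]
    exact ⟨k, ψ, ψ, hk⟩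
  · obtain ⟨i, y, rfl⟩ := exists_rep η
    rw [toLimit_ι] at h
    obtain ⟨j, φ, x', hx', hx'a⟩ := space_exists_lift hD hDa hc hqc hX hY ha hqs y x h.symm
    refine ⟨colimit.ι (D.op ⋙ yoneda.obj X) (op j) x', ?_, ?_⟩
    · rw [colimMap_ι, hx'a, ι_map_eq]
    · rw [toLimit_ι, hx']

theorem locP_of_isPullback_hom (hX : IsAlgSpace X) (hY : IsAlgSpace Y)
    (h : ∀ ⦃I : Type u⦄ [SmallCategory I] [IsCofiltered I] (D : I ⥤ Sp S),
      (∀ i, IsAlgSpace (D.obj i)) → (∀ (i j : I) (φ : i ⟶ j), IsAffineMor (D.map φ)) →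
      (∀ i, IsQuasiCompactSp (D.obj i)) → (∀ i, IsQuasiSeparatedSp (D.obj i)) →
      ∀ (c : Cone D) (_ : IsLimit c),
        IsPullback (colimMap (Functor.whiskerLeft D.op (yoneda.map a))) (toLimit c X) (toLimit c Y)
          ((yoneda.map a).app (op c.pt))) :
    LocP @LocallyOfFinitePresentation a := by
  refine locP_of_lifts hX hY fun J _ _ A x i y e => ?_
  have := IsCofiltered.isConnected (C := J)
  have hl : IsLimit ((yon S).mapCone A.c) :=
    isLimitOfPreserves (yon S) (isLimitOfReflects (Over.forget S) A.isLimit)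
  have hp := h (A.D ⋙ yon S) (fun j => IsAlgSpace.yon_obj _)
    (fun j k φ => isAffineMor_iff_repWith.2 ((repWith_yon_map_iff @IsAffineHom (A.D.map φ)).2
      (inferInstanceAs (IsAffineHom ((A.D ⋙ Over.forget S).map φ)))))
    (fun j => (isQuasiCompactSp_yon_iff _).2 inferInstance)
    (fun j => isQuasiSeparatedSp_yon_affine (A.D.obj j)) _ hl
  obtain ⟨ξ, hξ₁, hξ₂⟩ := Types.exists_of_isPullback hp
    (colimit.ι ((A.D ⋙ yon S).op ⋙ yoneda.obj Y) (op i) y) x (by rw [toLimit_ι]; exact e.symm)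
  obtain ⟨j, x', rfl⟩ := exists_rep ξ
  rw [colimMap_ι, ι_eq_iff] at hξ₁
  rw [toLimit_ι] at hξ₂
  obtain ⟨k, φ, φ', hk⟩ := hξ₁
  refine ⟨k, φ', (yon S).map (A.D.map φ) ≫ x', ?_, ?_⟩
  · rw [← Category.assoc, ← Functor.map_comp, A.c.w]
    exact hξ₂
  · rw [Category.assoc]
    exact hk

end Groth.SpLimit
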