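import Groth.Agent.SpLimit.Eventual
import Groth.Agent.AlgSpBasic.SepLocal

/-!
# Monomorphisms into limits are eventually monomorphisms
-/

set_option autoImplicit false
set_option backward.isDefEq.respectTransparency false
set_option backward.isDefEq.respectTransparency.types false

universe u

open CategoryTheory CategoryTheory.Limits AlgebraicGeometry Opposite AlgSp
open Groth.AlgSpBasic

noncomputable section

namespace Groth.SpLimit

variable {S : Scheme.{u}}

/-- The diagonal of an affine morphism is a closed immersion. -/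
theorem repWith_diagonal_of_isAffineMor {X Y : Sp S} (hX : IsAlgSpace X) {f : X ⟶ Y}
    (hf : IsAffineMor f) : RepWith @IsClosedImmersion (pullback.diagonal f) := by
  refine repWith_diagonal_of_affine _ hX fun T hT g P fst snd sq => ?_
  obtain ⟨W, i, p, hp, hW⟩ := hf hT g
  have : IsAffine T.left := hT
  have : IsAffine W.left := hW
  let e : (yon S).obj W ≅ P := hp.isoIsPullback _ _ sq
  have he : e.inv ≫ (yon S).map i = snd := hp.isoIsPullback_inv_snd _ _ sq
  have hi : RepWith @IsClosedImmersion (pullback.diagonal ((yon S).map i)) := by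
    have sq' := (IsPullback.of_hasPullback i i).map (yon S)
    have e₂ : pullback.diagonal ((yon S).map i) =
        (yon S).map (pullback.diagonal i) ≫ sq'.isoPullback.hom := by
      apply pullback.hom_ext
      · rw [Category.assoc, sq'.isoPullback_hom_fst, ← Functor.map_comp, pullback.diagonal_fst,
          pullback.diagonal_fst, (yon S).map_id]
      · rw [Category.assoc, sq'.isoPullback_hom_snd, ← Functor.map_comp, pullback.diagonal_snd,
          pullback.diagonal_snd, (yon S).map_id]
    have hd : IsClosedImmersion (pullback.diagonal i).left := by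
      have : IsSeparated i.left := inferInstance
      have : IsSeparated (pullback.fst i i).left :=
        MorphismProperty.of_isPullback (P := @IsSeparated)
          (isPullback_left (IsPullback.of_hasPullback i i)).flip inferInstance
      have : IsClosedImmersion ((pullback.diagonal i).left ≫ (pullback.fst i i).left) := by
        rw [← Over.comp_left, pullback.diagonal_fst]
        exact inferInstanceAs (IsClosedImmersion (𝟙 _))
      exact IsClosedImmersion.of_comp _ (pullback.fst i i).left
    rw [e₂]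
    exact repWith_comp ((repWith_yon_map_iff _ _).2 hd) (repWith_isIso _)
  have sqe : IsPullback e.inv snd ((yon S).map i) (𝟙 _) :=
    IsPullback.of_horiz_isIso ⟨by rw [he, Category.comp_id]⟩
  exact repWith_of_isPullback (isPullback_diagonal_baseChange sqe) hi

theorem repWith_mapDesc_isClosedImmersion {A B X Y : Sp S} (hX : IsAlgSpace X) (a : A ⟶ X) (b : B ⟶ X)
    {f : X ⟶ Y} (hf : IsAffineMor f) : RepWith @IsClosedImmersion (pullback.mapDesc a b f) :=
  repWith_mapDesc a b f (repWith_diagonal_of_isAffineMor hX hf)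

theorem repWith_pullbackMap_isClosedImmersion {U X Y : Sp S} (hX : IsAlgSpace X) {f : X ⟶ Y}
    (hf : IsAffineMor f) (p : U ⟶ X) (q : U ⟶ Y) (hpq : p ≫ f = q) (h₁ : p ≫ f = 𝟙 U ≫ q)
    (h₂ : p ≫ f = 𝟙 U ≫ q) :
    RepWith @IsClosedImmersion (pullback.map p p q q (𝟙 U) (𝟙 U) f h₁ h₂) := by
  subst hpq
  exact repWith_mapDesc_isClosedImmersion hX p p hf

/-- The fibre product of two affine schemes over a quasi-separated space is quasi-compact. -/
theorem compactSpace_pullback_of_qs [QuasiSeparatedSpace S] {X : Sp S} (hqs : IsQuasiSeparatedSp X)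
    {U V W : Over S} [CompactSpace U.left] [CompactSpace V.left] {a : (yon S).obj U ⟶ X}
    {b : (yon S).obj V ⟶ X} {fst : W ⟶ U} {snd : W ⟶ V}
    (sq : IsPullback ((yon S).map fst) ((yon S).map snd) a b) : CompactSpace W.left := by
  have h : QuasiCompact (prod.lift fst snd).left := prop_lift_of_repWith_diag hqs sq
  have : QuasiCompact V.hom := inferInstance
  have : CompactSpace ↥(pullback U.hom V.hom) :=
    QuasiCompact.compactSpace_of_compactSpace (pullback.fst U.hom V.hom)
  have : CompactSpace ↥(U ⨯ V).left :=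
    (Over.prodLeftIsoPullback U V).inv.homeomorph.compactSpace
  exact QuasiCompact.compactSpace_of_compactSpace (prod.lift fst snd).left

section

variable {I : Type u} [SmallCategory I] [IsCofiltered I] {D : I ⥤ Sp S} {c : Cone D} (i₁ : I) {U : Sp S}

/-- The system of self fibre products over the stages. -/
def kerSys (v : U ⟶ c.pt) : Over i₁ ⥤ Sp S where
  obj k := pullback (v ≫ c.π.app k.left) (v ≫ c.π.app k.left)
  map {k l} m := pullback.map _ _ _ _ (𝟙 U) (𝟙 U) (D.map m.left)
    (by rw [Category.assoc, c.w, Category.id_comp]) (by rw [Category.assoc, c.w, Category.id_comp])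
  map_id k := by apply pullback.hom_ext <;> simp [pullback.map]
  map_comp m m' := by apply pullback.hom_ext <;> simp [pullback.map]

/-- The cone on the self fibre products given by the self fibre product over the limit. -/
def kerCone (v : U ⟶ c.pt) : Cone (kerSys i₁ v) where
  pt := pullback v v
  π :=
    { app := fun k => pullback.mapDesc v v (c.π.app k.left)
      naturality := fun k l m => by
        show 𝟙 _ ≫ _ = _
        rw [Category.id_comp]
        apply pullback.hom_ext <;> simp [kerSys, pullback.mapDesc, pullback.map] }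

theorem kerSys_map_fst (v : U ⟶ c.pt) {k l : Over i₁} (m : k ⟶ l) :
    (kerSys i₁ v).map m ≫ pullback.fst _ _ = pullback.fst _ _ := by
  simp [kerSys, pullback.map]

theorem kerSys_map_snd (v : U ⟶ c.pt) {k l : Over i₁} (m : k ⟶ l) :
    (kerSys i₁ v).map m ≫ pullback.snd _ _ = pullback.snd _ _ := by
  simp [kerSys, pullback.map]

theorem kerCone_π_fst (v : U ⟶ c.pt) (k : Over i₁) :
    (kerCone i₁ v).π.app k ≫ pullback.fst _ _ = pullback.fst _ _ := by
  simp [kerCone, pullback.mapDesc, pullback.map]

theorem kerCone_π_snd (v : U ⟶ c.pt) (k : Over i₁) :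
    (kerCone i₁ v).π.app k ≫ pullback.snd _ _ = pullback.snd _ _ := by
  simp [kerCone, pullback.mapDesc, pullback.map]

/-- The self fibre product over the limit is the limit of those over the stages. -/
theorem nonempty_isLimit_kerCone (hc : IsLimit c) (v : U ⟶ c.pt) :
    Nonempty (IsLimit (kerCone i₁ v)) := by
  let k₀ : Over i₁ := Over.mk (𝟙 i₁)
  let u (s : Cone (kerSys i₁ v)) : s.pt ⟶ U := s.π.app k₀ ≫ pullback.fst _ _
  let w (s : Cone (kerSys i₁ v)) : s.pt ⟶ U := s.π.app k₀ ≫ pullback.snd _ _
  have hu : ∀ s k, s.π.app k ≫ pullback.fst _ _ = u s := fun s k => by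
    show _ = s.π.app k₀ ≫ pullback.fst _ _
    rw [← s.w (Over.mkIdTerminal.from k), Category.assoc, kerSys_map_fst]
  have hw : ∀ s k, s.π.app k ≫ pullback.snd _ _ = w s := fun s k => by
    show _ = s.π.app k₀ ≫ pullback.snd _ _
    rw [← s.w (Over.mkIdTerminal.from k), Category.assoc, kerSys_map_snd]
  have huv : ∀ s, u s ≫ v = w s ≫ v := fun s => hom_ext_over hc i₁ fun k => by
    rw [← hu s k, ← hw s k]
    simp only [Category.assoc]
    rw [pullback.condition]
  exact ⟨{
    lift := fun s => pullback.lift (u s) (w s) (huv s)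
    fac := fun s k => by
      apply pullback.hom_ext
      · rw [Category.assoc, kerCone_π_fst, pullback.lift_fst, hu]
      · rw [Category.assoc, kerCone_π_snd, pullback.lift_snd, hw]
    uniq := fun s m hm => by
      apply pullback.hom_ext
      · rw [pullback.lift_fst, ← hu s k₀, ← hm k₀, Category.assoc, kerCone_π_fst]
      · rw [pullback.lift_snd, ← hw s k₀, ← hm k₀, Category.assoc, kerCone_π_snd] }⟩

theorem exists_mono [QuasiSeparatedSpace S] (hc : IsLimit c) (hD : ∀ i, IsAlgSpace (D.obj i))
    (hDa : ∀ (i j : I) (φ : i ⟶ j), IsAffineMor (D.map φ))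
    (hqs : ∀ i, IsQuasiSeparatedSp (D.obj i)) {B : Sp S} (hB : IsAlgSpace B)
    (t : D ⟶ (Functor.const I).obj B) {Y : Sp S} (hY : IsAlgSpace Y) (hYqc : IsQuasiCompactSp Y)
    (y : Y ⟶ c.pt) [Mono y] (hYB : LocP @LocallyOfFiniteType (y ≫ c.π.app i₁ ≫ t.app i₁)) :
    ∃ i₀ : I, ∀ (i : I) (_ : i ⟶ i₀), Mono (y ≫ c.π.app i) := by
  obtain ⟨V, a, hV, ha, has⟩ := exists_affine_chart hY hYqc
  let v : (yon S).obj V ⟶ c.pt := a ≫ y
  have hrep : ∀ k : Over i₁, ∃ (R : Over S) (r₁ r₂ : R ⟶ V),
      IsPullback ((yon S).map r₁) ((yon S).map r₂) (v ≫ c.π.app k.left) (v ≫ c.π.app k.left) :=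
    fun k => exists_pullback_of_diag (hD k.left).diag _ _
  choose R r₁ r₂ hR using hrep
  let D' := kerSys i₁ v
  let e : ∀ k, (yon S).obj (R k) ≅ D'.obj k := fun k => (hR k).isoPullback
  have hD' : ∀ k, IsAlgSpace (D'.obj k) := fun k => (IsAlgSpace.yon_obj (R k)).of_iso (e k)
  let t' : D' ⟶ (Functor.const _).obj ((yon S).obj V) :=
    { app := fun k => pullback.fst _ _
      naturality := fun k l m => by simp [D', kerSys_map_fst] }
  obtain ⟨hc'⟩ := nonempty_isLimit_kerCone i₁ hc v
  have hYk : ∀ k : Over i₁, LocP @LocallyOfFiniteType (y ≫ c.π.app k.left) := fun k =>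
    locP_of_comp_of_cancel (fun _ _ _ f g (_ : LocallyOfFiniteType (f ≫ g)) =>
        locallyOfFiniteType_of_comp f g) hY (hD k.left) hB (g := t.app k.left)
      (by rw [Category.assoc, locP_cone_π B t k]; exact hYB)
  have hsq : ∀ k : Over i₁, IsPullback (pullback.snd (v ≫ c.π.app k.left) (v ≫ c.π.app k.left))
      (pullback.fst _ _) (v ≫ c.π.app k.left) (v ≫ c.π.app k.left) :=
    fun k => (IsPullback.of_hasPullback _ _).flip
  have hft : ∀ k : Over i₁, LocP @LocallyOfFiniteType (t'.app k) := fun k =>
    locP_of_isPullback (IsAlgSpace.yon_obj V) (hD k.left) (IsAlgSpace.yon_obj V) (hsq k) (by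
      rw [Category.assoc]
      exact locP_comp (IsAlgSpace.yon_obj V) hY (hD k.left)
        (locP_of_repWith (repWith_mono (fun _ _ g (_ : Etale g) =>
          (inferInstance : LocallyOfFiniteType g)) ha)) (hYk k))
  have hqc : ∀ k, IsQuasiCompactSp (D'.obj k) := fun k => by
    have := compactSpace_pullback_of_qs (hqs k.left) (hR k)
    exact isQuasiCompactSp_of_iso (e k) ((isQuasiCompactSp_yon_iff (R k)).2 this)
  have hDc : ∀ (k l : Over i₁) (m : k ⟶ l), RepWith @IsClosedImmersion (D'.map m) := fun k l m =>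
    repWith_pullbackMap_isClosedImmersion (hD k.left) (hDa _ _ m.left) _ _ (by rw [Category.assoc, c.w])
      (by rw [Category.id_comp, Category.assoc, c.w]) (by rw [Category.id_comp, Category.assoc, c.w])
  have hX : LocP @LocallyOfFinitePresentation
      ((kerCone i₁ v).π.app (Over.mk (𝟙 i₁)) ≫ t'.app (Over.mk (𝟙 i₁))) := by
    have e₁ : (kerCone i₁ v).π.app (Over.mk (𝟙 i₁)) ≫ t'.app (Over.mk (𝟙 i₁)) = pullback.fst v v :=
      kerCone_π_fst i₁ v _
    rw [e₁]
    have sqa : IsPullback (pullback.fst v v) (pullback.snd v v) a a := by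
      refine ⟨⟨?_⟩, ⟨PullbackCone.IsLimit.mk _ (fun s => pullback.lift s.fst s.snd ?_) (fun s => ?_)
        (fun s => ?_) (fun s m h₁ h₂ => ?_)⟩⟩
      · rw [← cancel_mono y, Category.assoc, Category.assoc]; exact pullback.condition
      · rw [← Category.assoc, s.condition, Category.assoc]
      · exact pullback.lift_fst _ _ _
      · exact pullback.lift_snd _ _ _
      · apply pullback.hom_ext
        · rw [pullback.lift_fst, h₁]
        · rw [pullback.lift_snd, h₂]
    exact locP_of_repWith (repWith_mono (fun _ _ g (_ : Etale g) =>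
      (inferInstance : LocallyOfFinitePresentation g)) (repWith_of_isPullback sqa.flip ha))
  obtain ⟨j, hj⟩ := exists_isIso_π D' hD' (IsAlgSpace.yon_obj V) t' hc' (Over.mk (𝟙 i₁)) hDc hqc hft hX
  refine ⟨j.left, fun i φ => ⟨fun {Z} p q hpq => ?_⟩⟩
  let l : Over i₁ := Over.mk (φ ≫ j.hom)
  have := hj l (Over.homMk φ)
  -- pull back the cover twice
  let Z₁ := pullback a p
  let q₁ := pullback.snd a p
  let Z₂ := pullback a (q₁ ≫ q)
  let q₂ := pullback.snd a (q₁ ≫ q)
  have hls : ∀ {W : Sp S} (g : W ⟶ Y), Epi (pullback.snd a g) := fun g =>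
    have := isLocallySurjective_of_etale _ (repWith_of_isPullback (IsPullback.of_hasPullback a g) ha)
      (repWith_of_isPullback (IsPullback.of_hasPullback a g) has)
    inferInstance
  have := hls p
  have := hls (q₁ ≫ q)
  rw [← cancel_epi q₁, ← cancel_epi q₂]
  let u : Z₂ ⟶ (yon S).obj V := q₂ ≫ pullback.fst a p
  let w : Z₂ ⟶ (yon S).obj V := pullback.fst a (q₁ ≫ q)
  have hu : u ≫ a = q₂ ≫ q₁ ≫ p := by simp only [u, Category.assoc]; rw [pullback.condition]
  have hw : w ≫ a = q₂ ≫ q₁ ≫ q := pullback.condition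
  let z : Z₂ ⟶ D'.obj l := pullback.lift u w (by
    show u ≫ (a ≫ y) ≫ c.π.app i = w ≫ (a ≫ y) ≫ c.π.app i
    refine Eq.trans ?_ (Category.assoc _ _ _)
    refine (Category.assoc _ _ _).symm.trans ?_
    rw [← Category.assoc u, ← Category.assoc w, hu, hw]
    simp only [Category.assoc, hpq])
  have hz₁ : (z ≫ inv ((kerCone i₁ v).π.app l)) ≫ pullback.fst v v = u := by
    rw [Category.assoc, ← kerCone_π_fst i₁ v l, IsIso.inv_hom_id_assoc]
    exact pullback.lift_fst _ _ _
  have hz₂ : (z ≫ inv ((kerCone i₁ v).π.app l)) ≫ pullback.snd v v = w := by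
    rw [Category.assoc, ← kerCone_π_snd i₁ v l, IsIso.inv_hom_id_assoc]
    exact pullback.lift_snd _ _ _
  rw [← cancel_mono y]
  simp only [Category.assoc]
  rw [← reassoc_of% hu, ← reassoc_of% hw, ← hz₁, ← hz₂]
  simp only [Category.assoc]
  exact congrArg (fun x => z ≫ inv ((kerCone i₁ v).π.app l) ≫ x) pullback.condition

end

end Groth.SpLimit
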