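import Groth.Agent.SpLimit.LfpIff
import Groth.Agent.SpLimit.Charts
import Groth.Agent.SpLimit.MonoEventual
import Groth.Agent.AlgSp2.InfGlue

/-!
# Maps from limits of qcqs algebraic spaces to spaces locally of finite presentation
-/

set_option autoImplicit false
set_option backward.isDefEq.respectTransparency false
set_option backward.isDefEq.respectTransparency.types false

universe u

open CategoryTheory CategoryTheory.Limits AlgebraicGeometry Opposite AlgSp
open Groth.AlgSpBasic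

noncomputable section

namespace Groth.SpLimit

variable {S : Scheme.{u}} {I : Type u} [SmallCategory I] [IsCofiltered I] {D : I ⥤ Sp S}
  (hD : ∀ i, IsAlgSpace (D.obj i)) (hDa : ∀ (i j : I) (φ : i ⟶ j), IsAffineMor (D.map φ))
  {c : Cone D} (hc : IsLimit c) (hqc : ∀ i, IsQuasiCompactSp (D.obj i))
  {X Y : Sp S} (hX : IsAlgSpace X) (hY : IsAlgSpace Y) {a : X ⟶ Y}
  (ha : LocP @LocallyOfFinitePresentation a)

include hD hDa hc hqc hX hY ha

/-- Maps from a stage over the same map, which agree in the limit, agree at a later stage. -/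
theorem space_eq_eventually {i : I} (x₁ x₂ : D.obj i ⟶ X) (h : x₁ ≫ a = x₂ ≫ a)
    (he : c.π.app i ≫ x₁ = c.π.app i ≫ x₂) :
    ∃ (j : I) (φ : j ⟶ i), D.map φ ≫ x₁ = D.map φ ≫ x₂ := by
  obtain ⟨T, g, hT, hge, hgs⟩ := exists_affine_chart (hD i) (hqc i)
  obtain ⟨P⟩ := nonempty_pullSys D hDa hc i g
  let k₀ : Over i := Over.mk (𝟙 i)
  obtain ⟨k, φ, hk⟩ := eq_eventually P.affSys hX hY ha (i := k₀) (P.p k₀ ≫ x₁) (P.p k₀ ≫ x₂)
    (by simp only [Category.assoc, h]; done) (by
      rw [← Category.assoc, ← Category.assoc]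
      erw [← P.top_π k₀]
      erw [Category.assoc, Category.assoc, he]
      rfl)
  refine ⟨k.left, k.hom, Groth.AlgSp2.hom_ext_of_etale (P.p k) (P.repWith_p hge k) (P.repWith_p hgs k) ?_⟩
  have e : φ.left = k.hom := (Category.comp_id _).symm.trans (Over.w φ)
  rw [← e, ← Category.assoc, ← Category.assoc, ← P.map_p φ, Category.assoc, Category.assoc]
  exact hk

variable [QuasiSeparatedSpace S] (hqs : ∀ i, IsQuasiSeparatedSp (D.obj i))

include hqs

/-- A map from the limit lying over a map from a stage comes from a later stage. -/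
theorem space_exists_lift {i : I} (y : D.obj i ⟶ Y) (x : c.pt ⟶ X)
    (hxy : x ≫ a = c.π.app i ≫ y) :
    ∃ (j : I) (φ : j ⟶ i) (x' : D.obj j ⟶ X), c.π.app j ≫ x' = x ∧ x' ≫ a = D.map φ ≫ y := by
  obtain ⟨T, g, hT, hge, hgs⟩ := exists_affine_chart (hD i) (hqc i)
  obtain ⟨P⟩ := nonempty_pullSys D hDa hc i g
  let k₀ : Over i := Over.mk (𝟙 i)
  obtain ⟨k, φ, x', hx', hx'a⟩ := exists_lift_stage P.affSys hX hY ha (i := k₀) (P.p k₀ ≫ y)
    (P.top ≫ x) (by
      rw [Category.assoc, hxy, ← Category.assoc, ← Category.assoc]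
      erw [P.top_π k₀]
      rfl)
  have eφ : φ.left = k.hom := (Category.comp_id _).symm.trans (Over.w φ)
  replace hx'a : x' ≫ a = P.p k ≫ D.map k.hom ≫ y := by
    rw [← eφ, ← Category.assoc, ← P.map_p φ, Category.assoc]
    exact hx'a
  -- the kernel pair of the chart at the new stage
  obtain ⟨R, r₁, r₂, hR⟩ := exists_pullback_of_diag (hD k.left).diag (P.p k) (P.p k)
  have : IsAffine (P.E.obj k).left := P.affSys.aff k
  have : CompactSpace R.left := compactSpace_pullback_of_qs (hqs k.left) hR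
  obtain ⟨V₀, v₀, hvs, hve, hV⟩ := R.left.exists_hom_isAffine_of_isZariskiLocalAtSource @Etale
  let V : Over S := Over.mk (v₀ ≫ R.hom)
  let v : V ⟶ R := Over.homMk v₀
  have hVa : IsAffine V.left := hV
  obtain ⟨P'⟩ := nonempty_pullSys D hDa hc k.left ((yon S).map (v ≫ r₁) ≫ P.p k)
  let m₀ : Over k.left := Over.mk (𝟙 k.left)
  have hw : (yon S).map r₁ ≫ P.p k = (yon S).map r₂ ≫ P.p k := hR.w
  have hlim : ∀ r : R ⟶ P.E.obj k, (yon S).map r ≫ P.p k = (yon S).map r₁ ≫ P.p k →
      (yon S).map (P'.L.π.app m₀) ≫ (yon S).map (P'.q m₀ ≫ v ≫ r) ≫ x' = P'.top ≫ x := by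
    intro r hr
    have hg : (yon S).map (P'.bot ≫ v ≫ r) ≫ P.p k = P'.top ≫ c.π.app k.left := by
      rw [P'.sqTop.w]
      simp only [Functor.map_comp, Category.assoc, hr]
    let τ := (P.sq_π k).lift P'.top ((yon S).map (P'.bot ≫ v ≫ r)) hg.symm
    have hτ : τ ≫ (yon S).map (P.L.π.app k) = (yon S).map (P'.bot ≫ v ≫ r) :=
      (P.sq_π k).lift_snd _ _ _
    rw [← Category.assoc, ← Functor.map_comp, reassoc_of% (P'.π_q m₀), ← hτ, Category.assoc]
    refine (congrArg (τ ≫ ·) hx').trans ?_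
    exact (Category.assoc _ _ _).symm.trans (congrArg (· ≫ x) ((P.sq_π k).lift_fst _ _ _))
  obtain ⟨m, ψ, hψ⟩ := eq_eventually P'.affSys hX hY ha (i := m₀)
    ((yon S).map (P'.q m₀ ≫ v ≫ r₁) ≫ x') ((yon S).map (P'.q m₀ ≫ v ≫ r₂) ≫ x')
    (by simp only [Category.assoc, hx'a, Functor.map_comp]; rw [reassoc_of% hw])
    ((hlim r₁ rfl).trans (hlim r₂ hw.symm).symm)
  let k₂ : Over i := Over.mk (m.hom ≫ k.hom)
  let μ : k₂ ⟶ k := Over.homMk m.hom
  have hμ : (yon S).map (P.E.map μ) ≫ P.p k = P.p k₂ ≫ D.map m.hom := P.map_p μ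
  obtain ⟨x'', hx''⟩ := Groth.AlgSp2.exists_desc_of_etale (P.p k₂) (P.repWith_p hge k₂)
    (P.repWith_p hgs k₂) ((yon S).map (P.E.map μ) ≫ x') fun Z p q e => by
      obtain ⟨p, rfl⟩ := (yon S).map_surjective p
      obtain ⟨q, rfl⟩ := (yon S).map_surjective q
      obtain ⟨ρ, hρ⟩ := (yon S).map_surjective (hR.lift ((yon S).map (p ≫ P.E.map μ))
        ((yon S).map (q ≫ P.E.map μ)) (by
          rw [Functor.map_comp, Functor.map_comp, Category.assoc, Category.assoc, hμ,
            reassoc_of% e]))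
      have hρ₁ : ρ ≫ r₁ = p ≫ P.E.map μ := (yon S).map_injective (by rw [Functor.map_comp, hρ, hR.lift_fst])
      have hρ₂ : ρ ≫ r₂ = q ≫ P.E.map μ := (yon S).map_injective (by rw [Functor.map_comp, hρ, hR.lift_snd])
      let zf : pullback ρ v ⟶ Z := pullback.fst ρ v
      let zv : pullback ρ v ⟶ V := pullback.snd ρ v
      have sqz := (IsPullback.of_hasPullback ρ v).flip.map (Over.forget S)
      have : Surjective zf.left := MorphismProperty.of_isPullback (P := @Surjective) sqz hvs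
      have : Etale zf.left := MorphismProperty.of_isPullback (P := @Etale) sqz hve
      have hzv : zf ≫ ρ = zv ≫ v := pullback.condition
      refine Groth.AlgSp2.hom_ext_of_fppf zf ?_
      obtain ⟨t, ht⟩ := (yon S).map_surjective ((P'.sq m).lift ((yon S).map (zf ≫ p) ≫ P.p k₂)
        ((yon S).map zv) (by
          rw [Category.assoc]
          erw [← hμ]
          rw [← Category.assoc, ← Category.assoc ((yon S).map zv), ← Functor.map_comp,
            ← Functor.map_comp, Category.assoc, ← hρ₁, reassoc_of% hzv]))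
      have ht' : t ≫ P'.E.map ψ ≫ P'.q m₀ = zv := by
        rw [P'.map_q ψ]
        exact (yon S).map_injective (by rw [Functor.map_comp, ht, (P'.sq m).lift_snd])
      have := congrArg ((yon S).map t ≫ ·) hψ
      simp only [PullSys.affSys, ← Category.assoc, ← Functor.map_comp] at this ⊢
      simp only [Category.assoc, reassoc_of% ht'] at this ⊢
      rw [← hρ₁, ← hρ₂, reassoc_of% hzv, reassoc_of% hzv]
      exact this
  refine ⟨m.left, m.hom ≫ k.hom, x'', ?_, ?_⟩
  · refine Groth.AlgSp2.hom_ext_of_etale P.top (P.repWith_top hge) (P.repWith_top hgs) ?_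
    rw [← hx', ← Category.assoc]
    erw [P.top_π k₂]
    rw [Category.assoc, hx'', ← Category.assoc, ← Functor.map_comp, P.L.w μ]
    rfl
  · refine Groth.AlgSp2.hom_ext_of_etale (P.p k₂) (P.repWith_p hge k₂) (P.repWith_p hgs k₂) ?_
    rw [reassoc_of% hx'', hx'a, reassoc_of% hμ, D.map_comp, Category.assoc]

end Groth.SpLimit
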