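import Groth.Agent.SpLimit.DiagRows
import Groth.Agent.AlgSp2.MonoEtale
import Groth.Agent.AlgSp2.FlatSubmersive

/-!
# Descending isomorphisms along limits
-/

set_option autoImplicit false
set_option backward.isDefEq.respectTransparency false
set_option backward.isDefEq.respectTransparency.types false

universe u

open CategoryTheory CategoryTheory.Limits AlgebraicGeometry Opposite AlgSp
open Groth.AlgSpBasic

noncomputable section

namespace Groth.SpLimit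

variable {S : Scheme.{u}} {I : Type u} [SmallCategory I] [IsCofiltered I] {D : I ⥤ Sp S} {c : Cone D}
  {i₀ : I} {X₀ Y₀ : Sp S} {f₀ : X₀ ⟶ Y₀} {b₀ : Y₀ ⟶ D.obj i₀}

/-- A base change at a stage is a base change of the one at an earlier stage. -/
theorem exists_bc_stage {i k : I} (φ : i ⟶ i₀) (a : k ⟶ i) (ψ : k ⟶ i₀) (hψ : a ≫ φ = ψ)
    {Xk Yk : Sp S} {fk : Xk ⟶ Yk} {pYk : Yk ⟶ Y₀} {qYk : Yk ⟶ D.obj k}
    (hYk : IsPullback pYk qYk b₀ (D.map ψ)) {pXk : Xk ⟶ X₀} (hXk : IsPullback pXk fk f₀ pYk) :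
    ∃ (Xi Yi : Sp S) (fi : Xi ⟶ Yi) (pYi : Yi ⟶ Y₀) (qYi : Yi ⟶ D.obj i) (pXi : Xi ⟶ X₀)
      (u : Xk ⟶ Xi) (v : Yk ⟶ Yi),
      IsPullback pYi qYi b₀ (D.map φ) ∧ IsPullback pXi fi f₀ pYi ∧ IsPullback u fk fi v := by
  subst hψ
  have sY := IsPullback.of_hasPullback b₀ (D.map φ)
  have sX := IsPullback.of_hasPullback f₀ (pullback.fst b₀ (D.map φ))
  let v := sY.lift pYk (qYk ≫ D.map a) (by rw [hYk.w, D.map_comp, Category.assoc])
  let u := sX.lift pXk (fk ≫ v) (by rw [hXk.w, Category.assoc, sY.lift_fst])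
  exact ⟨_, _, _, _, _, _, u, v, sY, sX,
    IsPullback.of_right (by rw [sX.lift_fst, sY.lift_fst]; exact hXk) (sX.lift_snd _ _ _) sX⟩

variable [QuasiSeparatedSpace S] (hD : ∀ i, IsAlgSpace (D.obj i))
  (hDa : ∀ (i j : I) (φ : i ⟶ j), IsAffineMor (D.map φ)) (hc : IsLimit c)
  (hX₀ : IsAlgSpace X₀) (hY₀ : IsAlgSpace Y₀) (hXqc : IsQuasiCompactSp X₀) (hYqc : IsQuasiCompactSp Y₀)
  (hXqs : IsQuasiSeparatedSp X₀) (hYqs : IsQuasiSeparatedSp Y₀)
  {X Y : Sp S} {f : X ⟶ Y} {pY : Y ⟶ Y₀} {qY : Y ⟶ c.pt} (hY : IsPullback pY qY b₀ (c.π.app i₀))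
  {pX : X ⟶ X₀} (hX : IsPullback pX f f₀ pY)

include hD hDa hc hX₀ hY₀ hXqc hYqc hXqs hYqs hY hX in
theorem exists_isIso_stage [IsIso f] (hf₀ : LocP @LocallyOfFinitePresentation f₀) :
    ∃ (i : I) (φ : i ⟶ i₀), ∀ (Xi Yi : Sp S) (fi : Xi ⟶ Yi) (pYi : Yi ⟶ Y₀) (qYi : Yi ⟶ D.obj i)
      (_ : IsPullback pYi qYi b₀ (D.map φ)) (pXi : Xi ⟶ X₀) (_ : IsPullback pXi fi f₀ pYi),
      IsIso fi := by
  obtain ⟨i₁, φ₁, h₁⟩ := exists_mono_stage hD hDa hc hX₀ hY₀ hXqc hYqc hXqs hYqs hY hX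
    (fun U V a b h ha hb e => by
      have : LocallyOfFinitePresentation h.left := hf₀ a b h ha hb e
      exact (inferInstance : LocallyOfFiniteType h.left))
  obtain ⟨i₂, φ₂, h₂⟩ := exists_locP_stage hD hDa hc hX₀ hY₀ hXqc hYqc hYqs hf₀ hY hX @Etale
    Groth.Limits.ringDescends_etale (fun _ _ g (_ : IsOpenImmersion g) => inferInstance)
    (locP_of_repWith (repWith_isIso f))
  obtain ⟨i₃, φ₃, h₃⟩ := exists_surjective_stage hD hDa hc hX₀ hY₀ hXqc hYqc hYqs hf₀ hY hX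
    (fun y => ⟨Points.map (CategoryTheory.inv f) y, by rw [← Points.map_comp, IsIso.inv_hom_id, Points.map_id]⟩)
  obtain ⟨j, a₁, a₂, w₁⟩ := IsCofiltered.cospan φ₁ φ₂
  obtain ⟨k, b, a₃, w₂⟩ := IsCofiltered.cospan (a₁ ≫ φ₁) φ₃
  refine ⟨k, b ≫ a₁ ≫ φ₁, fun Xk Yk fk pYk qYk hYk pXk hXk => ?_⟩
  obtain ⟨hXa, hYa⟩ := isAlgSpace_bc hD hX₀ hY₀ hYk hXk
  have : Mono fk := by
    obtain ⟨_, _, fi, _, _, _, u, v, sY, sX, sq⟩ := exists_bc_stage φ₁ (b ≫ a₁) _ (Category.assoc _ _ _) hYk hXk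
    have := h₁ _ _ fi _ _ sY _ sX
    exact MorphismProperty.of_isPullback (P := MorphismProperty.monomorphisms (Sp S)) sq this
  have he : LocP @Etale fk := by
    obtain ⟨_, _, fi, _, _, _, u, v, sY, sX, sq⟩ := exists_bc_stage φ₂ (b ≫ a₂) _
      (by rw [Category.assoc, w₁]) hYk hXk
    obtain ⟨h', h''⟩ := isAlgSpace_bc hD hX₀ hY₀ sY sX
    exact locP_of_isPullback h' h'' hYa sq (h₂ _ _ fi _ _ sY _ sX)
  have hs : IsSurjectiveMor fk := by
    obtain ⟨_, _, fi, _, _, _, u, v, sY, sX, sq⟩ := exists_bc_stage φ₃ a₃ _ w₂.symm hYk hXk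
    exact Groth.AlgSp2.isSurjectiveMor_of_isPullback' sq (h₃ _ _ fi _ _ sY _ sX)
  have ho := Groth.AlgSp2.repWith_isOpenImmersion_of_mono_etale hXa hYa he
  refine Groth.AlgSp2.isIso_of_repWith (repWith_of_representable ho.rep fun U V g fst snd sq => ?_)
  have : IsOpenImmersion snd.left := ho.property g fst snd sq
  have : Surjective snd.left := (repWith_surjective_of_points ho.rep hs).property g fst snd sq
  have : Epi snd.left.base := (TopCat.epi_iff_surjective _).2 snd.left.surjective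
  exact IsOpenImmersion.isIso snd.left

end Groth.SpLimit
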