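import Groth.Agent.SpLimit.Stage
import Groth.Agent.SpectralTopology.DescendFP
import Groth.Agent.Limits.RelApprox

/-!
# Etale coverings of a limit of qcqs schemes over a base come from a stage
-/

set_option autoImplicit false
set_option backward.isDefEq.respectTransparency false
set_option backward.isDefEq.respectTransparency.types false

universe u

open CategoryTheory CategoryTheory.Limits AlgebraicGeometry

noncomputable section

namespace Groth.SpLimit

variable {S : Scheme.{u}}

/-- An affine etale surjection onto the limit of qcqs schemes comes from a stage. -/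
theorem exists_etale_surjective_model {J : Type u} [SmallCategory J] [IsCofiltered J]
    (E : J ⥤ Over S) [∀ (i j : J) (m : i ⟶ j), IsAffineHom ((E ⋙ Over.forget S).map m)]
    [∀ j, CompactSpace ((E ⋙ Over.forget S).obj j)]
    [∀ j, QuasiSeparatedSpace ((E ⋙ Over.forget S).obj j)]
    {c : Cone E} (hc : IsLimit ((Over.forget S).mapCone c)) {W : Over S} (f : W ⟶ c.pt)
    [Etale f.left] [Surjective f.left] [IsAffineHom f.left] :
    ∃ (i : J) (W₀ : Over S) (f₀ : W₀ ⟶ E.obj i) (top : W ⟶ W₀),
      IsPullback top f f₀ (c.π.app i) ∧ IsAffineHom f₀.left ∧ Etale f₀.left ∧ Surjective f₀.left := by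
  let D' := E ⋙ Over.forget S
  have hlfp : LocallyOfFinitePresentation f.left := inferInstance
  have hqc : QuasiCompact f.left := inferInstance
  have hqs : QuasiSeparated f.left := inferInstance
  obtain ⟨i, ⟨M⟩⟩ := Groth.SpectralTopology.exists_stageModel (D := D') (c := (Over.forget S).mapCone c)
    hc (X := W.left) (f := f.left)
  have htr : ∀ (P : MorphismProperty Scheme.{u}) [P.RespectsIso] {i : J}
      (M : Groth.SpectralTopology.StageModel (show W.left ⟶ ((Over.forget S).mapCone c).pt from f.left) i),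
      P f.left → P (pullback.snd M.hom (((Over.forget S).mapCone c).π.app i)) := fun P _ i M h => by
    rw [← M.sq.isoPullback_inv_snd, P.cancel_left_of_respectsIso]
    exact h
  have : CompactSpace M.obj := QuasiCompact.compactSpace_of_compactSpace M.hom
  obtain ⟨j₁, h₁⟩ := Groth.Limits.exists_stage_of_ringDescends @Etale Groth.Limits.ringDescends_etale
    (fun _ _ _ _ => inferInstance) D' _ hc i M.hom (htr @Etale M inferInstance)
  let M₁ := M.pull j₁.hom
  have e₁ : Etale M₁.hom := (prop_fst_iff (P := @Etale) _ _).2 h₁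
  obtain ⟨j₂, φ₂, h₂⟩ := Groth.Calg2.DescendProps.baseDesc_surjective D' _ hc M₁.hom
    (htr @Surjective M₁ inferInstance)
  let M₂ := M₁.pull φ₂
  have s₂ : Surjective M₂.hom := (prop_fst_iff (P := @Surjective) _ _).2 h₂
  have e₂ : Etale M₂.hom := MorphismProperty.pullback_fst (P := @Etale) _ _ e₁
  obtain ⟨j₃, φ₃, h₃⟩ := Groth.Calg2.DescendProps.baseDesc_isAffineHom D' _ hc M₂.hom
    (htr @IsAffineHom M₂ inferInstance)
  let M₃ := M₂.pull φ₃
  have a₃ : IsAffineHom M₃.hom := (prop_fst_iff (P := @IsAffineHom) _ _).2 h₃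
  refine ⟨j₃, Over.mk (M₃.hom ≫ (E.obj j₃).hom), Over.homMk M₃.hom rfl,
    Over.homMk M₃.map (by
      change M₃.map ≫ M₃.hom ≫ (E.obj j₃).hom = W.hom
      rw [← Over.w f, ← Category.assoc, M₃.sq.w, Category.assoc]
      exact congrArg (f.left ≫ ·) (Over.w (c.π.app j₃))), ?_, a₃, ?_, ?_⟩
  · exact IsPullback.of_map (Over.forget S) (Over.OverMorphism.ext M₃.sq.w) M₃.sq
  · exact MorphismProperty.pullback_fst (P := @Etale) _ _ e₂
  · exact MorphismProperty.pullback_fst (P := @Surjective) _ _ s₂

/-- An affine scheme over a quasi-separated base is the limit, along affine maps, of schemes of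
finite presentation over the base. -/
theorem exists_affine_fp_system [QuasiSeparatedSpace S] (T : Over S) [IsAffine T.left] :
    ∃ (J : Type u) (_ : SmallCategory J) (_ : IsCofiltered J) (E : J ⥤ Over S)
      (π : (Functor.const J).obj T ⟶ E),
      Nonempty (IsLimit ((Over.forget S).mapCone (Cone.mk T π))) ∧
      (∀ (i j : J) (m : i ⟶ j), IsAffineHom (E.map m).left) ∧
      (∀ j, IsAffineHom (π.app j).left) ∧ (∀ j, CompactSpace (E.obj j).left) ∧
      (∀ j, LocallyOfFinitePresentation (E.obj j).hom) ∧ ∀ j, QuasiSeparated (E.obj j).hom := by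
  obtain ⟨R⟩ := Groth.Limits.exists_relSystem T.hom
  exact ⟨R.Iᵒᵖ, inferInstance, inferInstance, R.D, R.π, ⟨R.isLimitLeftCone⟩, R.affine,
    R.isAffineHom_π, R.compact, R.locallyOfFinitePresentation, R.quasiSeparated⟩

end Groth.SpLimit
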