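import Groth.Agent.SpLimit.SpaceLift
import Groth.Agent.SpLimit.SpaceLiftIff
import Groth.Agent.SpLimit.IsoRow
import Groth.Agent.SpLimit.ModelStage
import Groth.Agent.SpLimit.SchemeModel
import Groth.Agent.EtaleBase.FpqcDescent

/-!
# Affine limits of algebraic spaces are affine at a stage
-/

set_option autoImplicit false
set_option backward.isDefEq.respectTransparency false
set_option backward.isDefEq.respectTransparency.types false

universe u

open CategoryTheory CategoryTheory.Limits AlgebraicGeometry Opposite AlgSp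
open Groth.AlgSpBasic

noncomputable section

namespace Groth.SpLimit

variable {S : Scheme.{u}} {I : Type u} [SmallCategory I] [IsCofiltered I] {D : I ⥤ Sp S} {c : Cone D}

omit [IsCofiltered I] in
theorem PullSys.sq_map {i₀ : I} {T : Over S} {g : (yon S).obj T ⟶ D.obj i₀} (P : PullSys c i₀ g)
    {k l : Over i₀} (m : k ⟶ l) :
    IsPullback (P.p k) ((yon S).map (P.E.map m)) (D.map m.left) (P.p l) :=
  IsPullback.of_bot
    (show IsPullback (P.p k) ((yon S).map (P.E.map m) ≫ (yon S).map (P.q l))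
        (D.map m.left ≫ D.map l.hom) g by
      rw [← Functor.map_comp, P.map_q, ← D.map_comp, Over.w m]; exact P.sq k)
    (P.map_p m).symm (P.sq l)

variable [QuasiSeparatedSpace S] (hD : ∀ i, IsAlgSpace (D.obj i))
  (hDa : ∀ (i j : I) (φ : i ⟶ j), IsAffineMor (D.map φ)) (hc : IsLimit c)
  (hqc : ∀ i, IsQuasiCompactSp (D.obj i)) (hqs : ∀ i, IsQuasiSeparatedSp (D.obj i))
  {i₁ : I} {T₁ : Over S} [IsAffine T₁.left] {g : (yon S).obj T₁ ⟶ D.obj i₁}
  (hge : RepWith @Etale g) (hgs : RepWith @Surjective g) (P : PullSys c i₁ g)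
  {Z W : Over S} [LocallyOfFinitePresentation Z.hom] [QuasiSeparated Z.hom] (w : W ⟶ Z)
  [IsAffineHom w.left] [Etale w.left] [Surjective w.left]
  {k₀ : Over i₁} (φ : D.obj k₀.left ⟶ (yon S).obj Z) (top : P.L.pt ⟶ W)
  (sqT : IsPullback P.top ((yon S).map top) (c.π.app k₀.left ≫ φ) ((yon S).map w))

include hD hDa hc hqc hqs hge hgs sqT

/-- The chart is, at a stage, the base change of the covering of the target. -/
theorem exists_iso_model :
    ∃ (k : Over i₁) (μ : k ⟶ k₀) (wk : P.E.obj k ⟶ W),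
      IsPullback (P.p k) ((yon S).map wk) (D.map μ.left ≫ φ) ((yon S).map w) ∧
        P.L.π.app k ≫ wk = top := by
  have hwl : LocP @LocallyOfFinitePresentation ((yon S).map w) :=
    locP_lfp_of_etale ((repWith_yon_map_iff _ w).2 ‹Etale w.left›)
  obtain ⟨l, ψ, wl, hwl₁, hwl₂⟩ := exists_lift_stage P.affSys (IsAlgSpace.yon_obj W)
    (IsAlgSpace.yon_obj Z) hwl (i := k₀) (P.p k₀ ≫ φ) ((yon S).map top) (by
      rw [← sqT.w, ← Category.assoc, ← Category.assoc]
      exact congrArg (· ≫ φ) (P.top_π k₀))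
  obtain ⟨wl, rfl⟩ := (yon S).map_surjective wl
  have hwl₁' : P.L.π.app l ≫ wl = top := (yon S).map_injective (by
    rw [Functor.map_comp]; exact hwl₁)
  replace hwl₂ : (yon S).map wl ≫ (yon S).map w = P.p l ≫ D.map ψ.left ≫ φ := by
    refine hwl₂.trans ?_
    rw [← Category.assoc, ← Category.assoc]
    exact congrArg (· ≫ φ) (P.map_p ψ)
  -- the base change of the covering to the stage
  let φl : D.obj l.left ⟶ (yon S).obj Z := D.map ψ.left ≫ φ
  let V : Sp S := pullback φl ((yon S).map w)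
  let b₀ : V ⟶ D.obj l.left := pullback.fst _ _
  have sqV : IsPullback b₀ (pullback.snd φl ((yon S).map w)) φl ((yon S).map w) :=
    IsPullback.of_hasPullback _ _
  let f₀ : (yon S).obj (P.E.obj l) ⟶ V := sqV.lift (P.p l) ((yon S).map wl) hwl₂.symm
  have hf₀b : f₀ ≫ b₀ = P.p l := sqV.lift_fst _ _ _
  have hVa : IsAlgSpace V := isAlgSpace_pullback ⟨_, hD l.left⟩ ⟨_, IsAlgSpace.yon_obj W⟩
    ⟨_, IsAlgSpace.yon_obj Z⟩ _ _
  have : QuasiSeparatedSpace Z.left := quasiSeparatedSpace_of_quasiSeparated Z.hom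
  have : QuasiSeparated W.hom := by
    rw [← Over.w w]; infer_instance
  have hVqs : IsQuasiSeparatedSp V := isQuasiSeparatedSp_of_isPullback hVa (hqs l.left)
    (isQuasiSeparatedSp_yon_of_hom Z) (isQuasiSeparatedSp_yon_of_hom W) sqV
  have hb₀ : RepWith @IsAffineHom b₀ :=
    repWith_of_isPullback sqV.flip ((repWith_yon_map_iff _ w).2 ‹IsAffineHom w.left›)
  have : IsAffine (P.E.obj l).left := P.affSys.aff l
  have hVqc : IsQuasiCompactSp V := by
    obtain ⟨M, m, t, sqM⟩ := hb₀.rep (P.p l)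
    have : IsAffineHom m.left := hb₀.property _ _ _ sqM
    have : IsAffine M.left := isAffine_of_isAffineHom m.left
    exact ⟨M, t, repWith_of_isPullback sqM.flip (P.repWith_p hge l),
      repWith_of_isPullback sqM.flip (P.repWith_p hgs l), inferInstance⟩
  have hf₀ : LocP @LocallyOfFinitePresentation f₀ :=
    locP_of_comp_of_cancel' (Q := @LocallyOfFinitePresentation)
      (fun _ _ _ f h (_ : LocallyOfFinitePresentation (f ≫ h)) (_ : LocallyOfFinitePresentation h) =>
        Groth.SpectralTopology.lfp_of_comp f h)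
      (IsAlgSpace.yon_obj _) hVa (hD l.left) (by rw [hf₀b]; exact locP_lfp_of_etale (P.repWith_p hge l))
      (locP_lfp_of_etale (repWith_of_isPullback sqV.flip ((repWith_yon_map_iff _ w).2 ‹Etale w.left›)))
  -- the base change to the limit
  have hY : IsPullback ((yon S).map (P.L.π.app l) ≫ f₀) P.top b₀ (c.π.app l.left) := by
    refine IsPullback.flip (IsPullback.of_bot ?_ ?_ sqV)
    · rw [Category.assoc, sqV.lift_snd, ← Functor.map_comp, hwl₁']
      refine (?_ : IsPullback P.top ((yon S).map top) (c.π.app l.left ≫ D.map ψ.left ≫ φ) ((yon S).map w))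
      rw [← Category.assoc, c.w]
      exact sqT
    · rw [Category.assoc, hf₀b]
      exact P.top_π l
  have hX : IsPullback ((yon S).map (P.L.π.app l)) (𝟙 _) f₀ ((yon S).map (P.L.π.app l) ≫ f₀) := by
    refine IsPullback.of_bot ?_ (Category.id_comp _).symm hY
    rw [Category.id_comp, hf₀b]
    exact (P.sq_π l).flip
  obtain ⟨m, χ, hm⟩ := exists_isIso_stage hD hDa hc (IsAlgSpace.yon_obj _) hVa
    ((isQuasiCompactSp_yon_iff _).2 inferInstance) hVqc
    (isQuasiSeparatedSp_yon_affine _) hVqs hY hX hf₀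
  let k : Over i₁ := Over.mk (χ ≫ l.hom)
  let μ : k ⟶ l := Over.homMk χ
  let wk : P.E.obj k ⟶ W := P.E.map μ ≫ wl
  let sY : IsPullback (pullback.fst b₀ (D.map χ)) (pullback.snd b₀ (D.map χ)) b₀ (D.map χ) :=
    IsPullback.of_hasPullback _ _
  let fm := sY.lift ((yon S).map (P.E.map μ) ≫ f₀) (P.p k) (by
    rw [Category.assoc, hf₀b]; exact P.map_p μ)
  have sX : IsPullback ((yon S).map (P.E.map μ)) fm f₀ (pullback.fst b₀ (D.map χ)) := by
    refine IsPullback.of_bot ?_ (sY.lift_fst _ _ _).symm sY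
    rw [sY.lift_snd, hf₀b]
    exact (P.sq_map μ).flip
  have : IsIso fm := hm _ _ fm _ _ sY _ sX
  refine ⟨k, μ ≫ ψ, wk, ?_, ?_⟩
  · have hk : IsPullback (P.p k) ((yon S).map (P.E.map μ) ≫ f₀) (D.map χ) b₀ :=
      sY.flip.of_iso (asIso fm).symm (Iso.refl _) (Iso.refl _) (Iso.refl _)
        (by simp [fm, sY.lift_snd]) (by simp [fm, sY.lift_fst]) (by simp) (by simp)
    have := hk.paste_vert sqV
    rw [Category.assoc, sqV.lift_snd, ← Functor.map_comp] at this
    rw [Over.comp_left, D.map_comp, Category.assoc]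
    exact this
  · rw [← hwl₁', ← Category.assoc, P.L.w μ]

/-- The map to the target is affine at a stage. -/
theorem exists_isAffineMor_stage [CompactSpace Z.left] [IsAffineHom top.left] :
    ∃ (k : Over i₁) (μ : k ⟶ k₀), IsAffineMor (D.map μ.left ≫ φ) := by
  obtain ⟨k, μ, wk, sq, hwk⟩ := exists_iso_model hD hDa hc hqc hqs hge hgs P w φ top sqT
  let A := P.affSys.above k
  let t : A.D ⋙ Over.forget S ⟶ (Functor.const (Over k)).obj W.left :=
    { app := fun n => (P.E.map n.hom ≫ wk).left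
      naturality := fun n n' m => by
        change (P.E.map m.left).left ≫ (P.E.map n'.hom ≫ wk).left = (P.E.map n.hom ≫ wk).left ≫ 𝟙 _
        rw [Category.comp_id, ← Over.comp_left, ← Category.assoc, ← P.E.map_comp, Over.w m] }
  have : QuasiSeparatedSpace Z.left := quasiSeparatedSpace_of_quasiSeparated Z.hom
  have : QuasiSeparatedSpace W.left := quasiSeparatedSpace_of_quasiSeparated w.left
  have : CompactSpace W.left := QuasiCompact.compactSpace_of_compactSpace w.left
  let n₀ : Over k := Over.mk (𝟙 k)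
  have : QuasiCompact (t.app n₀) := by
    have : IsAffine ((A.D ⋙ Over.forget S).obj n₀) := A.aff n₀
    have : QuasiSeparatedSpace ↥(((Functor.const (Over k)).obj W.left).obj n₀) :=
      inferInstanceAs (QuasiSeparatedSpace W.left)
    infer_instance
  have : QuasiSeparated (t.app n₀) := by
    have : IsAffine ((A.D ⋙ Over.forget S).obj n₀) := A.aff n₀
    infer_instance
  have : IsAffineHom (((Over.forget S).mapCone A.c).π.app n₀ ≫ t.app n₀) := by
    change IsAffineHom ((P.L.π.app k).left ≫ (P.E.map (𝟙 k) ≫ wk).left)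
    rw [← Over.comp_left, P.E.map_id, Category.id_comp, hwk]
    infer_instance
  obtain ⟨n₁, hn⟩ := Groth.Limits.exists_isAffineHom_app t A.isLimit n₀
  refine ⟨n₁.left, n₁.hom ≫ μ, isAffineMor_iff_repWith.2 (repWith_of_affWith ?_)⟩
  refine affWith_of_cover (IsAlgSpace.yon_obj Z) ((repWith_yon_map_iff _ w).2 ‹Etale w.left›)
    ((repWith_yon_map_iff _ w).2 ‹Surjective w.left›) (fst := P.p n₁.left) ?_
    (affWith_of_repWith le_rfl ((repWith_yon_map_iff _ (P.E.map n₁.hom ≫ wk)).2 (hn n₁ (𝟙 n₁))))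
  rw [Functor.map_comp, Over.comp_left, D.map_comp, Category.assoc]
  exact (P.sq_map n₁.hom).paste_vert sq

omit hge hgs sqT in
/-- An affine limit of qcqs algebraic spaces is affine at a stage. -/
theorem exists_affine_of_limit (T : Over S) [IsAffine T.left] (e : (yon S).obj T ≅ c.pt) :
    ∃ (i : I) (T' : Over S), IsAffine T'.left ∧ Nonempty ((yon S).obj T' ≅ D.obj i) := by
  obtain ⟨i₁⟩ := IsCofiltered.nonempty (C := I)
  obtain ⟨T₁, g, hT₁, hge, hgs⟩ := exists_affine_chart (hD i₁) (hqc i₁)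
  obtain ⟨P⟩ := nonempty_pullSys D hDa hc i₁ g
  have : IsAffine P.L.pt.left := P.affSys.affPt
  obtain ⟨f, hf⟩ := (yon S).map_surjective (P.top ≫ e.inv)
  have hfe : Etale f.left := (repWith_yon_map_iff @Etale f).1 (by
    rw [hf]; exact repWith_comp (P.repWith_top hge) (repWith_isIso _))
  have hfs : Surjective f.left := (repWith_yon_map_iff @Surjective f).1 (by
    rw [hf]; exact repWith_comp (P.repWith_top hgs) (repWith_isIso _))
  obtain ⟨J, _, _, E, π, ⟨hE⟩, hEa, hπa, hEc, hEp, hEs⟩ := exists_affine_fp_system T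
  have : ∀ (i j : J) (m : i ⟶ j), IsAffineHom ((E ⋙ Over.forget S).map m) := hEa
  have : ∀ j, CompactSpace ((E ⋙ Over.forget S).obj j) := hEc
  have : ∀ j, QuasiSeparatedSpace ((E ⋙ Over.forget S).obj j) := fun j =>
    have := hEs j
    quasiSeparatedSpace_of_quasiSeparated (E.obj j).hom
  obtain ⟨n, W, w, top, sqW, hwa, hwe, hws⟩ := exists_etale_surjective_model E
    (c := Cone.mk T π) hE f
  have : LocallyOfFinitePresentation (E.obj n).hom := hEp n
  have : QuasiSeparated (E.obj n).hom := hEs n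
  have : CompactSpace (E.obj n).left := hEc n
  have : IsAffineHom top.left :=
    MorphismProperty.of_isPullback (P := @IsAffineHom) (sqW.flip.map (Over.forget S)).flip.flip (hπa n)
  -- the map to the model
  let E₀ : Over S := Over.mk (𝟙 S)
  let s : E.obj n ⟶ E₀ := Over.mkIdTerminal.from _
  have hs : LocP @LocallyOfFinitePresentation ((yon S).map s) :=
    locP_of_repWith ((repWith_yon_map_iff _ s).2 (by
      have e' : s.left = (E.obj n).hom := (Category.comp_id _).symm.trans (Over.w s)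
      rw [e']; exact hEp n))
  let hT : IsTerminal ((yon S).obj E₀) := Over.mkIdTerminal.isTerminalObj (yon S) E₀
  obtain ⟨j, a, φ, hφ, -⟩ := space_exists_lift hD hDa hc hqc (IsAlgSpace.yon_obj _)
    (IsAlgSpace.yon_obj E₀) hs hqs (i := i₁) (hT.from _) (e.inv ≫ (yon S).map (π.app n))
    (hT.hom_ext _ _)
  let k₀ : Over i₁ := Over.mk a
  have sqT : IsPullback P.top ((yon S).map top) (c.π.app k₀.left ≫ φ) ((yon S).map w) := by
    refine (sqW.flip.map (yon S)).of_iso (Iso.refl _) e (Iso.refl _) (Iso.refl _) ?_ ?_ ?_ ?_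
    · simp [hf]
    · simp
    · simp only [Iso.refl_hom, Category.comp_id]
      rw [show c.π.app k₀.left ≫ φ = e.inv ≫ (yon S).map (π.app n) from hφ, Iso.hom_inv_id_assoc]
    · simp
  obtain ⟨k, μ, hk⟩ := exists_isAffineMor_stage hD hDa hc hqc hqs hge hgs P w (k₀ := k₀) φ top sqT
  -- the spaces beyond that stage are schemes
  have hrep : ∀ m : Over k.left, ∃ W : Over S, CompactSpace W.left ∧ QuasiSeparatedSpace W.left ∧
      Nonempty ((yon S).obj W ≅ (Over.forget k.left ⋙ D).obj m) := fun m => by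
    have hr : RepWith @IsAffineHom (D.map m.hom ≫ D.map μ.left ≫ φ) :=
      repWith_comp (isAffineMor_iff_repWith.1 (hDa _ _ m.hom)) (isAffineMor_iff_repWith.1 hk)
    obtain ⟨X', x', q, sq'⟩ := hr.rep (𝟙 ((yon S).obj (E.obj n)))
    have hx : IsAffineHom x'.left := hr.property _ _ _ sq'
    have : QuasiSeparatedSpace (E.obj n).left := quasiSeparatedSpace_of_quasiSeparated (E.obj n).hom
    have := sq'.isIso_fst_of_isIso
    exact ⟨X', QuasiCompact.compactSpace_of_compactSpace x'.left,
      quasiSeparatedSpace_of_quasiSeparated x'.left, ⟨asIso q⟩⟩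
  obtain ⟨E', ⟨eE⟩⟩ := exists_scheme_system (Over.forget k.left ⋙ D) fun m => by
    obtain ⟨W, -, -, h⟩ := hrep m; exact ⟨W, h⟩
  have : ∀ (m m' : Over k.left) (α : m ⟶ m'), IsAffineHom (E'.map α).left := fun m m' α => by
    refine (repWith_yon_map_iff @IsAffineHom (E'.map α)).1 ?_
    have e' : (yon S).map (E'.map α) = eE.hom.app m ≫ D.map α.left ≫ eE.inv.app m' := by
      have h := eE.hom.naturality α
      simp only [Functor.comp_map, Over.forget_map] at h
      rw [← reassoc_of% h]; simp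
    rw [e']
    exact repWith_comp (repWith_isIso _) (repWith_comp (isAffineMor_iff_repWith.1 (hDa _ _ _))
      (repWith_isIso _))
  obtain ⟨c', e₂, -, ⟨hc'⟩⟩ := exists_scheme_cone E'
    ((IsLimit.postcomposeHomEquiv eE.symm _).symm
      ((Functor.Initial.isLimitWhiskerEquiv (Over.forget k.left) c).symm hc))
  let eT : c'.pt ≅ T := (yon S).preimageIso (e₂ ≪≫ e.symm)
  have : IsAffine ((Over.forget S).mapCone c').pt :=
    have : IsAffine ((Over.forget S).obj T) := ‹IsAffine T.left›
    IsAffine.of_isIso ((Over.forget S).map eT.hom)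
  have : ∀ {m m' : Over k.left} (α : m ⟶ m'), IsAffineHom ((E' ⋙ Over.forget S).map α) :=
    fun {m m'} α => by
      have h : IsAffineHom (E'.map α).left := inferInstance
      exact h
  have hcq : ∀ m, CompactSpace (E'.obj m).left ∧ QuasiSeparatedSpace (E'.obj m).left := fun m => by
    obtain ⟨W, h₁, h₂, ⟨w'⟩⟩ := hrep m
    let i := (Over.forget S).mapIso ((yon S).preimageIso (w' ≪≫ (eE.app m).symm))
    have : CompactSpace ((Over.forget S).obj W) := h₁
    have : QuasiSeparatedSpace ((Over.forget S).obj W) := h₂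
    exact ⟨i.hom.homeomorph.compactSpace, quasiSeparatedSpace_of_quasiSeparated i.inv⟩
  have : ∀ m, CompactSpace ((E' ⋙ Over.forget S).obj m) := fun m => (hcq m).1
  have : ∀ m, QuasiSeparatedSpace ((E' ⋙ Over.forget S).obj m) := fun m => (hcq m).2
  obtain ⟨m, hm⟩ := Scheme.exists_isAffine_of_isLimit (E' ⋙ Over.forget S) _ hc'
  exact ⟨m.left, E'.obj m, hm, ⟨eE.app m⟩⟩

end Groth.SpLimit
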