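import Groth.Agent.SpLimit.SchemeLimit
import Groth.Agent.AlgSp3.ShriekEquiv

/-!
# Restricting algebraic spaces to another base scheme

Representability by schemes and properties of maps pass to the restriction; over an open of the
base this allows to apply the limit theorems, which need a quasi-separated base.
-/

set_option autoImplicit false
set_option backward.isDefEq.respectTransparency false
set_option backward.isDefEq.respectTransparency.types false

universe u

open CategoryTheory CategoryTheory.Limits AlgebraicGeometry Opposite AlgSp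
open Groth.AlgSpBasic Groth.AlgSp3

noncomputable section

namespace Groth.SpLimit

variable {S S' : Scheme.{u}} (g : S ⟶ S')

/-- Restriction of sheaves to a base change. -/
abbrev restr : Sp S' ⥤ Sp S := Scheme.fppfTopology.overMapPullback (Type (u + 1)) g

instance : PreservesLimitsOfSize.{u, u} (restr g) := (shriekAdj g).rightAdjoint_preservesLimits

instance : PreservesLimitsOfSize.{0, 0} (restr g) := (shriekAdj g).rightAdjoint_preservesLimits

theorem counit_app_apply (F : Sp S') (T : Over S') (p : shriekObj g ((restr g).obj F) T) :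
    ((shriekAdj g).counit.app F).hom.app (op T) p = F.obj.map (Over.homMk (𝟙 T.left)
      ((Category.id_comp _).trans p.1.2) : T ⟶ (Over.map g).obj (Over.mk p.1.1)).op p.2 := rfl

/-- The extension of the restriction of a map is its base change. -/
theorem isPullback_counit {F G : Sp S'} (f : F ⟶ G) :
    IsPullback ((shriekAdj g).counit.app F) ((shriek g).map ((restr g).map f)) f
      ((shriekAdj g).counit.app G) := by
  refine IsPullback.of_map (sheafToPresheaf (J S') (Type (u + 1)))
    ((shriekAdj g).counit.naturality f).symm (IsPullback.of_forall_isPullback_app fun T => ?_)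
  rw [Types.isPullback_iff]
  have i : ∀ (x : BasePt g (unop T)) (H : Sp S'), Function.Bijective
      (H.obj.map (Over.homMk (𝟙 _) ((Category.id_comp _).trans x.2) :
        unop T ⟶ (Over.map g).obj (Over.mk x.1)).op) := fun x H =>
    ((H.obj.mapIso (Over.isoMk (Iso.refl _) ((Category.id_comp _).trans x.2) :
      unop T ≅ (Over.map g).obj (Over.mk x.1)).op).toEquiv).bijective
  refine ⟨?_, ?_, ?_⟩
  · ext p
    exact NatTrans.naturality_apply f.hom _ p.2
  · rintro ⟨x, y⟩ ⟨x', y'⟩ ⟨e₁, e₂⟩
    obtain rfl : x = x' :=
      congrArg (fun p : shriekObj g ((restr g).obj G) (unop T) => p.1) e₂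
    exact congrArg (fun z => (⟨x, z⟩ : shriekObj g ((restr g).obj F) (unop T))) ((i x F).1 e₁)
  · rintro y ⟨x, z⟩ e
    obtain ⟨y', hy'⟩ := (i x F).2 y
    refine ⟨⟨x, y'⟩, hy', ?_⟩
    refine congrArg (fun z => (⟨x, z⟩ : shriekObj g ((restr g).obj G) (unop T))) ((i x G).1 ?_)
    refine Eq.trans ?_ e
    subst hy'
    exact (NatTrans.naturality_apply f.hom _ y').symm

theorem repWith_restr {P : MorphismProperty Scheme.{u}} [P.RespectsIso] {F G : Sp S'} {f : F ⟶ G}
    (hf : RepWith P f) : RepWith P ((restr g).map f) :=
  repWith_of_shriek_map g (repWith_of_isPullback (isPullback_counit g f) hf)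

theorem isQuasiSeparatedSp_restr {F : Sp S'} (hF : IsQuasiSeparatedSp F) :
    IsQuasiSeparatedSp ((restr g).obj F) := by
  have h := repWith_comp (repWith_restr g hF)
    (repWith_isIso (P := @QuasiCompact) (PreservesLimitPair.iso (restr g) F F).hom)
  have e : (restr g).map (Limits.diag F) ≫ (PreservesLimitPair.iso (restr g) F F).hom =
      Limits.diag ((restr g).obj F) := by
    apply prod.hom_ext <;>
      simp [PreservesLimitPair.iso_hom, ← Functor.map_comp, prod.lift_fst, prod.lift_snd]
  rwa [IsQuasiSeparatedSp, ← e]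

theorem isQuasiCompactSp_of_shriek {F : Sp S} (h : IsQuasiCompactSp ((shriek g).obj F)) :
    IsQuasiCompactSp F := by
  obtain ⟨U, b, he, hs, hU⟩ := h
  obtain ⟨A, e, s, hb⟩ := exists_shriek_lift g b
  have key : ∀ {P : MorphismProperty Scheme.{u}} [P.RespectsIso], RepWith P b → RepWith P s :=
    fun {P} _ hp => repWith_of_shriek_map g (by
      have h1 : (shriek g).map s = (shriekYonIso g A).hom ≫ (yon S').map e.hom ≫ b := by
        rw [hb, Iso.hom_inv_id_assoc]
      rw [h1]
      exact MorphismProperty.RespectsIso.precomp _ (shriekYonIso g A).hom _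
        (MorphismProperty.RespectsIso.precomp _ ((yon S').map e.hom) _ hp))
  have : CompactSpace ↥((Over.forget S').obj U) := hU
  exact ⟨A, s, key he, key hs,
    ((Over.forget S').mapIso e).inv.homeomorph.compactSpace⟩

/-- Over a monomorphism of bases a sheaf living over the new base is the extension of its
restriction. -/
theorem nonempty_shriek_restr_iso [Mono g] {F : Sp S'} (p : F ⟶ (yon S').obj (Over.mk g)) :
    Nonempty ((shriek g).obj ((restr g).obj F) ≅ F) := by
  have : Mono (Over.mk g |>.hom) := ‹Mono g›
  have hsub : ∀ {Z : Sp S'} (a b : Z ⟶ (yon S').obj (Over.mk g)), a = b := fun {Z} a b => by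
    ext T z
    refine ULift.ext _ _ (Over.OverMorphism.ext ((cancel_mono g).1 ?_))
    exact (Over.w (a.hom.app T z).down).trans (Over.w (b.hom.app T z).down).symm
  obtain ⟨e⟩ := nonempty_shriek_restrict_iso g F
  exact ⟨e ≪≫ ⟨prod.snd, prod.lift p (𝟙 F), prod.hom_ext (hsub _ _) (by simp), by simp⟩⟩

theorem isRepresentable_restr {F : Sp S'} (h : F.obj.IsRepresentable) :
    ((restr g).obj F).obj.IsRepresentable := by
  obtain ⟨W, ⟨r⟩⟩ := h
  exact ⟨_, ⟨(restrictYonRepresentableBy g W).ofIso ((sheafToPresheaf _ _).mapIso
    ((restr g).mapIso (isoOfRepresentableBy r)))⟩⟩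

theorem isRepresentable_of_restr [Mono g] {F : Sp S'} (p : F ⟶ (yon S').obj (Over.mk g))
    (h : ((restr g).obj F).obj.IsRepresentable) : F.obj.IsRepresentable := by
  obtain ⟨W, ⟨r⟩⟩ := h
  obtain ⟨e⟩ := nonempty_shriek_restr_iso g p
  exact isRepresentable_of_iso ((shriekYonIso g W).symm ≪≫
    (shriek g).mapIso (isoOfRepresentableBy r) ≪≫ e)

end Groth.SpLimit
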