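import Mathlib.RingTheory.Jacobson.Ring
import Mathlib.RingTheory.FiniteStability
import Mathlib.RingTheory.TensorProduct.Free
import Mathlib.RingTheory.Ideal.GoingUp
import Mathlib.RingTheory.IntegralClosure.IntegralRestrict
import Mathlib.FieldTheory.IsAlgClosed.Basic
import Mathlib.LinearAlgebra.TensorProduct.Finiteness
import Mathlib.RingTheory.Flat.Basic

/-!
# Avoiding a closed set by a closed point of a geometrically irreducible algebra
-/

set_option autoImplicit false

universe u

open TensorProduct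

noncomputable section

namespace Groth.SpLimit

variable {k : Type u} [Field k]

/-- Irreducibility of the base change to a finite extension follows from that to the algebraic
closure of an overfield. -/
theorem isPrime_nilradical_finite {A Ω : Type u} [CommRing A] [Algebra k A] [CommRing Ω] [Algebra k Ω]
    (ι : A →ₐ[k] Ω) (hι : Function.Injective ι)
    (h : (nilradical (AlgebraicClosure k ⊗[k] Ω)).IsPrime)
    (F : Type u) [Field F] [Algebra k F] [Module.Finite k F] : (nilradical (F ⊗[k] A)).IsPrime := by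
  let σ : F →ₐ[k] AlgebraicClosure k := IsAlgClosed.lift
  let φ := Algebra.TensorProduct.map σ ι
  have hinj : Function.Injective φ := by
    have h₁ : Function.Injective (LinearMap.rTensor A σ.toLinearMap) :=
      Module.Flat.rTensor_preserves_injective_linearMap _ σ.toRingHom.injective
    have h₂ : Function.Injective (LinearMap.lTensor (AlgebraicClosure k) ι.toLinearMap) :=
      Module.Flat.lTensor_preserves_injective_linearMap _ hι
    have e : (φ.toLinearMap : F ⊗[k] A →ₗ[k] _) =
        (LinearMap.lTensor (AlgebraicClosure k) ι.toLinearMap) ∘ₗ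
          (LinearMap.rTensor A σ.toLinearMap) := by
      ext a b; rfl
    show Function.Injective φ.toLinearMap
    rw [e]
    exact h₂.comp h₁
  have : nilradical (F ⊗[k] A) = (nilradical (AlgebraicClosure k ⊗[k] Ω)).comap φ.toRingHom := by
    ext x
    simp only [mem_nilradical, Ideal.mem_comap]
    exact ⟨fun hx => hx.map φ, fun hx => (IsNilpotent.map_iff hinj).1 hx⟩
  rw [this]
  exact h.comap _

/-- The closed points of a finite base change which lie in a proper closed set do not cover. -/
theorem exists_ne_zero_of_finite {A : Type u} [CommRing A] [IsDomain A] [Algebra k A]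
    {F : Type u} [Field F] [Algebra k F] [Module.Finite k F] (hA : (nilradical (F ⊗[k] A)).IsPrime)
    (g : F ⊗[k] A) (hg : ¬ IsNilpotent g) :
    ∃ b : A, b ≠ 0 ∧ (Algebra.TensorProduct.includeRight : A →ₐ[k] F ⊗[k] A) b ∈ Ideal.span {g} := by
  let iA : A →ₐ[k] F ⊗[k] A := Algebra.TensorProduct.includeRight
  let _ := iA.toRingHom.toAlgebra
  have : IsScalarTower k A (F ⊗[k] A) := IsScalarTower.of_algebraMap_eq fun t => (iA.commutes t).symm
  have : Algebra.IsIntegral A (F ⊗[k] A) := ⟨fun x => by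
    induction x using TensorProduct.induction_on with
    | zero => exact isIntegral_zero
    | add x y hx hy => exact hx.add hy
    | tmul z b =>
      rw [show z ⊗ₜ[k] b = (z ⊗ₜ[k] (1 : A)) * algebraMap A (F ⊗[k] A) b from by
        rw [show algebraMap A (F ⊗[k] A) b = (1 : F) ⊗ₜ[k] b from rfl]; simp]
      exact ((((Algebra.IsIntegral.isIntegral (R := k) z).map
        (Algebra.TensorProduct.includeLeft : F →ₐ[k] F ⊗[k] A))).tower_top).mul isIntegral_algebraMap⟩
  have hinj : Function.Injective (algebraMap A (F ⊗[k] A)) :=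
    Algebra.TensorProduct.includeRight_injective (algebraMap k F).injective
  by_contra h
  push Not at h
  have hI : (Ideal.span {g}).comap (algebraMap A (F ⊗[k] A)) ≤ (⊥ : Ideal A) := fun b hb =>
    Ideal.mem_bot.2 (by_contra fun hne => h b hne hb)
  obtain ⟨q, hq, hqp, hqA⟩ := Ideal.exists_ideal_over_prime_of_isIntegral (⊥ : Ideal A)
    (Ideal.span {g}) hI
  refine hg (mem_nilradical.1 ?_)
  have heq : nilradical (F ⊗[k] A) = q := by
    refine eq_of_le_of_not_lt (nilradical_le_prime q) fun hlt => ?_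
    have h' := Ideal.IsIntegral.comap_lt_comap (R := A) hlt
    rw [show q.comap (algebraMap A (F ⊗[k] A)) = ⊥ from hqA] at h'
    exact not_lt_bot h'
  rw [heq]
  exact hq (Ideal.subset_span rfl)

set_option synthInstance.maxHeartbeats 100000 in
set_option maxHeartbeats 800000 in
/-- A nonnilpotent function is nonzero at all points over the generic point of the first factor and
some closed point of the second. -/
theorem exists_maximal_avoid_fg {A R : Type u} [CommRing A] [IsDomain A] [Algebra k A]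
    [Algebra.FiniteType k A] [CommRing R] [Algebra k R] [Algebra.FiniteType k R]
    (hA : ∀ (F : Type u) [Field F] [Algebra k F] [Module.Finite k F],
      (nilradical (F ⊗[k] A)).IsPrime)
    (f : R ⊗[k] A) (hf : ¬ IsNilpotent f) :
    ∃ m : Ideal A, m.IsMaximal ∧ ∀ Q : Ideal (R ⊗[k] A), Q.IsPrime →
      Q.comap (Algebra.TensorProduct.includeLeft : R →ₐ[k] R ⊗[k] A) = ⊥ →
      Q.comap (Algebra.TensorProduct.includeRight : A →ₐ[k] R ⊗[k] A) = m → f ∉ Q := by
  have : Algebra.FiniteType R (R ⊗[k] A) := inferInstance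
  have : Algebra.FiniteType k (R ⊗[k] A) := Algebra.FiniteType.trans (inferInstance : Algebra.FiniteType k R) this
  have : IsJacobsonRing (R ⊗[k] A) := isJacobsonRing_of_finiteType (A := k)
  have : IsJacobsonRing A := isJacobsonRing_of_finiteType (A := k)
  obtain ⟨w, hw, hfw⟩ : ∃ w : Ideal (R ⊗[k] A), w.IsMaximal ∧ f ∉ w := by
    by_contra h
    push Not at h
    refine hf (mem_nilradical.1 ?_)
    rw [show nilradical (R ⊗[k] A) = (⊥ : Ideal (R ⊗[k] A)).jacobson from (Ideal.radical_eq_jacobson ⊥)]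
    exact Submodule.mem_sInf.2 fun J hJ => h J hJ.2
  let iR : R →ₐ[k] (R ⊗[k] A) := Algebra.TensorProduct.includeLeft
  let r : Ideal R := w.comap iR
  have hr : r.IsMaximal := by
    let _ := Ideal.Quotient.field w
    have : Algebra.FiniteType k ((R ⊗[k] A) ⧸ w) := Algebra.FiniteType.of_surjective
      (Ideal.Quotient.mkₐ k w) Ideal.Quotient.mk_surjective
    have : Module.Finite k ((R ⊗[k] A) ⧸ w) := finite_of_finite_type_of_isJacobsonRing k _
    let e : R →ₐ[k] (R ⊗[k] A) ⧸ w := (Ideal.Quotient.mkₐ k w).comp iR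
    have he : r = (⊥ : Ideal ((R ⊗[k] A) ⧸ w)).comap e.toRingHom := by
      ext x
      rw [Ideal.mem_comap, Ideal.mem_comap, Ideal.mem_bot]
      exact Ideal.Quotient.eq_zero_iff_mem.symm
    have hk : (algebraMap k ((R ⊗[k] A) ⧸ w)).IsIntegral := algebraMap_isIntegral_iff.2 inferInstance
    rw [← e.comp_algebraMap] at hk
    rw [he]
    exact Ideal.isMaximal_comap_of_isIntegral_of_isMaximal' e.toRingHom
      (RingHom.IsIntegral.tower_top _ _ hk) ⊥
  let _ := Ideal.Quotient.field r
  let F := R ⧸ r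
  have : Algebra.FiniteType k F := Algebra.FiniteType.of_surjective (Ideal.Quotient.mkₐ k r)
    Ideal.Quotient.mk_surjective
  have : Module.Finite k F := finite_of_finite_type_of_isJacobsonRing k F
  let p : (R ⊗[k] A) →ₐ[k] F ⊗[k] A :=
    Algebra.TensorProduct.map (Ideal.Quotient.mkₐ k r) (AlgHom.id k A)
  have hpker : RingHom.ker p.toRingHom = r.map iR :=
    (Algebra.TensorProduct.rTensor_ker (C := A) (Ideal.Quotient.mkₐ k r)
      Ideal.Quotient.mk_surjective).trans (congrArg (Ideal.map _) (Ideal.Quotient.mkₐ_ker k r))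
  have hpsurj : Function.Surjective p.toRingHom :=
    TensorProduct.map_surjective Ideal.Quotient.mk_surjective Function.surjective_id
  have hmem : ∀ (P : Ideal (R ⊗[k] A)), r.map iR ≤ P → ∀ x, p x ∈ P.map p.toRingHom → x ∈ P := by
    intro P hP x hx
    obtain ⟨y, hy, e⟩ := (Ideal.mem_map_iff_of_surjective p.toRingHom hpsurj).1 hx
    have e' : p.toRingHom y = p.toRingHom x := e
    have hyx : y - x ∈ RingHom.ker p.toRingHom := by rw [RingHom.mem_ker, map_sub, e', sub_self]
    rw [hpker] at hyx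
    simpa using P.sub_mem hy (hP hyx)
  have hg : ¬ IsNilpotent (p f) := by
    intro h
    have hrw : r.map iR ≤ w := Ideal.map_le_iff_le_comap.2 le_rfl
    have : (w.map p.toRingHom).IsPrime :=
      Ideal.map_isPrime_of_surjective (f := p.toRingHom) hpsurj (hpker ▸ hrw)
    exact hfw (hmem w hrw f (this.mem_of_pow_mem _ (h.choose_spec ▸ Ideal.zero_mem _)))
  obtain ⟨b, hb, hbI⟩ := exists_ne_zero_of_finite (hA F) (p f) hg
  obtain ⟨m, hm, hbm⟩ : ∃ m : Ideal A, m.IsMaximal ∧ b ∉ m := by
    by_contra h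
    push Not at h
    refine hb (IsNilpotent.eq_zero (mem_nilradical.1 ?_))
    rw [show nilradical A = (⊥ : Ideal A).jacobson from (Ideal.radical_eq_jacobson ⊥)]
    exact Submodule.mem_sInf.2 fun J hJ => h J hJ.2
  refine ⟨m, hm, fun Q hQ hQR hQm hfQ => ?_⟩
  -- the quotient by a bad point is finite over the first factor
  let iA : A →ₐ[k] (R ⊗[k] A) := Algebra.TensorProduct.includeRight
  let π := Ideal.Quotient.mkₐ k Q
  have : IsScalarTower k R ((R ⊗[k] A) ⧸ Q) :=
    IsScalarTower.of_algebraMap_eq fun t => ((π.comp iR).commutes t).symm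
  let _ := Ideal.Quotient.field m
  have : Algebra.FiniteType k (A ⧸ m) := Algebra.FiniteType.of_surjective
    (Ideal.Quotient.mkₐ k m) Ideal.Quotient.mk_surjective
  have : Module.Finite k (A ⧸ m) := finite_of_finite_type_of_isJacobsonRing k _
  let ψ : (A ⧸ m) →ₐ[k] (R ⊗[k] A) ⧸ Q := Ideal.Quotient.liftₐ m (π.comp iA) fun x hx =>
    Ideal.Quotient.eq_zero_iff_mem.2 (hQm.ge hx)
  have : Algebra.IsIntegral R ((R ⊗[k] A) ⧸ Q) := by
    refine ⟨fun x => ?_⟩
    obtain ⟨y, rfl⟩ := Ideal.Quotient.mkₐ_surjective k Q x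
    induction y using TensorProduct.induction_on with
    | zero => rw [map_zero]; exact isIntegral_zero
    | add x y hx hy => rw [map_add]; exact hx.add hy
    | tmul z d =>
      rw [show z ⊗ₜ[k] d = iR z * iA d by simp [iR, iA, Algebra.TensorProduct.tmul_mul_tmul], map_mul]
      refine (isIntegral_algebraMap (R := R) (x := z)).mul ?_
      exact ((Algebra.IsIntegral.isIntegral (R := k) (Ideal.Quotient.mk m d)).map ψ).tower_top
  have hker : RingHom.ker (algebraMap R ((R ⊗[k] A) ⧸ Q)) ≤ r := by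
    intro x hx
    have : x ∈ Q.comap iR := (Ideal.Quotient.eq_zero_iff_mem (I := Q)).1 hx
    rw [hQR] at this
    rw [Ideal.mem_bot.1 this]
    exact r.zero_mem
  obtain ⟨s, hs, hsr⟩ := Ideal.exists_ideal_over_maximal_of_isIntegral (S := (R ⊗[k] A) ⧸ Q) r hker
  let Q₁ : Ideal (R ⊗[k] A) := s.comap π.toRingHom
  have hQ₁ : Q₁.IsPrime := hs.isPrime.comap _
  have hle : Q ≤ Q₁ := fun x hx => by
    show π x ∈ s
    rw [show π x = 0 from Ideal.Quotient.eq_zero_iff_mem.2 hx]
    exact s.zero_mem
  have hrQ : r.map iR ≤ Q₁ := Ideal.map_le_iff_le_comap.2 hsr.ge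
  have hb₁ : iA b ∈ Q₁ := hmem Q₁ hrQ _ (by
    rw [show p (iA b) = (Algebra.TensorProduct.includeRight : A →ₐ[k] F ⊗[k] A) b by simp [p, iA, Algebra.TensorProduct.map_tmul]]
    exact Ideal.span_le.2 (Set.singleton_subset_iff.2 (Ideal.mem_map_of_mem _ (hle hfQ))) hbI)
  have hmax : Q₁.comap iA = m :=
    (hm.eq_of_le (hQ₁.comap iA).ne_top (hQm.ge.trans (Ideal.comap_mono hle))).symm
  exact hbm (hmax ▸ hb₁)

/-- A nonnilpotent function of a base change is nonzero at all points over some closed point. -/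
theorem exists_maximal_avoid {A : Type u} [CommRing A] [IsDomain A] [Algebra k A]
    [Algebra.FiniteType k A]
    (hA : ∀ (F : Type u) [Field F] [Algebra k F] [Module.Finite k F],
      (nilradical (F ⊗[k] A)).IsPrime)
    {C : Type u} [Field C] [Algebra k C] (f : C ⊗[k] A) (hf : ¬ IsNilpotent f) :
    ∃ m : Ideal A, m.IsMaximal ∧ ∀ Q : Ideal (C ⊗[k] A), Q.IsPrime →
      Q.comap (Algebra.TensorProduct.includeRight : A →ₐ[k] C ⊗[k] A) = m → f ∉ Q := by
  obtain ⟨t, ht⟩ := TensorProduct.exists_finset f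
  let R := Algebra.adjoin k ((fun x : C × A => x.1) '' (t : Set (C × A)))
  have : Algebra.FiniteType k R :=
    ⟨(Subalgebra.fg_top R).2 (Subalgebra.fg_def.2 ⟨_, t.finite_toSet.image _, rfl⟩)⟩
  let f₀ : R ⊗[k] A := ∑ x ∈ t.attach, (⟨x.1.1, Algebra.subset_adjoin ⟨x.1, x.2, rfl⟩⟩ : R) ⊗ₜ x.1.2
  let j : R ⊗[k] A →ₐ[k] C ⊗[k] A := Algebra.TensorProduct.map R.val (AlgHom.id k A)
  have hj : j f₀ = f := by
    rw [ht, map_sum, ← Finset.sum_attach t]
    exact Finset.sum_congr rfl fun x _ => rfl
  obtain ⟨m, hm, h⟩ := exists_maximal_avoid_fg hA f₀ (fun h => hf (hj ▸ h.map j))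
  refine ⟨m, hm, fun Q hQ hQm hfQ => h (Q.comap j) (hQ.comap _) ?_ ?_ (Ideal.mem_comap.2 ?_)⟩
  · refine le_antisymm (fun x hx => Ideal.mem_bot.2 (by_contra fun hne => ?_)) bot_le
    have hne' : (x : C) ≠ 0 := fun e => hne (Subtype.ext e)
    refine hQ.ne_top (Ideal.eq_top_of_isUnit_mem _ hx ?_)
    exact ((Ne.isUnit hne').map (Algebra.TensorProduct.includeLeft : C →ₐ[k] C ⊗[k] A) :)
  · ext x
    rw [← hQm]
    simp [j, Ideal.mem_comap]
  · rw [hj]; exact hfQ

end Groth.SpLimit
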