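import Groth.Agent.SpLimit.AlgClosedSchematic

/-!
# Schematic points over a field extension come from finitely generated subalgebras
-/

set_option autoImplicit false
set_option backward.isDefEq.respectTransparency false
set_option backward.isDefEq.respectTransparency.types false

universe u

open CategoryTheory CategoryTheory.Limits AlgebraicGeometry Opposite AlgSp
open Groth.AlgSpBasic

noncomputable section

namespace Groth.SpLimit

variable {k : Type u} [Field k]

/-- A morphism of spectra over the ground field comes from a homomorphism of algebras. -/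
theorem exists_algHom {A B : Type u} [CommRing A] [CommRing B] [Algebra k A] [Algebra k B]
    (φ : kOver k B ⟶ kOver k A) : ∃ i : A →ₐ[k] B, kOverMap A B i = φ := by
  obtain ⟨f, hf⟩ := Spec.map_surjective (R := CommRingCat.of A) (S := CommRingCat.of B) φ.left
  have hw : Spec.map f ≫ Spec.map (CommRingCat.ofHom (algebraMap k A)) =
      Spec.map (CommRingCat.ofHom (algebraMap k B)) := by rw [hf]; exact Over.w φ
  rw [← Spec.map_comp] at hw
  refine ⟨{ toRingHom := f.hom,
            commutes' := fun r => congrArg (fun g => g.hom r) (Spec.map_injective hw) },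
    Over.OverMorphism.ext ?_⟩
  exact hf

set_option maxHeartbeats 800000 in
/-- A point of a qcqs space which is schematic over a field is schematic over a finitely generated
subalgebra of the field. -/
theorem exists_fg_stage {W : Sp (kSpec k)} (hW : IsAlgSpace W) (hqc : IsQuasiCompactSp W)
    (hqs : IsQuasiSeparatedSp W) (Ω : Type u) [Field Ω] [Algebra k Ω] {T' : Over (kSpec k)}
    (l : (yon (kSpec k)).obj T' ⟶ W ⨯ (yon _).obj (kOver k Ω)) (t' : ↥T'.left)
    (h : IsSchematicPt _ (Points.ofPt l t')) :
    ∃ (A : Type u) (_ : CommRing A) (_ : IsDomain A) (_ : Algebra k A) (ι : A →ₐ[k] Ω),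
      Algebra.FiniteType k A ∧ Function.Injective ι ∧
      IsSchematicPt (W ⨯ (yon _).obj (kOver k A))
        (Points.ofPt (l ≫ prod.map (𝟙 W) ((yon _).map (kOverMap A Ω ι))) t') := by
  let T := kOver k Ω
  let pt : ↥T.left := (⟨⊥, Ideal.isPrime_bot⟩ : PrimeSpectrum Ω)
  obtain ⟨J, _, _, E, π, ⟨lE⟩, hEa, -, hEc, hEp, hEs⟩ := exists_affine_fp_system T
  have := IsCofiltered.isConnected (C := J)
  let Y := (yon (kSpec k)).obj (Over.mk (𝟙 (kSpec k)))
  let ht : IsTerminal Y := IsTerminal.isTerminalObj (yon _) _ Over.mkIdTerminal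
  let q : W ⟶ Y := ht.from W
  let t : E ⋙ yon (kSpec k) ⟶ (Functor.const J).obj Y :=
    { app := fun j => ht.from _
      naturality := fun i j φ => ht.hom_ext _ _ }
  have lc' : IsLimit (Cone.mk T π) := isLimitOfReflects (Over.forget (kSpec k)) lE
  obtain ⟨lc⟩ := nonempty_isLimit_bcCone t q (c := (yon (kSpec k)).mapCone (Cone.mk T π))
    (g := ht.from _) (fun j => ht.hom_ext _ _) (isLimitOfPreserves (yon (kSpec k)) lc')
  have hY : IsAlgSpace Y := IsAlgSpace.yon_obj _
  have hYqs : IsQuasiSeparatedSp Y :=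
    have : QuasiSeparated (Over.mk (𝟙 (kSpec k))).hom := inferInstanceAs (QuasiSeparated (𝟙 _))
    isQuasiSeparatedSp_yon_of_hom _
  have hD : ∀ j, IsAlgSpace ((bcSys t q).obj j) := fun j =>
    isAlgSpace_of_isPullback (IsPullback.of_hasPullback (t.app j) q) hY.diag (IsAlgSpace.yon_obj _) hW
  have hDa : ∀ i j (φ : i ⟶ j), IsAffineMor ((bcSys t q).map φ) := fun i j φ =>
    isAffineMor_iff_repWith.2 (repWith_of_isPullback (isPullback_bcSys_map t q φ)
      ((repWith_yon_map_iff _ _).2 (hEa i j φ)))
  have hDc : ∀ j, IsQuasiCompactSp ((bcSys t q).obj j) := fun j =>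
    isQuasiCompactSp_of_qc hqc (IsPullback.of_hasPullback (t.app j) q)
      (by
        rw [show t.app j = (yon (kSpec k)).map (Over.mkIdTerminal.from (E.obj j)) from ht.hom_ext _ _]
        refine (repWith_yon_map_iff _ _).2 ?_
        rw [show (Over.mkIdTerminal.from (E.obj j)).left = (E.obj j).hom from
          (Category.comp_id _).symm.trans (Over.w _)]
        have : IsAffine (kSpec k) := inferInstanceAs (IsAffine (Spec _))
        exact (quasiCompact_iff_compactSpace (E.obj j).hom).2 (hEc j))
  have hDs : ∀ j, IsQuasiSeparatedSp ((bcSys t q).obj j) := fun j => by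
    have : QuasiSeparated (E.obj j).hom := hEs j
    exact isQuasiSeparatedSp_of_isPullback (hD j) (isQuasiSeparatedSp_yon_of_hom (E.obj j)) hYqs
      hqs (IsPullback.of_hasPullback (t.app j) q)
  -- the identification with products
  let α : W ⨯ (yon (kSpec k)).obj T ⟶ pullback (ht.from ((yon (kSpec k)).obj T)) q :=
    pullback.lift prod.snd prod.fst (ht.hom_ext _ _)
  have : IsIso α := ⟨prod.lift (pullback.snd _ _) (pullback.fst _ _), by
    apply prod.hom_ext <;> simp [α], by apply pullback.hom_ext <;> simp [α]⟩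
  obtain ⟨G, g, hg, z, hz⟩ := h
  obtain ⟨_, ⟨(A₀ : G.left.Opens), hA₀, rfl⟩, hzA, -⟩ :=
    G.left.isBasis_affineOpens.exists_subset_of_mem_open (Set.mem_univ z) isOpen_univ
  let V : Over (kSpec k) := Over.mk (A₀.ι ≫ G.hom)
  let jA : V ⟶ G := Over.homMk A₀.ι rfl
  have : IsAffine V.left := hA₀
  obtain ⟨j, hj⟩ := exists_isSchematicPt_stage hD hDa lc hDc hDs ((yon _).map jA ≫ g ≫ α)
    (repWith_comp ((repWith_yon_map_iff _ jA).2 (inferInstanceAs (IsOpenImmersion A₀.ι)))
      (repWith_comp hg (repWith_isIso _)))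
  let β : (bcSys t q).obj j ⟶ W ⨯ (yon (kSpec k)).obj (E.obj j) :=
    prod.lift (pullback.snd _ _) (pullback.fst _ _)
  have : IsIso β := ⟨pullback.lift prod.snd prod.fst (ht.hom_ext _ _),
    by apply pullback.hom_ext <;> simp [β], by apply prod.hom_ext <;> simp [β]⟩
  have hαβ : α ≫ (bcCone t q (c := (yon (kSpec k)).mapCone (Cone.mk T π)) (g := ht.from _)
      (fun j => ht.hom_ext _ _)).π.app j ≫ β = prod.map (𝟙 W) ((yon _).map (π.app j)) := by
    apply prod.hom_ext <;> simp [α, β, bcCone]
  have hsch : IsSchematicPt (W ⨯ (yon (kSpec k)).obj (E.obj j))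
      (Points.ofPt (l ≫ prod.map (𝟙 W) ((yon _).map (π.app j))) t') := by
    rw [← hαβ, ← Points.map_ofPt, ← hz, Points.map_ofPt]
    have := isSchematicPt_map (repWith_isIso β) (hj ⟨z, hzA⟩)
    rw [Points.map_ofPt, Points.map_ofPt] at this
    simp only [Category.assoc] at this
    rw [ofPt_comp_yon] at this
    exact this
  -- the closure of the point in an affine open of the stage
  obtain ⟨_, ⟨(U : (E.obj j).left.Opens), hU, rfl⟩, hξ, -⟩ :=
    (E.obj j).left.isBasis_affineOpens.exists_subset_of_mem_open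
      (Set.mem_univ ((π.app j).left pt)) isOpen_univ
  let πU : T.left ⟶ (U : Scheme) := IsOpenImmersion.lift U.ι (π.app j).left (by
    rintro _ ⟨p, rfl⟩
    rw [Scheme.Opens.range_ι, Subsingleton.elim (α := PrimeSpectrum Ω) p pt]
    exact hξ)
  have : IsAffine (U : Scheme) := hU
  let B := Γ((U : Scheme), ⊤)
  obtain ⟨χ, hχ⟩ := Spec.map_surjective (R := CommRingCat.of k)
    ((U : Scheme).isoSpec.inv ≫ U.ι ≫ (E.obj j).hom)
  let _ : Algebra k B := χ.hom.toAlgebra
  have : Algebra.FiniteType k B := by
    have : LocallyOfFinitePresentation (E.obj j).hom := hEp j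
    have h' : LocallyOfFiniteType (Spec.map χ) := by rw [hχ]; infer_instance
    exact (HasRingHomProperty.Spec_iff (P := @LocallyOfFiniteType)).1 h'
  let eU : kOver k B ⟶ E.obj j := Over.homMk ((U : Scheme).isoSpec.inv ≫ U.ι) (by
    rw [Category.assoc]; exact hχ.symm)
  let dU : T ⟶ kOver k B := Over.homMk (πU ≫ (U : Scheme).isoSpec.hom) (by
    show (πU ≫ (U : Scheme).isoSpec.hom) ≫ Spec.map χ = _
    rw [hχ, Category.assoc, Iso.hom_inv_id_assoc, IsOpenImmersion.lift_fac_assoc]
    exact Over.w (π.app j))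
  obtain ⟨ψ, hψ⟩ := exists_algHom dU
  let A := ψ.range
  have hd : dU ≫ eU = π.app j := Over.OverMorphism.ext (by
    simp [dU, eU, πU])
  have : Algebra.FiniteType k A :=
    Algebra.FiniteType.of_surjective ψ.rangeRestrict ψ.rangeRestrict_surjective
  let cl : kOver k A ⟶ kOver k B := kOverMap (k := k) B A ψ.rangeRestrict
  have : IsClosedImmersion cl.left :=
    IsClosedImmersion.spec_of_surjective _ ψ.rangeRestrict_surjective
  let em : kOver k A ⟶ E.obj j := cl ≫ eU
  refine ⟨A, inferInstance, inferInstance, inferInstance, A.val, inferInstance,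
    Subtype.val_injective, ?_⟩
  have hfac : kOverMap A Ω A.val ≫ em = π.app j := by
    rw [← hd, ← hψ, ← Category.assoc]
    congr 1
    ext : 1
    show Spec.map _ ≫ Spec.map _ = Spec.map _
    rw [← Spec.map_comp]
    rfl
  refine isSchematicPt_of_rep (f := prod.map (𝟙 W) ((yon _).map em))
    (MorphismProperty.of_isPullback (P := Representable) (isPullback_prod_map_snd _ W)
      (representable_yon_map em)) ?_
  rw [Points.map_ofPt, Category.assoc, prod.map_map, Category.id_comp, ← Functor.map_comp, hfac]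
  exact hsch

end Groth.SpLimit
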