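import Groth.Agent.SpLimit.GroupAlgClosed
import Groth.Agent.AlgSpBasic.DecentFiniteDense
import Groth.Agent.AlgSpBasic.DenseSchemeQS
import Groth.Agent.AlgSpBasic.Univ
import Groth.Agent.GrpschSep.MaxPoint

/-!
# The generic point of the identity component of a group space over a field
-/

set_option autoImplicit false
set_option backward.isDefEq.respectTransparency false
set_option backward.isDefEq.respectTransparency.types false

universe u

open CategoryTheory CategoryTheory.Limits AlgebraicGeometry Opposite AlgSp MonoidalCategory MonObj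
open Groth.AlgSpBasic Groth.GrpschSep TensorProduct

noncomputable section

namespace Groth.SpLimit

section
variable {S : Scheme.{u}}

/-- The image of a maximal point along a flat representable map has codimension zero. -/
theorem hasAt_dimZero_of_flat {X : Sp S} (hX : IsAlgSpace X) {V : Over S} {g : (yon S).obj V ⟶ X}
    (hg : RepWith @Flat g) {v : ↥V.left} (hv : IsMaxPt v) :
    HasAt (fun U u => ringKrullDim ↥(U.presheaf.stalk u) = 0) X (Points.ofPt g v) := by
  obtain ⟨U, a, ha, has⟩ := hX.atlas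
  obtain ⟨u, hu⟩ := surjective_ofPt_of_repWith has (Points.ofPt g v)
  obtain ⟨W, fst, snd, sq⟩ := exists_pullback_yon ha.rep g
  obtain ⟨w, rfl, rfl⟩ := (ofPt_eq_ofPt_iff sq u v).1 hu
  have : Etale snd.left := (repWith_yon_map_iff _ snd).1 (repWith_of_isPullback sq ha)
  have : Flat fst.left := (repWith_yon_map_iff _ fst).1 (repWith_of_isPullback sq.flip hg)
  have h₀ : ringKrullDim ↥(W.left.presheaf.stalk w) = 0 :=
    (etaleInvariant_ringKrullDim snd.left w).trans (ringKrullDim_eq_zero_iff.2 hv)
  exact ⟨U, a, fst.left w, ha, hu,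
    ringKrullDim_eq_zero_iff.2 (IsMaxPt.map_flat fst.left (ringKrullDim_eq_zero_iff.1 h₀))⟩

theorem isMaxPt_of_hasAt {X : Sp S} (hX : IsAlgSpace X) {V : Over S} {g : (yon S).obj V ⟶ X}
    (hg : RepWith @IsOpenImmersion g) {v : ↥V.left}
    (h : HasAt (fun U u => ringKrullDim ↥(U.presheaf.stalk u) = 0) X (Points.ofPt g v)) :
    IsMaxPt v :=
  ringKrullDim_eq_zero_iff.1 ((hasAt_iff_forall etaleInvariant_ringKrullDim hX _ _).1 h V g v
    (repWith_mono (fun _ _ f (_ : IsOpenImmersion f) => (inferInstance : Etale f)) hg) rfl)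

end

variable {k : Type u} [Field k]

/-- Points of a tensor product with an algebraic extension of a field do not specialise. -/
theorem eq_of_specializes_tensor {K Ω : Type u} [Field K] [Algebra k K] [Algebra.IsAlgebraic k K]
    [Field Ω] [Algebra k Ω] {a b : PrimeSpectrum (K ⊗[k] Ω)} (h : a ⤳ b) : a = b := by
  let i : Ω →ₐ[k] K ⊗[k] Ω := Algebra.TensorProduct.includeRight
  let _ := i.toRingHom.toAlgebra
  have : IsScalarTower k Ω (K ⊗[k] Ω) := IsScalarTower.of_algebraMap_eq fun t => (i.commutes t).symm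
  have : Algebra.IsIntegral Ω (K ⊗[k] Ω) := ⟨fun x => by
    induction x using TensorProduct.induction_on with
    | zero => exact isIntegral_zero
    | add x y hx hy => exact hx.add hy
    | tmul z b =>
      rw [show z ⊗ₜ[k] b = (z ⊗ₜ[k] (1 : Ω)) * algebraMap Ω (K ⊗[k] Ω) b from by
        rw [show algebraMap Ω (K ⊗[k] Ω) b = (1 : K) ⊗ₜ[k] b from rfl]; simp]
      exact (((Algebra.IsIntegral.isIntegral (R := k) z).map
        (Algebra.TensorProduct.includeLeft : K →ₐ[k] K ⊗[k] Ω)).tower_top).mul isIntegral_algebraMap⟩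
  refine PrimeSpectrum.ext (eq_of_le_of_not_lt ((PrimeSpectrum.le_iff_specializes a b).2 h) fun hlt => ?_)
  have h' := Ideal.IsIntegral.comap_lt_comap (R := Ω) hlt
  rw [Ideal.eq_bot_of_prime (a.asIdeal.comap _), Ideal.eq_bot_of_prime (b.asIdeal.comap _)] at h'
  exact lt_irrefl _ h'

variable (G : Over ((yon (kSpec k)).obj (Over.mk (𝟙 (kSpec k))))) [GrpObj G]

set_option maxHeartbeats 800000 in
/-- The identity of a group which is a scheme over an algebraically closed field has only one
maximal generalisation. -/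
theorem eq_of_specializes_unit {K : Type u} [Field K] [Algebra k K] [IsAlgClosed K] {X : Over (kSpec k)}
    (e : (yon (kSpec k)).obj X ≅ G.left ⨯ (yon (kSpec k)).obj (kOver k K))
    (eu : kOver k K ⟶ X) (heu : (yon (kSpec k)).map eu ≫ e.hom =
      prod.lift ((1 : Over.mk ((IsTerminal.isTerminalObj (yon (kSpec k)) _ Over.mkIdTerminal).from
        ((yon (kSpec k)).obj (kOver k K))) ⟶ G)).left (𝟙 ((yon (kSpec k)).obj (kOver k K))))
    (pt : ↥(kOver k K).left) {a b : ↥X.left} (ha : IsMaxPt a) (hb : IsMaxPt b)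
    (hae : a ⤳ eu.left pt) (hbe : b ⤳ eu.left pt) : a = b := by
  let hT : IsTerminal ((yon (kSpec k)).obj (Over.mk (𝟙 (kSpec k)))) :=
    IsTerminal.isTerminalObj (yon _) _ Over.mkIdTerminal
  let one : Over.mk (hT.from ((yon (kSpec k)).obj (kOver k K))) ⟶ G := 1
  obtain ⟨str, hstr⟩ := (yon (kSpec k)).map_surjective (e.hom ≫ prod.snd)
  have hes : eu ≫ str = 𝟙 _ := (yon (kSpec k)).map_injective (by
    rw [Functor.map_comp, hstr, ← Category.assoc, heu, prod.lift_snd, CategoryTheory.Functor.map_id])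
  let P := pullback str str
  let p₁ := pullback.fst str str
  let p₂ := pullback.snd str str
  let XP : Over _ := Over.mk (hT.from ((yon (kSpec k)).obj P))
  let A : XP ⟶ G := Over.homMk ((yon _).map p₁ ≫ e.hom ≫ prod.fst) (hT.hom_ext _ _)
  let B : XP ⟶ G := Over.homMk ((yon _).map p₂ ≫ e.hom ≫ prod.fst) (hT.hom_ext _ _)
  obtain ⟨mu, hmu⟩ := (yon (kSpec k)).map_surjective
    (prod.lift (A * B).left ((yon _).map (p₁ ≫ str)) ≫ e.inv)
  let s₁ : X ⟶ P := pullback.lift (𝟙 X) (str ≫ eu) (by rw [Category.assoc, hes]; simp)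
  let s₂ : X ⟶ P := pullback.lift (str ≫ eu) (𝟙 X) (by rw [Category.assoc, hes]; simp)
  let XX : Over _ := Over.mk (hT.from ((yon (kSpec k)).obj X))
  let st : XX ⟶ Over.mk (hT.from ((yon (kSpec k)).obj (kOver k K))) :=
    Over.homMk ((yon _).map str) (hT.hom_ext _ _)
  let idX : XX ⟶ G := Over.homMk (e.hom ≫ prod.fst) (hT.hom_ext _ _)
  have hone : (yon (kSpec k)).map (str ≫ eu) ≫ e.hom ≫ prod.fst = (st ≫ one).left := by
    rw [Functor.map_comp, Category.assoc, ← Category.assoc ((yon _).map eu), heu, prod.lift_fst]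
    rfl
  have hmus : ∀ (s : X ⟶ P), s ≫ p₁ ≫ str = str →
      ((Over.homMk ((yon _).map s) (hT.hom_ext _ _) : XX ⟶ XP) ≫ (A * B)) = idX → s ≫ mu = 𝟙 X := by
    intro s h₁ h₂
    apply (yon (kSpec k)).map_injective
    rw [← cancel_mono e.hom, Functor.map_comp, hmu, Category.assoc, Category.assoc, e.inv_hom_id,
      Category.comp_id, CategoryTheory.Functor.map_id, Category.id_comp]
    apply prod.hom_ext
    · rw [Category.assoc, prod.lift_fst]
      exact congrArg CommaMorphism.left h₂
    · rw [Category.assoc, prod.lift_snd, ← Functor.map_comp, h₁, hstr]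
  have hmu₁ : s₁ ≫ mu = 𝟙 X := by
    refine hmus s₁ (by rw [pullback.lift_fst_assoc, Category.id_comp]) ?_
    rw [MonObj.comp_mul]
    have hA : (Over.homMk ((yon _).map s₁) (hT.hom_ext _ _) : XX ⟶ XP) ≫ A = idX := by
      ext : 1
      show (yon _).map s₁ ≫ (yon _).map p₁ ≫ _ = _
      rw [← Functor.map_comp_assoc, pullback.lift_fst, CategoryTheory.Functor.map_id, Category.id_comp]
      rfl
    have hB : (Over.homMk ((yon _).map s₁) (hT.hom_ext _ _) : XX ⟶ XP) ≫ B = st ≫ one := by
      ext : 1
      show (yon _).map s₁ ≫ (yon _).map p₂ ≫ _ = _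
      rw [← Functor.map_comp_assoc, pullback.lift_snd]
      exact hone
    rw [hA, hB, MonObj.comp_one, _root_.mul_one]
  have hmu₂ : s₂ ≫ mu = 𝟙 X := by
    refine hmus s₂ (by rw [pullback.lift_fst_assoc, Category.assoc, hes, Category.comp_id]) ?_
    rw [MonObj.comp_mul]
    have hA : (Over.homMk ((yon _).map s₂) (hT.hom_ext _ _) : XX ⟶ XP) ≫ A = st ≫ one := by
      ext : 1
      show (yon _).map s₂ ≫ (yon _).map p₁ ≫ _ = _
      rw [← Functor.map_comp_assoc, pullback.lift_fst]
      exact hone
    have hB : (Over.homMk ((yon _).map s₂) (hT.hom_ext _ _) : XX ⟶ XP) ≫ B = idX := by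
      ext : 1
      show (yon _).map s₂ ≫ (yon _).map p₂ ≫ _ = _
      rw [← Functor.map_comp_assoc, pullback.lift_snd, CategoryTheory.Functor.map_id, Category.id_comp]
      rfl
    rw [hA, hB, MonObj.comp_one, _root_.one_mul]
  have sq : IsPullback p₁.left p₂.left str.left str.left :=
    (IsPullback.of_hasPullback str str).map (Over.forget _)
  have : Flat str.left := by
    show Flat (show X.left ⟶ Spec (.of K) from str.left)
    infer_instance
  have : Flat p₂.left := MorphismProperty.of_isPullback sq ‹Flat str.left›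
  have : Flat p₁.left := MorphismProperty.of_isPullback sq.flip ‹Flat str.left›
  have hpt : ∀ x : ↥X.left, eu.left (str.left x) = eu.left pt := fun x =>
    congrArg eu.left (Subsingleton.elim (α := PrimeSpectrum K) _ _)
  -- a generalisation of `(a, e)` lying over `(a, b)`
  obtain ⟨w, hw, hwb⟩ := Flat.generalizingMap p₂.left (show b ⤳ p₂.left (s₁.left a) by
    rw [← Scheme.Hom.comp_apply, ← Over.comp_left, pullback.lift_snd, Over.comp_left,
      Scheme.Hom.comp_apply, hpt]
    exact hbe)
  obtain ⟨w', hw', hmw⟩ := exists_isMaxPt w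
  have hwa : p₁.left w' = a := ha _ (by
    have := (hw'.trans hw).map p₁.left.continuous
    rwa [← Scheme.Hom.comp_apply s₁.left, ← Over.comp_left, pullback.lift_fst] at this)
  have hwb' : p₂.left w' = b := hb _ (hwb ▸ hw'.map p₂.left.continuous)
  obtain ⟨z, hz, hza⟩ := Flat.generalizingMap p₁.left (show a ⤳ p₁.left (s₂.left b) by
    rw [← Scheme.Hom.comp_apply, ← Over.comp_left, pullback.lift_fst, Over.comp_left,
      Scheme.Hom.comp_apply, hpt]
    exact hae)
  obtain ⟨z', hz', hmz⟩ := exists_isMaxPt z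
  have hzb : p₂.left z' = b := hb _ (by
    have := (hz'.trans hz).map p₂.left.continuous
    rwa [← Scheme.Hom.comp_apply s₂.left, ← Over.comp_left, pullback.lift_snd] at this)
  have hza' : p₁.left z' = a := ha _ (hza ▸ hz'.map p₁.left.continuous)
  have hwz : w' = z' := IsMaxPt.eq_of_pullback (K := K) sq hmw hmz (hwa.trans hza'.symm)
    (hwb'.trans hzb.symm)
  have ea : mu.left w' = a := ha _ (by
    have := (hw'.trans hw).map mu.left.continuous
    rwa [← Scheme.Hom.comp_apply, ← Over.comp_left, hmu₁] at this)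
  have eb : mu.left z' = b := hb _ (by
    have := (hz'.trans hz).map mu.left.continuous
    rwa [← Scheme.Hom.comp_apply, ← Over.comp_left, hmu₂] at this)
  rw [← ea, ← eb, hwz]

set_option maxHeartbeats 1000000 in
/-- A quasi-separated group space over a field has a schematic point of codimension zero whose
residue field is geometrically irreducible. -/
theorem exists_primary_maxPt (hG : IsAlgSpace G.left) (hqs : IsQuasiSeparatedSp G.left) :
    ∃ (Ω : Type u) (_ : Field Ω) (_ : Algebra k Ω) (W₀ : Over (kSpec k))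
      (g₀ : (yon (kSpec k)).obj W₀ ⟶ G.left) (v : kOver k Ω ⟶ W₀),
      RepWith @IsOpenImmersion g₀ ∧ (∀ p, IsMaxPt (v.left p)) ∧
      (nilradical (AlgebraicClosure k ⊗[k] Ω)).IsPrime := by
  let K := AlgebraicClosure k
  let TK := kOver k K
  let hT : IsTerminal ((yon (kSpec k)).obj (Over.mk (𝟙 (kSpec k)))) :=
    IsTerminal.isTerminalObj (yon _) _ Over.mkIdTerminal
  obtain ⟨X, ⟨rX⟩⟩ := isRepresentable_group_algClosed G hG hqs K
  let e := isoOfRepresentableBy rX
  let pt : ↥TK.left := (⟨⊥, Ideal.isPrime_bot⟩ : PrimeSpectrum K)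
  let one : Over.mk (hT.from ((yon (kSpec k)).obj TK)) ⟶ G := 1
  let oneL : (yon (kSpec k)).obj TK ⟶ G.left := one.left
  obtain ⟨eu, heu'⟩ := (yon (kSpec k)).map_surjective (prod.lift oneL (𝟙 _) ≫ e.inv)
  have heu : (yon (kSpec k)).map eu ≫ e.hom = prod.lift oneL (𝟙 _) := by
    rw [heu', Category.assoc, e.inv_hom_id, Category.comp_id]
  obtain ⟨str, hstr⟩ := (yon (kSpec k)).map_surjective (e.hom ≫ prod.snd)
  let ρ : (yon (kSpec k)).obj X ⟶ G.left := e.hom ≫ prod.fst
  have sqρ : IsPullback ρ ((yon _).map str) G.hom ((yon _).map (Over.mkIdTerminal.from TK)) :=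
    (isPullback_fst_snd G.hom TK).of_iso e.symm (Iso.refl _) (Iso.refl _) (Iso.refl _)
      (by simp [ρ]; rfl) (by simp [hstr]; rfl) (by simp) (by simp)
  have htl : (Over.mkIdTerminal.from TK).left = Spec.map (CommRingCat.ofHom (algebraMap k K)) :=
    (Category.comp_id _).symm.trans (Over.w _)
  have hρf : RepWith @Flat ρ := repWith_of_isPullback sqρ.flip ((repWith_yon_map_iff _ _).2 (by
    rw [htl]
    exact (HasRingHomProperty.Spec_iff (P := @Flat)).2 (RingHom.flat_algebraMap_iff.2 inferInstance)))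
  have hρc : RepWith @UniversallyClosed ρ := repWith_of_isPullback sqρ.flip
    ((repWith_yon_map_iff _ _).2 (by
      rw [htl]
      have : IsIntegralHom (Spec.map (CommRingCat.ofHom (algebraMap k K))) :=
        IsIntegralHom.SpecMap_iff.2 (algebraMap_isIntegral_iff.2 inferInstance)
      infer_instance))
  -- the generic point of the identity component
  obtain ⟨gen, hηe, hη⟩ := exists_isMaxPt (eu.left pt)
  have hd := hasAt_dimZero_of_flat hG hρf hη
  obtain ⟨W₀, g₀, hg₀, u, hu⟩ := isSchematicPt_of_qs hG hqs hd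
  have hum : IsMaxPt u := isMaxPt_of_hasAt hG hg₀ (hu ▸ hd)
  let j := W₀.left.fromSpecResidueField u
  obtain ⟨φ, hφ⟩ := Spec.map_surjective (R := CommRingCat.of k) (j ≫ W₀.hom)
  let Ω := W₀.left.residueField u
  let _ : Algebra k Ω := φ.hom.toAlgebra
  let v : kOver k Ω ⟶ W₀ := Over.homMk j hφ.symm
  refine ⟨Ω, inferInstance, inferInstance, W₀, g₀, v, hg₀, fun p => ?_, ?_⟩
  · show IsMaxPt (j p)
    rw [Scheme.fromSpecResidueField_apply]
    exact hum
  -- the scheme lying over the open
  obtain ⟨P₀, f₀, jX, sqP⟩ := exists_pullback_yon hg₀.rep ρ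
  have hjX : IsOpenImmersion jX.left :=
    (repWith_yon_map_iff _ _).1 (repWith_of_isPullback sqP hg₀)
  -- the unit is the only point over the unit
  let t₁ := Over.mkIdTerminal.from TK
  let u₁ : Over.mk (hT.from ((yon (kSpec k)).obj (Over.mk (𝟙 (kSpec k))))) ⟶ G := 1
  have hu₁ : ((yon _).map t₁ : (yon (kSpec k)).obj TK ⟶ _) ≫ u₁.left = oneL := by
    have := MonObj.comp_one (M := G) (Over.homMk ((yon _).map t₁) (hT.hom_ext _ _) :
      Over.mk (hT.from ((yon (kSpec k)).obj TK)) ⟶
        Over.mk (hT.from ((yon (kSpec k)).obj (Over.mk (𝟙 (kSpec k))))))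
    exact congrArg CommaMorphism.left this
  have heρ : (yon _).map eu ≫ ρ = oneL := by
    rw [← Category.assoc, heu, prod.lift_fst]
  have sqU : IsPullback ((yon _).map t₁) ((yon _).map eu) u₁.left ρ := by
    refine IsPullback.of_bot ?_ (by rw [hu₁, heρ]) sqρ
    rw [← Functor.map_comp, show eu ≫ str = 𝟙 _ from (yon (kSpec k)).map_injective (by
      rw [Functor.map_comp, hstr, ← Category.assoc, heu, prod.lift_snd, CategoryTheory.Functor.map_id]),
      CategoryTheory.Functor.map_id, show u₁.left ≫ G.hom = 𝟙 ((yon (kSpec k)).obj (Over.mk (𝟙 (kSpec k)))) from hT.hom_ext _ _]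
    exact IsPullback.of_vert_isIso ⟨by simp [t₁]⟩
  have hρcl : IsClosedMap (Points.ofPt ρ) := by
    rw [show Points.ofPt ρ = Points.map ρ ∘ Points.schemeHomeo X from
      funext fun x => Points.ofPt_eq_map_ofScheme ρ x]
    exact (isClosedMap_map_of_repWith (fun _ _ f (_ : UniversallyClosed f) => f.isClosedMap) hρc).comp
      (Points.schemeHomeo X).isClosedMap
  have key : ∀ p : ↥P₀.left, f₀.left p = u → ∀ x : ↥X.left, x ⤳ jX.left p → IsMaxPt x → x = gen := by
    intro p hp x hx hxm
    have hρp : Points.ofPt ρ (jX.left p) = Points.ofPt ρ gen := by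
      rw [← ofPt_comp_yon, ← sqP.w, ofPt_comp_yon, hp, hu]
    obtain ⟨s, hs, hρs⟩ : Points.ofPt ρ (eu.left pt) ∈ Points.ofPt ρ '' closure {jX.left p} := by
      refine ((hρcl _ isClosed_closure).closure_subset_iff.2 ?_) (specializes_iff_mem_closure.1
        (hηe.map (Points.continuous_ofPt ρ)))
      exact Set.singleton_subset_iff.2 ⟨_, subset_closure rfl, hρp⟩
    have hs' : Points.map ρ (Points.ofScheme X s) =
        Points.ofPt u₁.left (⟨⊥, Ideal.isPrime_bot⟩ : PrimeSpectrum k) := by
      rw [← Points.ofPt_eq_map_ofScheme, hρs, ← ofPt_comp_yon, heρ, ← hu₁, ofPt_comp_yon]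
      exact congrArg _ (Subsingleton.elim (α := PrimeSpectrum k) _ _)
    obtain ⟨z, hz, -⟩ := (map_eq_ofPt_iff sqU.flip _ _).1 hs'
    have hz' : eu.left z = s := by
      apply (Points.schemeEquiv X).injective
      refine Eq.trans ?_ hz
      exact ((Points.ofPt_eq_map_ofScheme _ _).trans (Points.map_yon_map_apply eu z)).symm
    have hsu : s = eu.left pt := by
      rw [← hz', Subsingleton.elim (α := PrimeSpectrum K) z pt]
    exact eq_of_specializes_unit G e eu heu pt hxm hη
      (hx.trans (hsu ▸ (specializes_iff_mem_closure.2 hs))) hηe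
  -- so the fibre over the point is a single point
  have sqS : IsPullback f₀.left (jX ≫ str).left W₀.hom (Spec.map (CommRingCat.ofHom (algebraMap k K))) := by
    have h := sqP.paste_vert sqρ
    rw [← Functor.map_comp] at h
    obtain ⟨q, hq⟩ := (yon (kSpec k)).map_surjective (g₀ ≫ G.hom)
    rw [← hq] at h
    have h' := (IsPullback.of_map_of_faithful (yon (kSpec k)) h).map (Over.forget (kSpec k))
    simp only [Over.forget_map] at h'
    rwa [htl, show q.left = W₀.hom from (Category.comp_id _).symm.trans (Over.w q)] at h'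
  have hw : pullback.snd (Spec.map (CommRingCat.ofHom (algebraMap k K)))
      (Spec.map (CommRingCat.ofHom (algebraMap k Ω))) ≫ j ≫ W₀.hom =
      pullback.fst (Spec.map (CommRingCat.ofHom (algebraMap k K)))
        (Spec.map (CommRingCat.ofHom (algebraMap k Ω))) ≫
          Spec.map (CommRingCat.ofHom (algebraMap k K)) := by
    rw [← hφ]; exact pullback.condition.symm
  let q := sqS.lift (pullback.snd _ _ ≫ j) (pullback.fst _ _) (by rw [Category.assoc]; exact hw)
  have sqq : IsPullback (pullback.snd _ _) q j f₀.left := by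
    refine IsPullback.of_bot ?_ (sqS.lift_fst _ _ _).symm sqS
    rw [sqS.lift_snd, ← hφ]
    exact (IsPullback.of_hasPullback _ _).flip
  have : IsPreimmersion q := MorphismProperty.of_isPullback sqq (inferInstance : IsPreimmersion j)
  have hsub : Subsingleton ↥(pullback (Spec.map (CommRingCat.ofHom (algebraMap k K)))
      (Spec.map (CommRingCat.ofHom (algebraMap k Ω)))) := by
    have hq : ∀ a, f₀.left (q a) = u := fun a => by
      rw [← Scheme.Hom.comp_apply, sqS.lift_fst, Scheme.Hom.comp_apply,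
        Scheme.fromSpecResidueField_apply]
    -- a point over the generic point generalises all of them
    have hη₀ : Points.map ρ (Points.ofScheme X gen) = Points.ofPt g₀ u := by
      rw [← Points.ofPt_eq_map_ofScheme, hu]
    obtain ⟨p₀, hp₀, hfp₀⟩ := (map_eq_ofPt_iff sqP.flip _ _).1 hη₀
    have hjp₀ : jX.left p₀ = gen := by
      apply (Points.schemeEquiv X).injective
      refine Eq.trans ?_ hp₀
      exact ((Points.ofPt_eq_map_ofScheme _ _).trans (Points.map_yon_map_apply jX p₀)).symm
    obtain ⟨a₀, ha₀⟩ : ∃ a, q a = p₀ := by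
      obtain ⟨c, -, hc⟩ := Scheme.Pullback.exists_preimage_pullback (f := j) (g := f₀.left)
        (IsLocalRing.closedPoint Ω) p₀ (by rw [Scheme.fromSpecResidueField_apply, hfp₀])
      exact ⟨sqq.isoPullback.inv c, by
        rw [← Scheme.Hom.comp_apply, sqq.isoPullback_inv_snd]; exact hc⟩
    refine ⟨fun a b => ?_⟩
    suffices ∀ a, a₀ = a from (this a).symm.trans (this b)
    intro a
    obtain ⟨m, hm, hmm⟩ := exists_isMaxPt (jX.left (q a))
    have hηa : jX.left p₀ ⤳ jX.left (q a) := by
      rw [hjp₀, ← key _ (hq a) m hm hmm]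
      exact hm
    have h₀ : a₀ ⤳ a := by
      rw [← q.isEmbedding.isInducing.specializes_iff, ← jX.left.isEmbedding.isInducing.specializes_iff,
        ha₀]
      exact hηa
    exact (pullbackSpecIso k K Ω).hom.homeomorph.injective
      (eq_of_specializes_tensor (h₀.map (pullbackSpecIso k K Ω).hom.continuous))
  have : Subsingleton (PrimeSpectrum (K ⊗[k] Ω)) :=
    (pullbackSpecIso k K Ω).inv.homeomorph.injective.subsingleton
  have : IrreducibleSpace (PrimeSpectrum (K ⊗[k] Ω)) :=
    { toPreirreducibleSpace := ⟨fun u v _ _ ⟨x, _, hx⟩ ⟨y, _, hy⟩ => ⟨x, trivial, hx, Subsingleton.elim y x ▸ hy⟩⟩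
      toNonempty := inferInstance }
  exact PrimeSpectrum.irreducibleSpace_iff_isPrime_nilradical.1 this

end Groth.SpLimit
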