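import Groth.Agent.SpLimit.GroupPoints
import Groth.Agent.SpLimit.GroupMaxPoint
import Groth.Agent.SpLimit.FieldStage
import Groth.Agent.SpLimit.FieldAvoid
import Groth.Agent.AlgSp2.SchematicFinLocFree

/-!
# Quasi-separated group spaces over a field are schemes
-/

set_option autoImplicit false
set_option backward.isDefEq.respectTransparency false
set_option backward.isDefEq.respectTransparency.types false

universe u

open CategoryTheory CategoryTheory.Limits AlgebraicGeometry Opposite AlgSp MonoidalCategory MonObj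
open Groth.AlgSpBasic Groth.GrpschSep TensorProduct

noncomputable section

namespace Groth.SpLimit

variable {k : Type u} [Field k]

/-- A point of a scheme over a field as a point over a field extension. -/
theorem exists_residue_pt (W : Over (kSpec k)) (w : ↥W.left) :
    ∃ (C : Type u) (_ : Field C) (_ : Algebra k C) (p : kOver k C ⟶ W), ∀ t, p.left t = w := by
  obtain ⟨φ, hφ⟩ := Spec.map_surjective (R := CommRingCat.of k) (W.left.fromSpecResidueField w ≫ W.hom)
  let _ : Algebra k (W.left.residueField w) := φ.hom.toAlgebra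
  exact ⟨W.left.residueField w, inferInstance, inferInstance,
    Over.homMk (W.left.fromSpecResidueField w) hφ.symm,
    fun t => Scheme.fromSpecResidueField_apply w t⟩

theorem kFrom_left {A : Type u} [CommRing A] [Algebra k A] :
    (Over.mkIdTerminal.from (kOver k A)).left = Spec.map (CommRingCat.ofHom (algebraMap k A)) :=
  (Category.comp_id _).symm.trans (Over.w _)

/-- The projection from the base change to a field is flat. -/
theorem repWith_flat_fst {X : Sp (kSpec k)} (C : Type u) [Field C] [Algebra k C] :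
    RepWith @Flat (prod.fst : X ⨯ (yon (kSpec k)).obj (kOver k C) ⟶ X) :=
  repWith_of_isPullback (isPullback_fst_snd ((IsTerminal.isTerminalObj (yon (kSpec k)) _
    Over.mkIdTerminal).from X) (kOver k C)).flip ((repWith_yon_map_iff _ _).2 (by
      rw [kFrom_left]
      exact (HasRingHomProperty.Spec_iff (P := @Flat)).2
        (RingHom.flat_algebraMap_iff.2 inferInstance)))

variable (G : Over ((yon (kSpec k)).obj (Over.mk (𝟙 (kSpec k))))) [GrpObj G]

set_option maxHeartbeats 1000000 in
/-- For every point some field extension with geometrically irreducible spectrum carries a schematic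
lift of it. -/
theorem exists_schematic_lift (hG : IsAlgSpace G.left) (hqs : IsQuasiSeparatedSp G.left)
    {C : Type u} [Field C] [Algebra k C] (b : (yon (kSpec k)).obj (kOver k C) ⟶ G.left) :
    ∃ (Ω : Type u) (_ : Field Ω) (_ : Algebra k Ω) (L : Type u) (_ : Field L) (_ : Algebra k L)
      (iC : kOver k L ⟶ kOver k C) (iΩ : kOver k L ⟶ kOver k Ω) (pt : ↥(kOver k L).left),
      (nilradical (AlgebraicClosure k ⊗[k] Ω)).IsPrime ∧
      IsSchematicPt (G.left ⨯ (yon _).obj (kOver k Ω))
        (Points.ofPt (prod.lift ((yon _).map iC ≫ b) ((yon _).map iΩ)) pt) := by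
  obtain ⟨Ω, _, _, W₀, g₀, v, hg₀, hv, hnil⟩ := exists_primary_maxPt G hG hqs
  let TC := kOver k C
  let TΩ := kOver k Ω
  let fW := Over.mkIdTerminal.from W₀
  let fC := Over.mkIdTerminal.from TC
  let fΩ := Over.mkIdTerminal.from TΩ
  let P := pullback fW fC
  have sqP : IsPullback (pullback.fst fW fC).left (pullback.snd fW fC).left fW.left fC.left :=
    (IsPullback.of_hasPullback fW fC).map (Over.forget _)
  let ω₀ : ↥TΩ.left := (⟨⊥, Ideal.isPrime_bot⟩ : PrimeSpectrum Ω)
  obtain ⟨c₁, hc₁, -⟩ := Scheme.Pullback.exists_preimage_pullback (f := fW.left) (g := fC.left)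
    (v.left ω₀) (⟨⊥, Ideal.isPrime_bot⟩ : PrimeSpectrum C) (Subsingleton.elim (α := PrimeSpectrum k) _ _)
  obtain ⟨p, hp, hpm⟩ := exists_isMaxPt (sqP.isoPullback.inv c₁)
  have hpu : (pullback.fst fW fC).left p = v.left ω₀ := hv ω₀ _ (by
    have := hp.map (pullback.fst fW fC).left.continuous
    rwa [← Scheme.Hom.comp_apply, sqP.isoPullback_inv_fst, hc₁] at this)
  -- a lift to the product of the two fields
  let m : pullback fΩ fC ⟶ P := pullback.lift (pullback.fst fΩ fC ≫ v) (pullback.snd fΩ fC)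
    (Over.mkIdTerminal.hom_ext _ _)
  have sqm : IsPullback (pullback.fst fΩ fC) m v (pullback.fst fW fC) := by
    refine IsPullback.of_bot ?_ (pullback.lift_fst _ _ _).symm (IsPullback.of_hasPullback fW fC)
    rw [pullback.lift_snd, show v ≫ fW = fΩ from Over.mkIdTerminal.hom_ext _ _]
    exact IsPullback.of_hasPullback _ _
  have sqm' := sqm.map (Over.forget (kSpec k))
  obtain ⟨c₂, -, hc₂⟩ := Scheme.Pullback.exists_preimage_pullback (f := v.left)
    (g := (pullback.fst fW fC).left) ω₀ p hpu.symm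
  let z := sqm'.isoPullback.inv c₂
  have hz : m.left z = p := by
    show m.left (sqm'.isoPullback.inv c₂) = p
    refine (Scheme.Hom.comp_apply _ _ _).symm.trans ?_
    exact (congrArg (fun f => f c₂) sqm'.isoPullback_inv_snd).trans hc₂
  obtain ⟨L, _, _, l, hl⟩ := exists_residue_pt (pullback fΩ fC) z
  let iC := l ≫ pullback.snd fΩ fC
  let iΩ := l ≫ pullback.fst fΩ fC
  let pt : ↥(kOver k L).left := (⟨⊥, Ideal.isPrime_bot⟩ : PrimeSpectrum L)
  refine ⟨Ω, inferInstance, inferInstance, L, inferInstance, inferInstance, iC, iΩ, pt, hnil, ?_⟩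
  -- the product of the point with the generic point has codimension zero
  obtain ⟨σ, hσs, hσf⟩ := exists_translation_left (G := G) b
  let j : (yon (kSpec k)).obj P ⟶ G.left ⨯ (yon _).obj TC :=
    prod.lift ((yon _).map (pullback.fst fW fC) ≫ g₀) ((yon _).map (pullback.snd fW fC))
  have hj : RepWith @Flat j := by
    have sq' : IsPullback j ((yon _).map (pullback.fst fW fC)) prod.fst g₀ := by
      let hT := IsTerminal.isTerminalObj (yon (kSpec k)) _ Over.mkIdTerminal
      refine IsPullback.of_right ?_ (prod.lift_fst _ _)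
        (isPullback_fst_snd (hT.from G.left) TC).flip
      rw [prod.lift_snd, show g₀ ≫ hT.from G.left = (yon _).map fW from hT.hom_ext _ _]
      exact ((IsPullback.of_hasPullback fW fC).map (yon (kSpec k))).flip
    exact repWith_mono (fun _ _ f (_ : IsOpenImmersion f) => (inferInstance : Flat f))
      (repWith_of_isPullback sq'.flip hg₀)
  let gP : (yon (kSpec k)).obj P ⟶ G.left := j ≫ σ.hom ≫ prod.fst
  have hgP : RepWith @Flat gP := repWith_comp hj (repWith_comp (repWith_isIso σ.hom) (repWith_flat_fst C))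
  have hd := hasAt_dimZero_of_flat hG hgP hpm
  let a := (yon (kSpec k)).map iC ≫ b
  let h := (yon (kSpec k)).map iΩ ≫ (yon _).map v ≫ g₀
  have hu : (yon (kSpec k)).map (l ≫ m) ≫ gP = mulP a h := by
    show _ ≫ j ≫ σ.hom ≫ prod.fst = _
    rw [hσf, comp_mulP, comp_mulP]
    congr 1
    · show _ = (yon _).map iC ≫ b
      rw [show j ≫ prod.snd ≫ b = (yon _).map (pullback.snd fW fC) ≫ b from prod.lift_snd_assoc _ _ _,
        ← Functor.map_comp_assoc, Category.assoc]
      erw [pullback.lift_snd]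
    · show _ = (yon _).map iΩ ≫ (yon _).map v ≫ g₀
      rw [show j ≫ prod.fst = (yon _).map (pullback.fst fW fC) ≫ g₀ from prod.lift_fst _ _,
        ← Functor.map_comp_assoc, ← Functor.map_comp_assoc, Category.assoc]
      erw [pullback.lift_fst]
      rw [← Category.assoc]
  obtain ⟨τ, hτs, hτf⟩ := exists_translation_right (G := G) ((yon (kSpec k)).map v ≫ g₀)
  have hπ : Representable (prod.fst : G.left ⨯ (yon (kSpec k)).obj TΩ ⟶ G.left) :=
    (repWith_flat_fst Ω).rep
  refine isSchematicPt_of_rep (f := τ.hom ≫ prod.fst)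
    (repWith_comp (repWith_isIso τ.hom) (repWith_flat_fst Ω)).rep ?_
  rw [Points.map_ofPt, hτf, comp_mulP, prod.lift_fst, prod.lift_snd_assoc]
  show IsSchematicPt _ (Points.ofPt (mulP a h) pt)
  rw [← hu, ofPt_comp_yon, Over.comp_left, Scheme.Hom.comp_apply, hl, hz]
  exact isSchematicPt_of_qs hG hqs hd

set_option maxHeartbeats 1000000 in
/-- A point with a schematic lift to a geometrically irreducible extension is schematic. -/
theorem isSchematicPt_of_primary {W : Sp (kSpec k)} (hW : IsAlgSpace W) (hqc : IsQuasiCompactSp W)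
    (hqs : IsQuasiSeparatedSp W) {C Ω L : Type u} [Field C] [Algebra k C] [Field Ω] [Algebra k Ω]
    [Field L] [Algebra k L] (hnil : (nilradical (AlgebraicClosure k ⊗[k] Ω)).IsPrime)
    (b : (yon (kSpec k)).obj (kOver k C) ⟶ W) (iC : kOver k L ⟶ kOver k C)
    (iΩ : kOver k L ⟶ kOver k Ω) (ptC : ↥(kOver k C).left) (pt : ↥(kOver k L).left)
    (h : IsSchematicPt _ (Points.ofPt (prod.lift ((yon _).map iC ≫ b) ((yon _).map iΩ)) pt)) :
    IsSchematicPt W (Points.ofPt b ptC) := by
  obtain ⟨A, _, _, _, ι', _, hι', hsch⟩ := exists_fg_stage hW hqc hqs Ω _ pt h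
  let TA := kOver k A
  obtain ⟨G₁, g₁, hg₁, z, hz⟩ := hsch
  obtain ⟨_, ⟨(A₁ : G₁.left.Opens), hA₁, rfl⟩, hzA, -⟩ :=
    G₁.left.isBasis_affineOpens.exists_subset_of_mem_open (Set.mem_univ z) isOpen_univ
  let V : Over (kSpec k) := Over.mk (A₁.ι ≫ G₁.hom)
  let jA : V ⟶ G₁ := Over.homMk A₁.ι rfl
  have : IsAffine V.left := hA₁
  let va : (yon (kSpec k)).obj V ⟶ W ⨯ (yon _).obj TA := (yon _).map jA ≫ g₁
  have hva : RepWith @IsOpenImmersion va :=
    repWith_comp ((repWith_yon_map_iff _ jA).2 (inferInstanceAs (IsOpenImmersion A₁.ι))) hg₁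
  -- the open of the spectrum of the tensor product
  let R := kOver k (C ⊗[k] A)
  let pC : R ⟶ kOver k C := kOverMap (k := k) C (C ⊗[k] A) Algebra.TensorProduct.includeLeft
  let pA : R ⟶ TA := kOverMap (k := k) A (C ⊗[k] A) Algebra.TensorProduct.includeRight
  let lb : (yon (kSpec k)).obj R ⟶ W ⨯ (yon _).obj TA :=
    prod.lift ((yon _).map pC ≫ b) ((yon _).map pA)
  obtain ⟨O, hO⟩ : ∃ O : Set ↥R.left, O = Points.ofPt lb ⁻¹' Set.range (Points.ofPt va) := ⟨_, rfl⟩
  have hOo : IsOpen O := hO ▸ (isOpenMap_ofPt_of_repWith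
    (fun _ _ φ (_ : IsOpenImmersion φ) => φ.isOpenEmbedding.isOpenMap) hva).isOpen_range.preimage
      (Points.continuous_ofPt _)
  obtain ⟨cC, hcC⟩ := exists_algHom iC
  obtain ⟨cΩ, hcΩ⟩ := exists_algHom (iΩ ≫ kOverMap A Ω ι')
  let χ : C ⊗[k] A →ₐ[k] L := Algebra.TensorProduct.lift cC cΩ fun _ _ => Commute.all _ _
  let qL : kOver k L ⟶ R := kOverMap (k := k) (C ⊗[k] A) L χ
  have hqC : qL ≫ pC = iC := by
    rw [← hcC]
    ext : 1
    show Spec.map _ ≫ Spec.map _ = Spec.map _
    rw [← Spec.map_comp]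
    refine congrArg Spec.map (CommRingCat.hom_ext (RingHom.ext fun x => ?_))
    show χ (x ⊗ₜ[k] 1) = cC x
    simp [χ]
  have hqA : qL ≫ pA = iΩ ≫ kOverMap A Ω ι' := by
    rw [← hcΩ]
    ext : 1
    show Spec.map _ ≫ Spec.map _ = Spec.map _
    rw [← Spec.map_comp]
    refine congrArg Spec.map (CommRingCat.hom_ext (RingHom.ext fun x => ?_))
    show χ (1 ⊗ₜ[k] x) = cΩ x
    simp [χ]
  have hqO : qL.left pt ∈ O := by
    rw [hO]
    refine ⟨⟨z, hzA⟩, ?_⟩
    show Points.ofPt va _ = Points.ofPt lb (qL.left pt)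
    rw [ofPt_comp_yon]
    refine hz.trans ?_
    rw [← ofPt_comp_yon]
    congr 1
    apply prod.hom_ext
    · simp only [lb, prod.map_fst, Category.assoc, Category.comp_id, prod.lift_fst]
      erw [prod.lift_fst]
      rw [← hqC, Functor.map_comp, Category.assoc]
    · simp only [lb, prod.map_snd, Category.assoc, prod.lift_snd, prod.lift_snd_assoc,
        ← Functor.map_comp, hqA]
  obtain ⟨_, ⟨_, ⟨f, rfl⟩, rfl⟩, hfq, hfO⟩ :=
    PrimeSpectrum.isBasis_basic_opens.exists_subset_of_mem_open hqO hOo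
  have hf : ¬ IsNilpotent f := fun hn => hfq (nilradical_le_prime _ hn)
  have hA : ∀ (F : Type u) [Field F] [Algebra k F] [Module.Finite k F],
      (nilradical (F ⊗[k] A)).IsPrime := fun F => isPrime_nilradical_finite ι' hι' hnil F
  obtain ⟨mm, hmm, hav⟩ := exists_maximal_avoid hA f hf
  -- the finite extension
  let _ := Ideal.Quotient.field mm
  let κ := A ⧸ mm
  have : Algebra.FiniteType k κ := Algebra.FiniteType.of_surjective (Ideal.Quotient.mkₐ k mm)
    Ideal.Quotient.mk_surjective
  have : Module.Finite k κ := finite_of_finite_type_of_isJacobsonRing k κ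
  let e : kOver k κ ⟶ TA := kOverMap (k := k) A κ (Ideal.Quotient.mkₐ k mm)
  have : IsClosedImmersion e.left :=
    IsClosedImmersion.spec_of_surjective _ Ideal.Quotient.mk_surjective
  let hT := IsTerminal.isTerminalObj (yon (kSpec k)) _ Over.mkIdTerminal
  have sqf := isPullback_fst_snd (hT.from W) (kOver k κ)
  have hff : RepWith finLocFree (prod.fst : W ⨯ (yon _).obj (kOver k κ) ⟶ W) := by
    refine repWith_of_isPullback sqf.flip ((repWith_yon_map_iff _ _).2 ?_)
    rw [kFrom_left]
    exact ⟨(IsFinite.SpecMap_iff _).2 (RingHom.finite_algebraMap.2 inferInstance),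
      (HasRingHomProperty.Spec_iff (P := @Flat)).2 (RingHom.flat_algebraMap_iff.2 inferInstance),
      (HasRingHomProperty.Spec_iff (P := @LocallyOfFinitePresentation)).2
        (RingHom.finitePresentation_algebraMap.2
          (Algebra.FinitePresentation.of_finiteType.1 inferInstance))⟩
  have hfs : RepWith @Surjective (prod.fst : W ⨯ (yon _).obj (kOver k κ) ⟶ W) := by
    refine repWith_of_isPullback sqf.flip ((repWith_yon_map_iff _ _).2 ?_)
    rw [kFrom_left]
    exact surjective_specMap_field _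
  have sqe : IsPullback (prod.map (𝟙 W) ((yon _).map e)) prod.snd prod.snd ((yon (kSpec k)).map e) :=
    (isPullback_prod_map_snd ((yon (kSpec k)).map e) W).flip
  have hpe : RepWith @IsAffineHom (prod.map (𝟙 W) ((yon (kSpec k)).map e)) :=
    repWith_of_isPullback sqe.flip ((repWith_yon_map_iff _ e).2 inferInstance)
  obtain ⟨U, snd, fst, sqU⟩ := hpe.rep va
  have : IsAffineHom snd.left := hpe.property _ fst snd sqU
  have : IsAffine U.left := isAffine_of_isAffineHom snd.left
  have hfst : RepWith @IsOpenImmersion fst := repWith_of_isPullback sqU.flip hva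
  refine Groth.AlgSp2.SchematicFinLocFree.isSchematicPt_of_affine hff hfs (a := fst) hfst
    fun x hx => ?_
  -- a point of the fibre gives a point of the tensor product over the closed point
  let fC := Over.mkIdTerminal.from (kOver k C)
  let fκ := Over.mkIdTerminal.from (kOver k κ)
  let PC := pullback fC fκ
  have sqB : IsPullback (prod.lift ((yon _).map (pullback.fst fC fκ) ≫ b)
      ((yon _).map (pullback.snd fC fκ))) ((yon _).map (pullback.fst fC fκ)) prod.fst b := by
    refine IsPullback.of_right ?_ (prod.lift_fst _ _) sqf.flip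
    rw [prod.lift_snd, show b ≫ hT.from W = (yon _).map fC from hT.hom_ext _ _]
    exact ((IsPullback.of_hasPullback fC fκ).map (yon (kSpec k))).flip
  obtain ⟨w, hw, -⟩ := (map_eq_ofPt_iff sqB x ptC).1 hx
  obtain ⟨L₂, _, _, l₂, hl₂⟩ := exists_residue_pt PC w
  let pt₂ : ↥(kOver k L₂).left := (⟨⊥, Ideal.isPrime_bot⟩ : PrimeSpectrum L₂)
  obtain ⟨dC, hdC⟩ := exists_algHom (l₂ ≫ pullback.fst fC fκ)
  obtain ⟨dκ, hdκ⟩ := exists_algHom (l₂ ≫ pullback.snd fC fκ)
  let χ₂ : C ⊗[k] A →ₐ[k] L₂ := Algebra.TensorProduct.lift dC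
    (dκ.comp (Ideal.Quotient.mkₐ k mm)) fun _ _ => Commute.all _ _
  let q₂ : kOver k L₂ ⟶ R := kOverMap (k := k) (C ⊗[k] A) L₂ χ₂
  have h₂C : q₂ ≫ pC = l₂ ≫ pullback.fst fC fκ := by
    rw [← hdC]
    ext : 1
    show Spec.map _ ≫ Spec.map _ = Spec.map _
    rw [← Spec.map_comp]
    refine congrArg Spec.map (CommRingCat.hom_ext (RingHom.ext fun x => ?_))
    show χ₂ (x ⊗ₜ[k] 1) = dC x
    simp [χ₂]
  have h₂A : q₂ ≫ pA = (l₂ ≫ pullback.snd fC fκ) ≫ e := by
    rw [← hdκ]
    ext : 1
    show Spec.map _ ≫ Spec.map _ = Spec.map _ ≫ Spec.map _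
    rw [← Spec.map_comp, ← Spec.map_comp]
    refine congrArg Spec.map (CommRingCat.hom_ext (RingHom.ext fun x => ?_))
    show χ₂ (1 ⊗ₜ[k] x) = dκ (Ideal.Quotient.mk mm x)
    simp [χ₂]; rfl
  have hmem : q₂.left pt₂ ∈ O := by
    refine hfO ?_
    let Q : PrimeSpectrum (C ⊗[k] A) := q₂.left pt₂
    have hQ : Q.asIdeal = RingHom.ker χ₂.toRingHom := by
      rw [RingHom.ker_eq_comap_bot]
      rfl
    show f ∉ Q.asIdeal
    refine hav _ Q.isPrime ?_
    rw [hQ]
    ext x
    simp [χ₂, RingHom.mem_ker, map_eq_zero_iff dκ dκ.toRingHom.injective]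
    exact Ideal.Quotient.eq_zero_iff_mem
  rw [hO] at hmem
  obtain ⟨vv, hvv⟩ := hmem
  have hxv : Points.map (prod.map (𝟙 W) ((yon _).map e)) x = Points.ofPt va vv := by
    rw [hvv, ← hw, ← hl₂ pt₂, ← ofPt_comp_yon, Points.map_ofPt, ← ofPt_comp_yon]
    congr 1
    apply prod.hom_ext
    · simp only [lb, prod.map_fst, Category.assoc, Category.comp_id, prod.lift_fst,
        ← Functor.map_comp_assoc, h₂C]
    · simp only [lb, prod.map_snd, Category.assoc, prod.lift_snd, prod.lift_snd_assoc,
        ← Functor.map_comp, h₂A]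
  obtain ⟨wU, hwU, -⟩ := (map_eq_ofPt_iff sqU x vv).1 hxv
  exact ⟨wU, hwU⟩

/-- A quasi-separated group space over a field is a scheme. -/
theorem isRepresentable_group (hG : IsAlgSpace G.left) (hqs : IsQuasiSeparatedSp G.left) :
    G.left.obj.IsRepresentable := by
  refine isRepresentable_of_schematic ⟨G.left, hG⟩ fun (y : Points G.left) => ?_
  obtain ⟨T, g, t, rfl⟩ := exists_ofPt y
  obtain ⟨C, _, _, p, hp⟩ := exists_residue_pt T t
  let ptC : ↥(kOver k C).left := (⟨⊥, Ideal.isPrime_bot⟩ : PrimeSpectrum C)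
  rw [← hp ptC, ← ofPt_comp_yon]
  generalize (yon (kSpec k)).map p ≫ g = b
  obtain ⟨Ω, _, _, L, _, _, iC, iΩ, pt, hnil, hsch⟩ := exists_schematic_lift G hG hqs b
  obtain ⟨K₀, hKo, hKc, hKy, -⟩ := exists_compact_open_nhd hG
    (Set.finite_singleton (Points.ofPt b ptC)) isOpen_univ (Set.subset_univ _)
  let Z := openSub G.left K₀
  let jK : Z ⟶ G.left := openSubι G.left K₀
  have hjK : RepWith @IsOpenImmersion jK := repWith_openSubι hKo
  have hZ : IsAlgSpace Z := isAlgSpace_openSub hG hKo
  have hZqs : IsQuasiSeparatedSp Z := isQuasiSeparatedSp_of_openImmersion hqs hjK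
  have hZqc : IsQuasiCompactSp Z := (isQuasiCompactSp_iff_compactSpace hZ).2
    ⟨((isEmbedding_map_of_immersion hG (repWith_mono
      (fun _ _ g (_ : IsOpenImmersion g) => (inferInstance : IsImmersion g)) hjK)).1).isCompact_iff.2
        (by rw [Set.image_univ, range_map_openSubι]; exact hKc)⟩
  obtain ⟨bZ, hbZ⟩ := (openSub_exists_lift_iff G.left K₀ b).2 fun t => by
    rw [Subsingleton.elim (α := PrimeSpectrum C) t ptC]
    exact hKy rfl
  have hbZ' : bZ ≫ jK = b := hbZ
  have hlift : IsSchematicPt (Z ⨯ (yon _).obj (kOver k Ω))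
      (Points.ofPt (prod.lift ((yon _).map iC ≫ bZ) ((yon _).map iΩ)) pt) := by
    refine isSchematicPt_of_rep (f := prod.map jK (𝟙 _))
      (repWith_of_isPullback (isPullback_prod_map_fst jK _) hjK).rep ?_
    rw [Points.map_ofPt, prod.lift_map, Category.assoc, hbZ', Category.comp_id]
    exact hsch
  have := isSchematicPt_map hjK
    (isSchematicPt_of_primary hZ hZqc hZqs hnil bZ iC iΩ ptC pt hlift)
  rwa [Points.map_ofPt, hbZ'] at this

end Groth.SpLimit
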