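import Groth.Agent.SpLimit.Charts
import Groth.Agent.SpLimit.MonoEventual
import Groth.Agent.AlgSpBasic.OpenSub
import Groth.Agent.AlgSpBasic.Immersion

/-!
# Quasi-compact opens of a limit of algebraic spaces come from a stage
-/

set_option autoImplicit false
set_option backward.isDefEq.respectTransparency false
set_option backward.isDefEq.respectTransparency.types false

universe u

open CategoryTheory CategoryTheory.Limits AlgebraicGeometry Opposite AlgSp
open Groth.AlgSpBasic

noncomputable section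

namespace Groth.SpLimit

variable {S : Scheme.{u}}

/-- The preimage of a quasi-compact open subspace in an affine chart is quasi-compact. -/
theorem isCompact_preimage_range [QuasiSeparatedSpace S] {X U : Sp S} (hX : IsAlgSpace X)
    (hqs : IsQuasiSeparatedSp X) (hU : IsQuasiCompactSp U) (j : U ⟶ X) {T : Over S}
    [CompactSpace T.left] (g : (yon S).obj T ⟶ X) :
    IsCompact (Points.ofPt g ⁻¹' Set.range (Points.map j)) := by
  obtain ⟨U', a, -, has, hU'⟩ := hU
  have : CompactSpace U'.left := hU'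
  obtain ⟨W, w₁, w₂, hW⟩ := exists_pullback_of_diag hX.diag (a ≫ j) g
  have : CompactSpace W.left := compactSpace_pullback_of_qs hqs hW
  convert isCompact_range w₂.left.continuous
  ext t
  constructor
  · rintro ⟨x, hx⟩
    obtain ⟨u', rfl⟩ := surjective_ofPt_of_repWith has x
    rw [Points.map_ofPt] at hx
    obtain ⟨v, -, hv⟩ := (ofPt_eq_ofPt_iff hW u' t).1 hx
    exact ⟨v, hv⟩
  · rintro ⟨v, rfl⟩
    exact ⟨Points.ofPt a (w₁.left v), (Points.map_ofPt _ _ _).trans
      ((ofPt_eq_ofPt_iff hW _ _).2 ⟨v, rfl, rfl⟩)⟩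

variable [QuasiSeparatedSpace S] {I : Type u} [SmallCategory I] [IsCofiltered I]
  {D : I ⥤ Sp S} {c : Cone D} (hD : ∀ i, IsAlgSpace (D.obj i))
  (hDa : ∀ (i j : I) (φ : i ⟶ j), IsAffineMor (D.map φ)) (hc : IsLimit c)
  (hqc : ∀ i, IsQuasiCompactSp (D.obj i)) (hqs : ∀ i, IsQuasiSeparatedSp (D.obj i))

include hD hDa hc hqs in
theorem isQuasiSeparatedSp_pt : IsQuasiSeparatedSp c.pt := by
  obtain ⟨i⟩ := IsCofiltered.nonempty (C := I)
  refine isQuasiSeparatedSp_of_mor (f := c.π.app i) ?_ (hqs i)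
  exact repWith_mono (fun _ _ g (_ : IsClosedImmersion g) => (inferInstance : QuasiCompact g))
    (repWith_diagonal_of_isAffineMor (isAlgSpace_pt D hDa hc hD) (isAffineMor_π D hDa hc i))

include hD hDa hc hqc hqs in
/-- A quasi-compact open subspace of the limit comes from a stage. -/
theorem exists_open_stage {U : Sp S} (j : U ⟶ c.pt) (hj : RepWith @IsOpenImmersion j)
    (hU : IsQuasiCompactSp U) :
    ∃ (i : I) (O : Set (Points (D.obj i))), IsOpen O ∧ IsQuasiCompactSp (openSub (D.obj i) O) ∧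
      Points.map (c.π.app i) ⁻¹' O = Set.range (Points.map j) := by
  obtain ⟨i₁⟩ := IsCofiltered.nonempty (C := I)
  obtain ⟨T, g, hT, hge, hgs⟩ := exists_affine_chart (hD i₁) (hqc i₁)
  obtain ⟨P⟩ := nonempty_pullSys D hDa hc i₁ g
  let A := P.affSys
  have hpt := isAlgSpace_pt D hDa hc hD
  have hqsPt := isQuasiSeparatedSp_pt hD hDa hc hqs
  have hop : IsOpen (Set.range (Points.map j)) :=
    (isOpenMap_map_of_repWith (fun _ _ φ (_ : IsOpenImmersion φ) => φ.isOpenEmbedding.isOpenMap) hj).isOpen_range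
  let U₀ : P.L.pt.left.Opens :=
    ⟨Points.ofPt P.top ⁻¹' Set.range (Points.map j), hop.preimage (Points.continuous_ofPt _)⟩
  have : CompactSpace P.L.pt.left := have := A.affPt; inferInstanceAs (CompactSpace A.c.pt.left)
  have : ∀ {k l : Over i₁} (m : k ⟶ l), IsAffineHom ((P.E ⋙ Over.forget S).map m) :=
    fun m => P.aff_map m
  obtain ⟨k, V, hV, hVU⟩ := exists_preimage_eq (P.E ⋙ Over.forget S) _ P.isLimit U₀
    (isCompact_preimage_range hpt hqsPt hU j P.top)
  -- the two pullbacks to the chart of pairs agree in the limit, hence at a stage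
  obtain ⟨R, r₁, r₂, hR⟩ := exists_pullback_of_diag (hD k.left).diag (P.p k) (P.p k)
  have : IsAffine (P.E.obj k).left := A.aff k
  have : CompactSpace R.left := compactSpace_pullback_of_qs (hqs k.left) hR
  obtain ⟨P'⟩ := nonempty_pullSys D hDa hc k.left ((yon S).map r₁ ≫ P.p k)
  let m₀ : Over k.left := Over.mk (𝟙 k.left)
  have : ∀ {m n : Over k.left} (α : m ⟶ n), IsAffineHom ((P'.E ⋙ Over.forget S).map α) :=
    fun α => P'.aff_map α
  have : QuasiSeparatedSpace R.left := by
    have hm : IsSeparated (prod.lift r₁ r₂).left :=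
      (monoLFT_le _ (prop_lift_of_repWith_diag (monoLFT_diag (hD k.left)) hR)).1
    have : IsAffine (P.E.obj k).left := A.aff k
    have : QuasiSeparatedSpace (P.E.obj k ⨯ P.E.obj k).left := by
      have : QuasiSeparatedSpace ↥(pullback (P.E.obj k).hom (P.E.obj k).hom) :=
        quasiSeparatedSpace_of_quasiSeparated (pullback.fst (P.E.obj k).hom (P.E.obj k).hom)
      exact quasiSeparatedSpace_of_quasiSeparated
        (Over.prodLeftIsoPullback (P.E.obj k) (P.E.obj k)).hom
    exact quasiSeparatedSpace_of_quasiSeparated (prod.lift r₁ r₂).left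
  have hEq : ∀ r : R ⟶ P.E.obj k, (yon S).map r ≫ P.p k = (yon S).map r₁ ≫ P.p k →
      (P'.L.π.app m₀ ≫ P'.q m₀ ≫ r).left ⁻¹ᵁ V =
        ⟨Points.ofPt P'.top ⁻¹' Set.range (Points.map j), hop.preimage (Points.continuous_ofPt _)⟩ := by
    intro r hr
    have hg : P'.top ≫ c.π.app k.left = (yon S).map (P'.bot ≫ r) ≫ P.p k := by
      rw [P'.sqTop.w]
      simp only [Functor.map_comp, Category.assoc, hr]
    obtain ⟨τ, hτ⟩ := (yon S).map_surjective ((P.sq_π k).lift P'.top ((yon S).map (P'.bot ≫ r)) hg)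
    have hτ₁ : (yon S).map τ ≫ P.top = P'.top := by rw [hτ, (P.sq_π k).lift_fst]
    have hτ₂ : τ ≫ P.L.π.app k = P'.bot ≫ r := (yon S).map_injective (by
      rw [Functor.map_comp, hτ, (P.sq_π k).lift_snd])
    rw [reassoc_of% (P'.π_q m₀), ← hτ₂, Over.comp_left, Scheme.Hom.comp_preimage]
    refine (congrArg (τ.left ⁻¹ᵁ ·) hVU).trans ?_
    ext t
    show Points.ofPt P.top (τ.left t) ∈ Set.range (Points.map j) ↔
      Points.ofPt P'.top t ∈ Set.range (Points.map j)
    rw [← ofPt_comp_yon, hτ₁]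
  have hcp : ∀ r : R ⟶ P.E.obj k, IsCompact (((P'.q m₀ ≫ r).left ⁻¹ᵁ V : (P'.E.obj m₀).left.Opens) :
      Set (P'.E.obj m₀).left) := fun r => by
    have := P'.aff m₀
    have : QuasiCompact r.left := inferInstance
    have : QuasiCompact (P'.q m₀ ≫ r).left :=
      inferInstanceAs (QuasiCompact ((P'.q m₀).left ≫ r.left))
    exact QuasiCompact.isCompact_preimage _ V.2 hV
  obtain ⟨m, ψ, hψ⟩ := exists_map_preimage_eq_map_preimage (P'.E ⋙ Over.forget S) _ P'.isLimit
    (i := m₀) (U := (P'.q m₀ ≫ r₁).left ⁻¹ᵁ V) (V := (P'.q m₀ ≫ r₂).left ⁻¹ᵁ V) (hcp r₁) (hcp r₂) (by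
      rw [← Scheme.Hom.comp_preimage, ← Scheme.Hom.comp_preimage]
      exact (hEq r₁ rfl).trans (hEq r₂ hR.w.symm).symm)
  let l : Over i₁ := Over.mk (m.hom ≫ k.hom)
  let μ : l ⟶ k := Over.homMk m.hom
  have hμ : (yon S).map (P.E.map μ) ≫ P.p k = P.p l ≫ D.map m.hom := P.map_p μ
  let Vl : (P.E.obj l).left.Opens := (P.E.map μ).left ⁻¹ᵁ V
  have hsat : Points.ofPt (P.p l) ⁻¹' (Points.ofPt (P.p l) '' (Vl : Set _)) = (Vl : Set _) := by
    refine (Set.Subset.antisymm ?_ (Set.subset_preimage_image _ _))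
    rintro y ⟨x, hx, hxy⟩
    obtain ⟨R', a, b, hR'⟩ := exists_pullback_of_diag (hD l.left).diag (P.p l) (P.p l)
    obtain ⟨z, rfl, rfl⟩ := (ofPt_eq_ofPt_iff hR' x y).1 hxy
    obtain ⟨ρ, hρ⟩ := (yon S).map_surjective (hR.lift ((yon S).map (a ≫ P.E.map μ))
      ((yon S).map (b ≫ P.E.map μ)) (by
        rw [Functor.map_comp, Functor.map_comp, Category.assoc, Category.assoc, hμ, reassoc_of% hR'.w]))
    have hρ₁ : ρ ≫ r₁ = a ≫ P.E.map μ :=
      (yon S).map_injective (by rw [Functor.map_comp, hρ, hR.lift_fst])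
    have hρ₂ : ρ ≫ r₂ = b ≫ P.E.map μ :=
      (yon S).map_injective (by rw [Functor.map_comp, hρ, hR.lift_snd])
    obtain ⟨t, ht⟩ := (yon S).map_surjective ((P'.sq m).lift ((yon S).map a ≫ P.p l)
      ((yon S).map ρ) (by
        rw [Category.assoc, ← Category.assoc ((yon S).map ρ), ← Functor.map_comp, hρ₁]
        erw [← hμ]
        rw [Functor.map_comp, Category.assoc]))
    have ht' : t ≫ P'.E.map ψ ≫ P'.q m₀ = ρ := by
      rw [P'.map_q ψ]
      exact (yon S).map_injective (by rw [Functor.map_comp, ht, (P'.sq m).lift_snd])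
    have key : ∀ r : R ⟶ P.E.obj k, t.left z ∈ (P'.E.map ψ).left ⁻¹ᵁ ((P'.q m₀ ≫ r).left ⁻¹ᵁ V) ↔
        (ρ ≫ r).left z ∈ V := fun r => by
      rw [← ht']
      rfl
    show (b ≫ P.E.map μ).left z ∈ V
    rw [← hρ₂, ← key r₂]
    refine (SetLike.ext_iff.1 hψ (t.left z)).1 ?_
    refine (key r₁).2 ?_
    rw [hρ₁]
    exact hx
  let O : Set (Points (D.obj l.left)) := Points.ofPt (P.p l) '' (Vl : Set _)
  have hO : IsOpen O := isOpenMap_ofPt_of_etale (P.repWith_p hge l) _ Vl.2
  refine ⟨l.left, O, hO, ?_, ?_⟩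
  · obtain ⟨W, w, a, sq⟩ := (repWith_openSubι hO).rep (P.p l)
    have : IsOpenImmersion w.left := (repWith_openSubι hO).property _ _ _ sq
    have hr : Set.range w.left = (Vl : Set _) :=
      (range_left_eq_preimage sq).trans (by rw [range_map_openSubι]; exact hsat)
    have : CompactSpace W.left := by
      rw [← isCompact_univ_iff, w.left.isOpenEmbedding.isEmbedding.isCompact_iff, Set.image_univ, hr]
      have := P.aff_map μ
      exact QuasiCompact.isCompact_preimage (f := (P.E.map μ).left) _ V.2 hV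
    exact ⟨W, a, repWith_of_isPullback sq.flip (P.repWith_p hge l),
      repWith_of_isPullback sq.flip (P.repWith_p hgs l), this⟩
  · refine (surjective_ofPt_of_repWith (P.repWith_top hgs)).preimage_injective ?_
    rw [← Set.preimage_comp]
    have e : Points.map (c.π.app l.left) ∘ Points.ofPt P.top =
        Points.ofPt (P.p l) ∘ (P.L.π.app l).left := by
      funext t
      show Points.map _ (Points.ofPt P.top t) = Points.ofPt (P.p l) _
      rw [Points.map_ofPt, P.top_π l, ofPt_comp_yon]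
      rfl
    rw [e, Set.preimage_comp, hsat]
    refine Eq.trans (b := (((P.L.π.app l).left ⁻¹ᵁ Vl : P.L.pt.left.Opens) : Set ↥P.L.pt.left)) rfl ?_
    rw [← Scheme.Hom.comp_preimage, ← Over.comp_left, P.L.w μ]
    exact congrArg (fun O : P.L.pt.left.Opens => (O : Set ↥P.L.pt.left)) hVU

include hD hDa hc hqc hqs in
theorem exists_openSub_stage {U : Sp S} (j : U ⟶ c.pt) (hj : RepWith @IsOpenImmersion j)
    (hU : IsQuasiCompactSp U) :
    ∃ (i : I) (Ui : Sp S) (ji : Ui ⟶ D.obj i) (q : U ⟶ Ui),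
      RepWith @IsOpenImmersion ji ∧ IsQuasiCompactSp Ui ∧ IsPullback j q (c.π.app i) ji := by
  obtain ⟨i, O, hO, hOc, hpre⟩ := exists_open_stage hD hDa hc hqc hqs j hj hU
  have hι := repWith_openSubι (X := D.obj i) hO
  have : Mono (openSubι (D.obj i) O) :=
    mono_of_repWith (fun _ _ g (_ : IsOpenImmersion g) => (inferInstance : Mono g)) hι
  have : Mono j := mono_of_repWith (fun _ _ g (_ : IsOpenImmersion g) => (inferInstance : Mono g)) hj
  have hUa : IsAlgSpace U := isAlgSpace_of_representable (isAlgSpace_pt D hDa hc hD) _ hj.rep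
  obtain ⟨q, hq⟩ := exists_lift_of_range_openImmersion hUa hι (j ≫ c.π.app i) (by
    rw [range_map_openSubι]
    rintro _ ⟨x, rfl⟩
    rw [Points.map_comp]
    exact hpre.ge ⟨x, rfl⟩)
  refine ⟨i, _, _, q, hι, hOc, isPullback_of_lifts hq.symm (fun T b d h => ?_)
    (fun T a a' h _ => (cancel_mono j).1 h)⟩
  obtain ⟨a, ha⟩ := exists_lift_of_range_openImmersion (IsAlgSpace.yon_obj T) hj b (by
    rintro _ ⟨x, rfl⟩
    refine hpre.le ?_
    have hx : Points.map (c.π.app i) (Points.map b x) = Points.map (openSubι _ O) (Points.map d x) := by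
      have h' := congrArg (fun m => Points.map m x) h
      simp only [Points.map_comp] at h'
      exact h'
    show Points.map (c.π.app i) (Points.map b x) ∈ O
    rw [hx]
    exact range_map_openSubι.le ⟨_, rfl⟩)
  refine ⟨a, ha, ?_⟩
  rw [← cancel_mono (openSubι (D.obj i) O), Category.assoc, hq, ← Category.assoc, ha, h]

end Groth.SpLimit
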