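import Groth.Agent.SpLimit.AffineLimit

/-!
# Affineness over a fixed base is eventual in systems of algebraic spaces
-/

set_option autoImplicit false
set_option backward.isDefEq.respectTransparency false
set_option backward.isDefEq.respectTransparency.types false

universe u

open CategoryTheory CategoryTheory.Limits AlgebraicGeometry Opposite AlgSp
open Groth.AlgSpBasic

noncomputable section

namespace Groth.SpLimit

section

variable {C : Type*} [Category C] [HasPullbacks C] {J : Type u} [SmallCategory J]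
  {D : J ⥤ C} {Y V : C} (t : D ⟶ (Functor.const J).obj Y) (b : V ⟶ Y)

theorem map_comp_app' {i j : J} (φ : i ⟶ j) : D.map φ ≫ t.app j = t.app i := by
  simpa using t.naturality φ

/-- A system over a base, pulled back along a map to the base. -/
def bcSys : J ⥤ C where
  obj i := pullback (t.app i) b
  map {i j} m := pullback.lift (pullback.fst (t.app i) b ≫ D.map m) (pullback.snd (t.app i) b)
    (by rw [Category.assoc, map_comp_app', pullback.condition])
  map_id i := by apply pullback.hom_ext <;> simp
  map_comp m m' := by apply pullback.hom_ext <;> simp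

@[simp]
theorem bcSys_map_fst {i j : J} (m : i ⟶ j) :
    (bcSys t b).map m ≫ pullback.fst (t.app j) b = pullback.fst (t.app i) b ≫ D.map m :=
  pullback.lift_fst _ _ _

@[simp]
theorem bcSys_map_snd {i j : J} (m : i ⟶ j) :
    (bcSys t b).map m ≫ pullback.snd (t.app j) b = pullback.snd (t.app i) b :=
  pullback.lift_snd _ _ _

theorem isPullback_bcSys_map {i j : J} (m : i ⟶ j) :
    IsPullback (pullback.fst (t.app i) b) ((bcSys t b).map m) (D.map m) (pullback.fst (t.app j) b) :=
  IsPullback.of_bot
    (show IsPullback (pullback.fst (t.app i) b) ((bcSys t b).map m ≫ pullback.snd (t.app j) b)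
        (D.map m ≫ t.app j) b by
      rw [bcSys_map_snd, map_comp_app']; exact IsPullback.of_hasPullback _ _)
    (bcSys_map_fst t b m).symm (IsPullback.of_hasPullback _ _)

variable {c : Cone D} {g : c.pt ⟶ Y} (hg : ∀ i, c.π.app i ≫ t.app i = g)

/-- The pulled back cone. -/
def bcCone : Cone (bcSys t b) where
  pt := pullback g b
  π :=
    { app := fun i => pullback.lift (pullback.fst g b ≫ c.π.app i) (pullback.snd g b)
        (by rw [Category.assoc, hg, pullback.condition])
      naturality := fun i j m => by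
        show 𝟙 _ ≫ _ = _
        rw [Category.id_comp]
        apply pullback.hom_ext <;> simp [bcSys] }

theorem nonempty_isLimit_bcCone [IsConnected J] (hc : IsLimit c) :
    Nonempty (IsLimit (bcCone t b hg)) := by
  have j₀ : J := Classical.arbitrary J
  let u (s : Cone (bcSys t b)) : Cone D :=
    { pt := s.pt
      π :=
        { app := fun i => s.π.app i ≫ pullback.fst (t.app i) b
          naturality := fun i j m => by
            show 𝟙 _ ≫ _ = _
            rw [Category.id_comp, Category.assoc, ← bcSys_map_fst, ← Category.assoc, s.w] } }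
  have hs : ∀ (s : Cone (bcSys t b)) i, s.π.app i ≫ pullback.snd (t.app i) b = s.π.app j₀ ≫ pullback.snd (t.app j₀) b :=
    fun s i => constant_of_preserves_morphisms
      (fun i => s.π.app i ≫ pullback.snd (t.app i) b) (fun i j m => by
        rw [← s.w m, Category.assoc, bcSys_map_snd]) i j₀
  have hw : ∀ s, hc.lift (u s) ≫ g = (s.π.app j₀ ≫ pullback.snd (t.app j₀) b) ≫ b := fun s => by
    rw [← hg j₀, ← Category.assoc, hc.fac, Category.assoc, Category.assoc, pullback.condition]
  exact ⟨{
    lift := fun s => pullback.lift (hc.lift (u s)) (s.π.app j₀ ≫ pullback.snd (t.app j₀) b) (hw s)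
    fac := fun s i => by
      apply pullback.hom_ext
      · simp only [bcCone, Category.assoc, pullback.lift_fst, pullback.lift_fst_assoc]
        exact hc.fac (u s) i
      · simp only [bcCone, Category.assoc, pullback.lift_snd]
        exact (hs s i).symm
    uniq := fun s m hm => by
      apply pullback.hom_ext
      · apply hc.hom_ext
        intro i
        rw [pullback.lift_fst, hc.fac]
        simp [u, ← hm i, bcCone]
      · rw [pullback.lift_snd, ← hm j₀]
        simp [bcCone] }⟩

end

variable {S : Scheme.{u}} [QuasiSeparatedSpace S] {I : Type u} [SmallCategory I] [IsCofiltered I]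
  {D : I ⥤ Sp S} {c : Cone D}

theorem isAlgSpace_bcSys {Y V : Sp S} (hD : ∀ i, IsAlgSpace (D.obj i)) (hY : IsAlgSpace Y)
    (hV : IsAlgSpace V) (t : D ⟶ (Functor.const I).obj Y) (b : V ⟶ Y) (i : I) :
    IsAlgSpace ((bcSys t b).obj i) :=
  isAlgSpace_pullback ⟨_, hD i⟩ ⟨_, hV⟩ ⟨_, hY⟩ _ _

omit [IsCofiltered I] in
theorem isQuasiCompactSp_bcSys {Y : Sp S} (hD : ∀ i, IsAlgSpace (D.obj i)) (hY : IsAlgSpace Y)
    (hqc : ∀ i, IsQuasiCompactSp (D.obj i)) (hYqs : IsQuasiSeparatedSp Y) {V : Over S}
    [CompactSpace V.left] (t : D ⟶ (Functor.const I).obj Y) (b : (yon S).obj V ⟶ Y) (i : I) :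
    IsQuasiCompactSp ((bcSys t b).obj i) := by
  obtain ⟨T, a, hT, hae, has⟩ := exists_affine_chart (hD i) (hqc i)
  obtain ⟨M, m₁, m₂, hM⟩ := exists_pullback_of_diag hY.diag (a ≫ t.app i) b
  have : CompactSpace M.left := compactSpace_pullback_of_qs hYqs hM
  have sq : IsPullback (pullback.fst (t.app i) b) (pullback.snd (t.app i) b) (t.app i) b :=
    IsPullback.of_hasPullback _ _
  let r := sq.lift ((yon S).map m₁ ≫ a) ((yon S).map m₂) (by rw [Category.assoc]; exact hM.w)
  have sqM : IsPullback ((yon S).map m₁) r a (pullback.fst (t.app i) b) := by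
    refine IsPullback.of_bot ?_ (sq.lift_fst _ _ _).symm sq
    rw [sq.lift_snd]
    exact hM
  exact ⟨M, r, repWith_of_isPullback sqM hae, repWith_of_isPullback sqM has, inferInstance⟩

theorem exists_isAffineMor_app (hc : IsLimit c) (hD : ∀ i, IsAlgSpace (D.obj i))
    (hDa : ∀ (i j : I) (φ : i ⟶ j), IsAffineMor (D.map φ))
    (hqc : ∀ i, IsQuasiCompactSp (D.obj i)) (hqs : ∀ i, IsQuasiSeparatedSp (D.obj i))
    {Y : Sp S} (hY : IsAlgSpace Y) (hYqc : IsQuasiCompactSp Y) (hYqs : IsQuasiSeparatedSp Y)
    (t : D ⟶ (Functor.const I).obj Y) (g : c.pt ⟶ Y) (hg : ∀ i, c.π.app i ≫ t.app i = g)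
    (hX : IsAffineMor g) :
    ∃ i₀ : I, ∀ (i : I) (_ : i ⟶ i₀), IsAffineMor (t.app i) := by
  obtain ⟨V, b, hV, hbe, hbs⟩ := exists_affine_chart hY hYqc
  obtain ⟨W, w, p, sq, hW⟩ := hX hV b
  have := IsCofiltered.isConnected (C := I)
  obtain ⟨hc'⟩ := nonempty_isLimit_bcCone t b hg hc
  have hF := isAlgSpace_bcSys hD hY (IsAlgSpace.yon_obj V) t b
  obtain ⟨i₀, T', hT', ⟨e⟩⟩ := exists_affine_of_limit (D := bcSys t b) hF
    (fun i j m => isAffineMor_iff_repWith.2
      (repWith_of_isPullback (isPullback_bcSys_map t b m) (isAffineMor_iff_repWith.1 (hDa i j m))))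
    hc' (isQuasiCompactSp_bcSys hD hY hqc hYqs t b)
    (fun i => isQuasiSeparatedSp_of_isPullback (hF i) (hqs i) hYqs
      (isQuasiSeparatedSp_yon_affine V) (IsPullback.of_hasPullback (t.app i) b))
    W sq.isoPullback
  have h₀ : IsAffineMor (t.app i₀) := by
    obtain ⟨v, hv⟩ := (yon S).map_surjective (e.hom ≫ pullback.snd (t.app i₀) b)
    have sq₀ : IsPullback (e.hom ≫ pullback.fst (t.app i₀) b) ((yon S).map v) (t.app i₀) b :=
      (IsPullback.of_hasPullback (t.app i₀) b).of_iso e.symm (Iso.refl _) (Iso.refl _) (Iso.refl _)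
        (by simp) (by simp [hv]) (by simp) (by simp)
    have : IsAffineHom v.left := inferInstance
    exact isAffineMor_iff_repWith.2 (repWith_of_affWith (affWith_of_cover hY hbe hbs sq₀
      (affWith_of_repWith le_rfl ((repWith_yon_map_iff _ v).2 this))))
  refine ⟨i₀, fun i φ => isAffineMor_iff_repWith.2 ?_⟩
  rw [← map_comp_app' t φ]
  exact repWith_comp (isAffineMor_iff_repWith.1 (hDa _ _ φ)) (isAffineMor_iff_repWith.1 h₀)

end Groth.SpLimit
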