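import Groth.Agent.AlgSpBasic.AffineMor
import Groth.Agent.AlgSpBasic.AlgSpace
import Groth.Agent.Limits.Existence
import Mathlib.CategoryTheory.Filtered.Final
import Mathlib.CategoryTheory.Limits.Constructions.Over.Connected

/-!
# Limits of algebraic spaces with affine transition maps
-/

set_option autoImplicit false
set_option backward.isDefEq.respectTransparency false
set_option backward.isDefEq.respectTransparency.types false

universe u

open CategoryTheory CategoryTheory.Limits AlgebraicGeometry Opposite AlgSp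

noncomputable section

namespace Groth.SpLimit

variable {S : Scheme.{u}}

instance : PreservesLimitsOfSize.{u, u} (yon S) := by
  have : PreservesLimitsOfSize.{u, u} (yon S ⋙ sheafToPresheaf (J S) (Type (u + 1))) :=
    inferInstanceAs (PreservesLimitsOfSize.{u, u} (CategoryTheory.uliftYoneda.{u + 1}))
  exact preservesLimits_of_reflects_of_preserves (yon S) (sheafToPresheaf (J S) (Type (u + 1)))

variable {I : Type u} [SmallCategory I] [IsCofiltered I] (D : I ⥤ Sp S)
variable (hDa : ∀ (i j : I) (φ : i ⟶ j), IsAffineMor (D.map φ)) {c : Cone D} (hc : IsLimit c)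

variable {D} in
include hc in
theorem hom_ext_over (i₀ : I) {P : Sp S} {a b : P ⟶ c.pt}
    (h : ∀ k : Over i₀, a ≫ c.π.app k.left = b ≫ c.π.app k.left) : a = b :=
  ((Functor.Initial.isLimitWhiskerEquiv (Over.forget i₀) c).symm hc).hom_ext h

variable {D} in
/-- The system of schemes obtained by pulling a system back to a scheme over a stage. -/
structure PullSys (c : Cone D) (i₀ : I) {T : Over S} (g : (yon S).obj T ⟶ D.obj i₀) where
  /-- The system. -/
  E : Over i₀ ⥤ Over S
  /-- The cone. -/
  L : Cone E
  isLimit : IsLimit ((Over.forget S).mapCone L)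
  /-- The projections to the scheme. -/
  q : ∀ k, E.obj k ⟶ T
  aff : ∀ k, IsAffineHom (q k).left
  aff_map : ∀ {k l : Over i₀} (m : k ⟶ l), IsAffineHom (E.map m).left
  /-- The projections to the spaces. -/
  p : ∀ k : Over i₀, (yon S).obj (E.obj k) ⟶ D.obj k.left
  sq : ∀ k, IsPullback (p k) ((yon S).map (q k)) (D.map k.hom) g
  map_q : ∀ {k l : Over i₀} (m : k ⟶ l), E.map m ≫ q l = q k
  map_p : ∀ {k l : Over i₀} (m : k ⟶ l), (yon S).map (E.map m) ≫ p l = p k ≫ D.map m.left
  /-- The map of the limit to the limit space. -/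
  top : (yon S).obj L.pt ⟶ c.pt
  /-- The map of the limit to the scheme. -/
  bot : L.pt ⟶ T
  isAffineHom_bot : IsAffineHom bot.left
  sqTop : IsPullback top ((yon S).map bot) (c.π.app i₀) g
  π_q : ∀ k, L.π.app k ≫ q k = bot
  top_π : ∀ k : Over i₀, top ≫ c.π.app k.left = (yon S).map (L.π.app k) ≫ p k

include hDa hc in
theorem nonempty_pullSys (i₀ : I) {T : Over S} (g : (yon S).obj T ⟶ D.obj i₀) :
    Nonempty (PullSys c i₀ g) := by
  have hrep : ∀ k : Over i₀, ∃ (W : Over S) (snd : W ⟶ T) (fst : (yon S).obj W ⟶ D.obj k.left),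
      IsPullback fst ((yon S).map snd) (D.map k.hom) g ∧ IsAffineHom snd.left := fun k => by
    have h := Groth.AlgSpBasic.isAffineMor_iff_repWith.1 (hDa _ _ k.hom)
    obtain ⟨W, snd, fst, sq⟩ := h.rep g
    exact ⟨W, snd, fst, sq, h.property g fst snd sq⟩
  choose W q p sq hq using hrep
  have lift : ∀ {k l : Over i₀} (m : k ⟶ l), ∃ w : W k ⟶ W l,
      (yon S).map w ≫ p l = p k ≫ D.map m.left ∧ w ≫ q l = q k := fun {k l} m => by
    have e : (p k ≫ D.map m.left) ≫ D.map l.hom = (yon S).map (q k) ≫ g := by
      rw [Category.assoc, ← Functor.map_comp, Over.w m, (sq k).w]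
    obtain ⟨w, hw⟩ := (yon S).map_surjective ((sq l).lift _ _ e)
    refine ⟨w, by rw [hw, IsPullback.lift_fst], (yon S).map_injective ?_⟩
    rw [Functor.map_comp, hw, IsPullback.lift_snd]
  choose w hw₁ hw₂ using @lift
  have ext' : ∀ {V : Over S} {k : Over i₀} {a b : V ⟶ W k},
      (yon S).map a ≫ p k = (yon S).map b ≫ p k → a ≫ q k = b ≫ q k → a = b := fun {V k a b} h₁ h₂ =>
    (yon S).map_injective ((sq k).hom_ext h₁ (by rw [← Functor.map_comp, h₂, Functor.map_comp]))
  let E : Over i₀ ⥤ Over S :=
    { obj := W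
      map := fun m => w m
      map_id := fun k => ext' (by rw [hw₁]; simp) (by rw [hw₂]; simp)
      map_comp := fun {k l n} m m' => ext'
        (by rw [hw₁, Functor.map_comp, Category.assoc, hw₁, reassoc_of% hw₁]; simp)
        (by rw [hw₂, Category.assoc, hw₂, hw₂]) }
  have : ∀ k, IsAffineHom (q k).left := hq
  have hEm : ∀ (k l : Over i₀) (m : k ⟶ l), IsAffineHom ((E ⋙ Over.forget S).map m) := fun k l m => by
    have : IsAffineHom ((w m).left ≫ (q l).left) := by
      rw [← Over.comp_left, hw₂]; infer_instance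
    exact IsAffineHom.of_comp (w m).left (q l).left
  obtain ⟨L, hL, hLaff⟩ := Groth.Limits.exists_limit_of_isAffineHom (E ⋙ Over.forget S)
  let k₀ : Over i₀ := Over.mk (𝟙 i₀)
  let t : ∀ k : Over i₀, k ⟶ k₀ := fun k => Over.mkIdTerminal.from k
  have := IsCofiltered.isConnected (C := Over i₀)
  let L' : Cone E :=
    { pt := Over.mk (L.π.app k₀ ≫ (q k₀).left ≫ T.hom)
      π :=
        { app := fun k => Over.homMk (L.π.app k) (by
            change L.π.app k ≫ (W k).hom = L.π.app k₀ ≫ (q k₀).left ≫ T.hom
            rw [← L.w (t k), Category.assoc, Over.w (q k₀)]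
            exact congrArg (L.π.app k ≫ ·) (Over.w (w (t k))).symm)
          naturality := fun k l m => Over.OverMorphism.ext (L.π.naturality m) } }
  have hL' : IsLimit L' := isLimitOfReflects (Over.forget S) (IsLimit.ofIsoLimit hL (Cone.ext (Iso.refl _)))
  have hyL := isLimitOfPreserves (yon S) hL'
  let q' : L'.pt ⟶ T := L'.π.app k₀ ≫ q k₀
  have hq' : ∀ k, L'.π.app k ≫ q k = q' := fun k => by
    show _ = L'.π.app k₀ ≫ q k₀
    rw [← L'.w (t k), Category.assoc]
    exact congrArg (L'.π.app k ≫ ·) (hw₂ (t k)).symm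
  let cc : Cone (Over.forget i₀ ⋙ D) :=
    { pt := (yon S).obj L'.pt
      π :=
        { app := fun k => (yon S).map (L'.π.app k) ≫ p k
          naturality := fun k l m => by
            show 𝟙 _ ≫ (yon S).map (L'.π.app l) ≫ p l = ((yon S).map (L'.π.app k) ≫ p k) ≫ D.map m.left
            rw [Category.id_comp, Category.assoc, ← hw₁ m, ← Category.assoc, ← Functor.map_comp]
            exact congrArg (fun x => (yon S).map x ≫ p l) (L'.w m).symm } }
  let hc' := (Functor.Initial.isLimitWhiskerEquiv (Over.forget i₀) c).symm hc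
  have hfst : ∀ k : Over i₀, hc'.lift cc ≫ c.π.app k.left = (yon S).map (L'.π.app k) ≫ p k :=
    hc'.fac cc
  refine ⟨⟨E, L', IsLimit.ofIsoLimit hL (Cone.ext (Iso.refl _)), q, hq, fun m => hEm _ _ m, p, sq,
    fun m => hw₂ m, fun m => hw₁ m, hc'.lift cc, q', ?_, ?_, hq', hfst⟩⟩
  swap
  · have hw : hc'.lift cc ≫ c.π.app i₀ = (yon S).map q' ≫ g := by
      refine (hfst k₀).trans ?_
      have e : p k₀ = (yon S).map (q k₀) ≫ g := by
        rw [← (sq k₀).w]
        simp [k₀]
      rw [e, ← Category.assoc, ← Functor.map_comp]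
    have hs : ∀ (s : PullbackCone (c.π.app i₀) g) (k : Over i₀),
        (s.fst ≫ c.π.app k.left) ≫ D.map k.hom = s.snd ≫ g := fun s k => by
      rw [Category.assoc, c.w, s.condition]
    let sc : ∀ s : PullbackCone (c.π.app i₀) g, Cone (E ⋙ yon S) := fun s =>
      { pt := s.pt
        π :=
          { app := fun k => (sq k).lift _ _ (hs s k)
            naturality := fun k l m => by
              dsimp
              rw [Category.id_comp]
              apply (sq l).hom_ext
              · rw [IsPullback.lift_fst, Category.assoc]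
                erw [hw₁]
                rw [IsPullback.lift_fst_assoc, Category.assoc, c.w]
              · rw [IsPullback.lift_snd, Category.assoc, ← Functor.map_comp]
                erw [hw₂]
                rw [IsPullback.lift_snd] } }
    refine ⟨⟨hw⟩, ⟨PullbackCone.IsLimit.mk _ (fun s => hyL.lift (sc s)) (fun s => ?_) (fun s => ?_)
      (fun s m h₁ h₂ => ?_)⟩⟩
    · refine hom_ext_over hc i₀ fun k => ?_
      rw [Category.assoc, hfst, ← Category.assoc]
      erw [hyL.fac (sc s) k]
      exact IsPullback.lift_fst _ _ _ _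
    · rw [← hq' k₀, Functor.map_comp, ← Category.assoc]
      erw [hyL.fac (sc s) k₀]
      exact IsPullback.lift_snd _ _ _ _
    · refine hyL.hom_ext fun k => ?_
      rw [hyL.fac]
      apply (sq k).hom_ext
      · erw [IsPullback.lift_fst]
        rw [Category.assoc, ← h₁, Category.assoc, hfst]
        rfl
      · erw [IsPullback.lift_snd]
        rw [Category.assoc, ← h₂, ← hq' k, Functor.map_comp]
        rfl
  · have : IsAffineHom (L.π.app k₀) := hLaff k₀
    show IsAffineHom (L.π.app k₀ ≫ (q k₀).left)
    infer_instance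

include hDa hc in
/-- The projections of a limit with affine transition maps are representable and affine. -/
theorem repWith_isAffineHom_π (i₀ : I) : RepWith @IsAffineHom (c.π.app i₀) := by
  refine Groth.AlgSpBasic.repWith_of_exists fun T g => ?_
  obtain ⟨P⟩ := nonempty_pullSys D hDa hc i₀ g
  exact ⟨P.L.pt, P.top, P.bot, P.sqTop, P.isAffineHom_bot⟩

include hDa hc in
theorem isAffineMor_π (i : I) : IsAffineMor (c.π.app i) :=
  Groth.AlgSpBasic.isAffineMor_iff_repWith.2 (repWith_isAffineHom_π D hDa hc i)

include hDa hc in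
/-- A limit of algebraic spaces with affine transition maps is an algebraic space. -/
theorem isAlgSpace_pt (hD : ∀ i, IsAlgSpace (D.obj i)) : IsAlgSpace c.pt := by
  obtain ⟨i⟩ := IsCofiltered.nonempty (C := I)
  exact Groth.AlgSpBasic.isAlgSpace_of_representable (hD i) _ (repWith_isAffineHom_π D hDa hc i).rep

end Groth.SpLimit
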