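import Groth.Agent.SpLimit.AffineEventual
import Groth.Agent.SpLimit.OpenDescent
import Groth.Agent.AlgSpBasic.MonoDiscrete
import Groth.Agent.AlgSpBasic.DecentFiniteFibre

/-!
# A limit of algebraic spaces which is a scheme is a scheme at a stage
-/

set_option autoImplicit false
set_option backward.isDefEq.respectTransparency false
set_option backward.isDefEq.respectTransparency.types false

universe u

open CategoryTheory CategoryTheory.Limits AlgebraicGeometry Opposite AlgSp
open Groth.AlgSpBasic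

noncomputable section

namespace Groth.SpLimit

variable {S : Scheme.{u}}

/-- An affine base change of a quasi-compact space is quasi-compact. -/
theorem isQuasiCompactSp_of_affine {P A X B : Sp S} (hX : IsQuasiCompactSp X) {fst : P ⟶ A}
    {snd : P ⟶ X} {f : A ⟶ B} {g : X ⟶ B} (sq : IsPullback fst snd f g) (hf : IsAffineMor f) :
    IsQuasiCompactSp P := by
  obtain ⟨U, a, hae, has, hU⟩ := hX
  have hs : RepWith @IsAffineHom snd := repWith_of_isPullback sq (isAffineMor_iff_repWith.1 hf)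
  obtain ⟨M, m, t, sqM⟩ := hs.rep a
  have : IsAffineHom m.left := hs.property _ _ _ sqM
  have : CompactSpace U.left := hU
  have : CompactSpace M.left := QuasiCompact.compactSpace_of_compactSpace m.left
  exact ⟨M, t, repWith_of_isPullback sqM.flip hae, repWith_of_isPullback sqM.flip has, inferInstance⟩

/-- Points over schematic points along an affine morphism are schematic. -/
theorem isSchematicPt_of_affine {X Y : Sp S} {f : X ⟶ Y} (hf : RepWith @IsAffineHom f) {x : Points X}
    (hx : IsSchematicPt Y (Points.map f x)) : IsSchematicPt X x := by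
  obtain ⟨G, g, hg, z, hz⟩ := hx
  obtain ⟨M, m, t, sq⟩ := hf.rep g
  obtain ⟨v, hv, -⟩ := (map_eq_ofPt_iff sq x z).1 hz.symm
  exact ⟨M, t, repWith_of_isPullback sq.flip hg, v, hv⟩

theorem isOpen_setOf_isSchematicPt (X : Sp S) : IsOpen {x | IsSchematicPt X x} := by
  refine isOpen_iff_forall_mem_open.2 fun x hx => ?_
  obtain ⟨G, g, hg, hxr⟩ := hx
  refine ⟨Set.range (Points.map g), ?_, (isOpenMap_map_of_repWith
    (fun _ _ φ (_ : IsOpenImmersion φ) => φ.isOpenEmbedding.isOpenMap) hg).isOpen_range, ?_⟩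
  · rintro _ ⟨p, rfl⟩
    obtain ⟨t, rfl⟩ := (Points.schemeEquiv G).surjective p
    exact ⟨G, g, hg, t, (ofPt_eq_map g t)⟩
  · obtain ⟨t, rfl⟩ := hxr
    exact ⟨_, (ofPt_eq_map g t).symm⟩

variable [QuasiSeparatedSpace S] {I : Type u} [SmallCategory I] [IsCofiltered I]
  {D : I ⥤ Sp S} {c : Cone D} (hD : ∀ i, IsAlgSpace (D.obj i))
  (hDa : ∀ (i j : I) (φ : i ⟶ j), IsAffineMor (D.map φ)) (hc : IsLimit c)
  (hqc : ∀ i, IsQuasiCompactSp (D.obj i)) (hqs : ∀ i, IsQuasiSeparatedSp (D.obj i))

include hD hDa hc hqc hqs in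
/-- An affine open subspace of the limit lands in schematic points at a stage. -/
theorem exists_isSchematicPt_stage {V : Over S} [IsAffine V.left] (j : (yon S).obj V ⟶ c.pt)
    (hj : RepWith @IsOpenImmersion j) :
    ∃ k : I, ∀ v, IsSchematicPt (D.obj k) (Points.map (c.π.app k) (Points.ofPt j v)) := by
  obtain ⟨i, Ui, ji, q, hji, hUc, sq⟩ := exists_openSub_stage hD hDa hc hqc hqs j hj
    ((isQuasiCompactSp_yon_iff _).2 inferInstance)
  have hUa : IsAlgSpace Ui := isAlgSpace_of_representable (hD i) _ hji.rep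
  have : Mono ji := mono_of_repWith (fun _ _ g (_ : IsOpenImmersion g) => (inferInstance : Mono g)) hji
  have hUqs : IsQuasiSeparatedSp Ui := isQuasiSeparatedSp_of_openImmersion (hqs i) hji
  let t : Over.forget i ⋙ D ⟶ (Functor.const (Over i)).obj (D.obj i) :=
    { app := fun k => D.map k.hom
      naturality := fun k l m => by
        show D.map m.left ≫ D.map l.hom = D.map k.hom ≫ 𝟙 _
        rw [Category.comp_id, ← D.map_comp, Over.w m] }
  have := IsCofiltered.isConnected (C := Over i)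
  obtain ⟨hc'⟩ := nonempty_isLimit_bcCone t ji (c := c.whisker (Over.forget i)) (g := c.π.app i)
    (fun k => c.w k.hom) ((Functor.Initial.isLimitWhiskerEquiv (Over.forget i) c).symm hc)
  have hF := fun k => isAlgSpace_bcSys (fun k : Over i => hD k.left) (hD i) hUa t ji k
  obtain ⟨k, T', hT', ⟨e⟩⟩ := exists_affine_of_limit (D := bcSys t ji) hF
    (fun k l m => isAffineMor_iff_repWith.2 (repWith_of_isPullback (isPullback_bcSys_map t ji m)
      (isAffineMor_iff_repWith.1 (hDa _ _ m.left))))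
    hc' (fun k => isQuasiCompactSp_of_affine hUc (IsPullback.of_hasPullback (t.app k) ji)
      (hDa _ _ k.hom))
    (fun k => isQuasiSeparatedSp_of_isPullback (hF k) (hqs k.left) (hqs i) hUqs
      (IsPullback.of_hasPullback (t.app k) ji))
    V sq.isoPullback
  refine ⟨k.left, fun v => ?_⟩
  obtain ⟨lv, hlv⟩ : ∃ lv : (yon S).obj V ⟶ (bcSys t ji).obj k,
      lv ≫ pullback.fst (t.app k) ji = j ≫ c.π.app k.left :=
    ⟨pullback.lift (j ≫ c.π.app k.left) q (by rw [Category.assoc]; erw [c.w k.hom]; exact sq.w),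
      pullback.lift_fst _ _ _⟩
  obtain ⟨v', hv'⟩ := (yon S).map_surjective (lv ≫ e.inv)
  refine ⟨T', e.hom ≫ pullback.fst (t.app k) ji, repWith_comp (repWith_isIso _)
    (repWith_of_isPullback (IsPullback.of_hasPullback (t.app k) ji).flip hji), v'.left v, ?_⟩
  rw [← ofPt_comp_yon, hv', Points.map_ofPt, ← hlv]
  simp

include hD hDa hc hqc hqs in
/-- A limit of qcqs algebraic spaces which is a scheme is a scheme at a stage. -/
theorem exists_scheme_of_limit {W : Over S} (e : (yon S).obj W ≅ c.pt) :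
    ∃ i : I, (D.obj i).obj.IsRepresentable := by
  obtain ⟨i₁⟩ := IsCofiltered.nonempty (C := I)
  obtain ⟨T, g, hT, hge, hgs⟩ := exists_affine_chart (hD i₁) (hqc i₁)
  obtain ⟨P⟩ := nonempty_pullSys D hDa hc i₁ g
  obtain ⟨f, hf⟩ := (yon S).map_surjective (P.top ≫ e.inv)
  let O : ∀ k : Over i₁, (P.E.obj k).left.Opens := fun k =>
    ⟨Points.ofPt (P.p k) ⁻¹' {y | IsSchematicPt (D.obj k.left) y},
      (isOpen_setOf_isSchematicPt _).preimage (Points.continuous_ofPt _)⟩
  have hmono : ∀ {k l : Over i₁} (m : k ⟶ l), (P.E.map m).left ⁻¹ᵁ O l ≤ O k := fun {k l} m t ht => by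
    refine isSchematicPt_of_affine (isAffineMor_iff_repWith.1 (hDa _ _ m.left)) ?_
    rw [Points.map_ofPt, ← P.map_p m, ofPt_comp_yon]
    exact ht
  have hcov : ∀ t : P.L.pt.left, ∃ k : Over i₁, t ∈ (P.L.π.app k).left ⁻¹ᵁ O k := by
    intro t
    obtain ⟨i, y, hy⟩ := W.left.affineCover.exists_eq (f.left t)
    let V : Over S := Over.mk (W.left.affineCover.f i ≫ W.hom)
    let ι : V ⟶ W := Over.homMk (W.left.affineCover.f i) rfl
    have : IsAffine V.left := inferInstanceAs (IsAffine (Spec _))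
    have hι : RepWith @IsOpenImmersion ((yon S).map ι) :=
      (repWith_yon_map_iff _ ι).2 (inferInstanceAs (IsOpenImmersion (W.left.affineCover.f i)))
    obtain ⟨k, hk⟩ := exists_isSchematicPt_stage hD hDa hc hqc hqs ((yon S).map ι ≫ e.hom)
      (repWith_comp hι (repWith_isIso _))
    obtain ⟨j, a, b, -⟩ := IsCofilteredOrEmpty.cone_objs k i₁
    refine ⟨Over.mk b, ?_⟩
    have hpt : Points.ofPt ((yon S).map ι ≫ e.hom) y = Points.ofPt P.top t := by
      rw [ofPt_comp_yon, show ι.left y = f.left t from hy, ← ofPt_comp_yon, hf, Category.assoc,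
        e.inv_hom_id, Category.comp_id]
    have h₂ : Points.ofPt (P.p (Over.mk b)) ((P.L.π.app (Over.mk b)).left t) =
        Points.map (c.π.app j) (Points.ofPt P.top t) := by
      rw [Points.map_ofPt]
      erw [P.top_π (Over.mk b)]
      rw [ofPt_comp_yon]
      rfl
    show IsSchematicPt _ _
    rw [h₂]
    refine isSchematicPt_of_affine (isAffineMor_iff_repWith.1 (hDa _ _ a)) ?_
    rw [← Points.map_comp, c.w a, ← hpt]
    exact hk y
  have : IsAffine P.L.pt.left := P.affSys.affPt
  obtain ⟨s, hs⟩ := isCompact_univ.elim_finite_subcover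
    (fun k => (((P.L.π.app k).left ⁻¹ᵁ O k : P.L.pt.left.Opens) : Set P.L.pt.left))
    (fun k => ((P.L.π.app k).left ⁻¹ᵁ O k).2) (fun t _ => Set.mem_iUnion.2 (hcov t))
  obtain ⟨k, hk⟩ := IsCofiltered.inf_objs_exists s
  have htop : (P.L.π.app k).left ⁻¹ᵁ O k = ⊤ := by
    refine top_le_iff.1 fun t _ => ?_
    obtain ⟨l, hl, htl⟩ := Set.mem_iUnion₂.1 (hs (Set.mem_univ t))
    obtain ⟨m⟩ := hk hl
    refine hmono m ?_
    rw [← P.L.w m] at htl
    exact htl
  have : ∀ {k l : Over i₁} (m : k ⟶ l), IsAffineHom ((P.E ⋙ Over.forget S).map m) :=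
    fun m => P.aff_map m
  have : ∀ k, CompactSpace ((P.E ⋙ Over.forget S).obj k) := fun k =>
    have : IsAffine (P.affSys.D.obj k).left := P.affSys.aff k
    inferInstanceAs (CompactSpace (P.affSys.D.obj k).left)
  obtain ⟨l, m, hl⟩ := exists_map_eq_top (P.E ⋙ Over.forget S) _ P.isLimit (i := k) (O k) htop
  refine ⟨l.left, isRepresentable_of_schematic ⟨_, hD l.left⟩ fun x => ?_⟩
  obtain ⟨t, rfl⟩ := surjective_ofPt_of_repWith (P.repWith_p hgs l) x
  exact hmono m (hl.ge (Set.mem_univ t))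

end Groth.SpLimit
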