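import Groth.Agent.SpLimit.Stage
import Groth.Prelude.Def_AlgSpRep
import Mathlib.CategoryTheory.Limits.Types.Filtered

/-!
# Relatively limit preserving maps, elementwise
-/

set_option autoImplicit false
set_option backward.isDefEq.respectTransparency false
set_option backward.isDefEq.respectTransparency.types false

universe u

open CategoryTheory CategoryTheory.Limits AlgebraicGeometry AlgSp Opposite

noncomputable section

namespace Groth.SpLimit

variable {S : Scheme.{u}} {F G H : PSp S}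

/-- Sections over the limit lying over a section from a stage come from a later stage. -/
def LiftsStage (a : F ⟶ G) : Prop :=
  ∀ ⦃I : Type u⦄ [SmallCategory I] [IsCofiltered I] (A : AffSys S I) (i : I)
    (y : G.obj (op (A.D.obj i))) (x : F.obj (op A.c.pt)),
    a.app _ x = G.map (A.c.π.app i).op y →
    ∃ (j : I) (φ : j ⟶ i) (x' : F.obj (op (A.D.obj j))),
      F.map (A.c.π.app j).op x' = x ∧ a.app _ x' = G.map (A.D.map φ).op y

/-- Sections over a stage with the same image, equal in the limit, are equal at a later stage. -/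
def EqStage (a : F ⟶ G) : Prop :=
  ∀ ⦃I : Type u⦄ [SmallCategory I] [IsCofiltered I] (A : AffSys S I) (i : I)
    (x₁ x₂ : F.obj (op (A.D.obj i))),
    a.app _ x₁ = a.app _ x₂ → F.map (A.c.π.app i).op x₁ = F.map (A.c.π.app i).op x₂ →
    ∃ (j : I) (φ : j ⟶ i), F.map (A.D.map φ).op x₁ = F.map (A.D.map φ).op x₂

theorem map_map_apply (F : PSp S) {X Y Z : Over S} (f : X ⟶ Y) (g : Y ⟶ Z) (x : F.obj (op Z)) :
    F.map f.op (F.map g.op x) = F.map (f ≫ g).op x := by
  rw [op_comp, Functor.map_comp_apply]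

theorem map_congr (F : PSp S) {X Y Z : Over S} {f : X ⟶ Y} {g : Y ⟶ Z} {h : X ⟶ Z} (e : f ≫ g = h)
    (x : F.obj (op Z)) : F.map f.op (F.map g.op x) = F.map h.op x :=
  (map_map_apply F f g x).trans (by rw [e])

theorem app_map_apply (a : F ⟶ G) {X Y : Over S} (f : X ⟶ Y) (x : F.obj (op Y)) :
    a.app (op X) (F.map f.op x) = G.map f.op (a.app (op Y) x) :=
  NatTrans.naturality_apply a f.op x

theorem isRelLimitPreserving_of_stage {a : F ⟶ G} (h₁ : LiftsStage a) (h₂ : EqStage a) :
    IsRelLimitPreserving a := by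
  intro T y I _ _ D c hc hD hT
  let A : AffSys S I :=
    { D := D ⋙ Over.map T.hom
      c := (Over.map T.hom).mapCone c
      isLimit := hc
      aff := hD
      affPt := hT }
  refine ⟨Types.FilteredColimit.isColimitOf' _ _ (fun x => ?_) (fun i x₁ x₂ h => ?_)⟩
  · obtain ⟨i⟩ := IsCofiltered.nonempty (C := I)
    obtain ⟨j, φ, x', hx', hy⟩ := h₁ A i (G.map (overHom T (D.obj i)).op y) x.1
      (x.2.trans (map_congr G (map_comp_overHom T (c.π.app i)) y).symm)
    exact ⟨op j, ⟨x', hy.trans (map_congr G (map_comp_overHom T (D.map φ)) y)⟩, Subtype.ext hx'.symm⟩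
  · obtain ⟨j, φ, hφ⟩ := h₂ A i.unop x₁.1 x₂.1 (x₁.2.trans x₂.2.symm) (congrArg Subtype.val h)
    exact ⟨op j, φ.op, Subtype.ext hφ⟩

section

variable {I : Type u} [SmallCategory I] [IsCofiltered I] (A : AffSys S I) (i : I)

/-- The system above a stage, over that stage. -/
abbrev overStage : Over i ⥤ Over (A.D.obj i).left :=
  Over.post A.D ⋙ (A.D.obj i).iteratedSliceForward

/-- Its cone. -/
abbrev overStageCone : Cone (overStage A i) :=
  (A.D.obj i).iteratedSliceForward.mapCone ((Over.conePost A.D i).obj A.c)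

/-- An object over a stage, seen over `S`. -/
def stageIso {k : Over (A.D.obj i)} :
    (Over.map (A.D.obj i).hom).obj ((A.D.obj i).iteratedSliceForward.obj k) ≅ k.left :=
  Over.isoMk (Iso.refl _) ((Category.id_comp _).trans (Over.w k.hom).symm)

theorem stageIso_map {k l : Over (A.D.obj i)} (m : k ⟶ l) :
    (Over.map (A.D.obj i).hom).map ((A.D.obj i).iteratedSliceForward.map m) ≫ (stageIso A i).hom =
      (stageIso A i).hom ≫ m.left :=
  Over.OverMorphism.ext ((Category.comp_id _).trans (Category.id_comp _).symm)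

theorem stageIso_overHom {k : Over (A.D.obj i)} :
    overHom (A.D.obj i) ((A.D.obj i).iteratedSliceForward.obj k) = (stageIso A i).hom ≫ k.hom :=
  Over.OverMorphism.ext (Category.id_comp _).symm

theorem isColimit_overStage {a : F ⟶ G} (h : IsRelLimitPreserving a) (y : G.obj (op (A.D.obj i))) :
    Nonempty (IsColimit ((fiberFun a (A.D.obj i) y).mapCocone (overStageCone A i).op)) :=
  h (A.D.obj i) y (overStage A i) (overStageCone A i)
    (IsLimit.ofIsoLimit ((Functor.Initial.isLimitWhiskerEquiv (Over.forget i) _).symm A.isLimit)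
      (Cone.ext (Iso.refl _)))
    (fun k => A.aff k.left) A.affPt

end

theorem liftsStage_of_isRelLimitPreserving {a : F ⟶ G} (h : IsRelLimitPreserving a) :
    LiftsStage a := by
  intro I _ _ A i y x hx
  obtain ⟨hcol⟩ := isColimit_overStage A i h y
  let ep : (Over.map (A.D.obj i).hom).obj (overStageCone A i).pt ≅ A.c.pt :=
    stageIso A i (k := ((Over.conePost A.D i).obj A.c).pt)
  let z : (fiberFun a (A.D.obj i) y).obj (op (overStageCone A i).pt) :=
    ⟨F.map ep.hom.op x, (app_map_apply a ep.hom x).trans ((congrArg (G.map ep.hom.op) hx).trans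
      (map_congr G (stageIso_overHom A i).symm y))⟩
  obtain ⟨k, z', hz⟩ := Types.jointly_surjective _ hcol z
  let e : (Over.map (A.D.obj i).hom).obj ((overStage A i).obj k.unop) ≅ A.D.obj k.unop.left :=
    stageIso A i (k := (Over.post A.D).obj k.unop)
  let μ := (Over.map (A.D.obj i).hom).map ((overStageCone A i).π.app k.unop)
  have hμ : μ ≫ e.hom = ep.hom ≫ A.c.π.app k.unop.left :=
    stageIso_map A i (((Over.conePost A.D i).obj A.c).π.app k.unop)
  have hz' : F.map μ.op z'.1 = F.map ep.hom.op x := congrArg Subtype.val hz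
  refine ⟨k.unop.left, k.unop.hom, F.map e.inv.op z'.1, ?_, ?_⟩
  · refine (map_congr F (show A.c.π.app k.unop.left ≫ e.inv = ep.inv ≫ μ by
      rw [Iso.eq_inv_comp, ← Category.assoc, ← hμ, Category.assoc, Iso.hom_inv_id, Category.comp_id]) _).trans ?_
    refine (map_map_apply F ep.inv μ _).symm.trans ((congrArg (F.map ep.inv.op) hz').trans ?_)
    refine (map_congr F ep.inv_hom_id x).trans ?_
    simp
  · exact (app_map_apply a e.inv _).trans ((congrArg (G.map e.inv.op) z'.2).trans
      (map_congr G ((Iso.inv_comp_eq e).2 (stageIso_overHom A i)) y))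

theorem eqStage_of_isRelLimitPreserving {a : F ⟶ G} (h : IsRelLimitPreserving a) : EqStage a := by
  intro I _ _ A i x₁ x₂ ha he
  obtain ⟨hcol⟩ := isColimit_overStage A i h (a.app _ x₁)
  let k₀ : (Over i)ᵒᵖ := op (Over.mk (𝟙 i))
  let e₀ : (Over.map (A.D.obj i).hom).obj ((overStage A i).obj k₀.unop) ≅ A.D.obj i :=
    stageIso A i (k := (Over.post A.D).obj k₀.unop)
  have h₀ : e₀.hom = overHom (A.D.obj i) ((overStage A i).obj k₀.unop) := by
    refine Eq.trans ?_ (stageIso_overHom A i).symm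
    exact (Category.comp_id _).symm.trans (congrArg (e₀.hom ≫ ·) (A.D.map_id i).symm)
  have hz : ∀ x, a.app _ x = a.app _ x₁ → a.app _ (F.map e₀.hom.op x) =
      G.map (overHom (A.D.obj i) ((overStage A i).obj k₀.unop)).op (a.app _ x₁) := fun x hx =>
    (app_map_apply a e₀.hom x).trans ((congrArg (G.map e₀.hom.op) hx).trans (by rw [h₀]))
  let z₁ : (fiberFun a (A.D.obj i) (a.app _ x₁)).obj (op ((overStage A i).obj k₀.unop)) := ⟨_, hz x₁ rfl⟩
  let z₂ : (fiberFun a (A.D.obj i) (a.app _ x₁)).obj (op ((overStage A i).obj k₀.unop)) := ⟨_, hz x₂ ha.symm⟩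
  let ep : (Over.map (A.D.obj i).hom).obj (overStageCone A i).pt ≅ A.c.pt :=
    stageIso A i (k := ((Over.conePost A.D i).obj A.c).pt)
  let μ := (Over.map (A.D.obj i).hom).map ((overStageCone A i).π.app k₀.unop)
  have hμ : μ ≫ e₀.hom = ep.hom ≫ A.c.π.app i :=
    stageIso_map A i (((Over.conePost A.D i).obj A.c).π.app k₀.unop)
  obtain ⟨k, f, g, hk⟩ := (Types.FilteredColimit.isColimit_eq_iff _ hcol (i := k₀) (j := k₀)
    (xi := z₁) (xj := z₂)).1 (Subtype.ext (show F.map μ.op (F.map e₀.hom.op x₁) = F.map μ.op (F.map e₀.hom.op x₂) from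
      (map_congr F hμ x₁).trans ((map_map_apply F _ _ x₁).symm.trans ((congrArg (F.map ep.hom.op) he).trans
        ((map_map_apply F _ _ x₂).trans (map_congr F hμ x₂).symm)))))
  have hfg : f = g := Quiver.Hom.unop_inj (Over.mkIdTerminal.hom_ext _ _)
  subst hfg
  refine ⟨k.unop.left, k.unop.hom, ?_⟩
  let e : (Over.map (A.D.obj i).hom).obj ((overStage A i).obj k.unop) ≅ A.D.obj k.unop.left :=
    stageIso A i (k := (Over.post A.D).obj k.unop)
  let ν := (Over.map (A.D.obj i).hom).map ((overStage A i).map f.unop)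
  have hν : ν ≫ e₀.hom = e.hom ≫ A.D.map k.unop.hom :=
    (stageIso_map A i ((Over.post A.D).map f.unop)).trans (congrArg (fun m => e.hom ≫ A.D.map m)
      ((Category.comp_id _).symm.trans (Over.w f.unop) : f.unop.left = k.unop.hom))
  have hk' : F.map ν.op (F.map e₀.hom.op x₁) = F.map ν.op (F.map e₀.hom.op x₂) := congrArg Subtype.val hk
  have hh : ∀ x, F.map e.inv.op (F.map ν.op (F.map e₀.hom.op x)) = F.map (A.D.map k.unop.hom).op x :=
    fun x => (congrArg (F.map e.inv.op) (map_congr F hν x)).trans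
      (map_congr F (e.inv_hom_id_assoc _) x)
  exact (hh x₁).symm.trans ((congrArg (F.map e.inv.op) hk').trans (hh x₂))

theorem isRelLimitPreserving_iff {a : F ⟶ G} : IsRelLimitPreserving a ↔ LiftsStage a ∧ EqStage a :=
  ⟨fun h => ⟨liftsStage_of_isRelLimitPreserving h, eqStage_of_isRelLimitPreserving h⟩,
    fun h => isRelLimitPreserving_of_stage h.1 h.2⟩

theorem isRelLimitPreserving_comp {a : F ⟶ G} {b : G ⟶ H} (ha : IsRelLimitPreserving a)
    (hb : IsRelLimitPreserving b) : IsRelLimitPreserving (a ≫ b) := by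
  rw [isRelLimitPreserving_iff] at ha hb ⊢
  refine ⟨fun I _ _ A i y x h => ?_, fun I _ _ A i x₁ x₂ h he => ?_⟩
  · obtain ⟨j, φ, g, hg, hgy⟩ := hb.1 A i y (a.app _ x) h
    obtain ⟨l, ψ, x', hx', hx'g⟩ := ha.1 A j g x hg.symm
    refine ⟨l, ψ ≫ φ, x', hx', ?_⟩
    show b.app _ (a.app _ x') = _
    rw [hx'g, app_map_apply, hgy, map_map_apply, Functor.map_comp]
  · obtain ⟨j, φ, hφ⟩ := hb.2 A i (a.app _ x₁) (a.app _ x₂) h (by
      rw [← app_map_apply, ← app_map_apply, he])
    rw [← app_map_apply, ← app_map_apply] at hφ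
    obtain ⟨l, ψ, hψ⟩ := ha.2 A j _ _ hφ
      ((map_congr F (A.c.w φ) x₁).trans (he.trans (map_congr F (A.c.w φ) x₂).symm))
    exact ⟨l, ψ ≫ φ, (map_congr F (A.D.map_comp ψ φ).symm x₁).symm.trans
      (hψ.trans (map_congr F (A.D.map_comp ψ φ).symm x₂))⟩

theorem isRelLimitPreserving_of_comp {a : F ⟶ G} {b : G ⟶ H} (hab : IsRelLimitPreserving (a ≫ b))
    (hb : IsRelLimitPreserving b) : IsRelLimitPreserving a := by
  rw [isRelLimitPreserving_iff] at hab hb ⊢
  refine ⟨fun I _ _ A i y x h => ?_, fun I _ _ A i x₁ x₂ h he => ?_⟩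
  · obtain ⟨j, φ, x', hx', hy⟩ := hab.1 A i (b.app _ y) x (by
      exact (congrArg (b.app _) h).trans (app_map_apply b _ _))
    change b.app _ (a.app _ x') = _ at hy
    rw [← app_map_apply] at hy
    obtain ⟨l, ψ, hψ⟩ := hb.2 A j _ _ hy ((app_map_apply a _ _).symm.trans
      ((congrArg (a.app _) hx').trans (h.trans (map_congr G (A.c.w φ) y).symm)))
    refine ⟨l, ψ ≫ φ, F.map (A.D.map ψ).op x', by rw [map_map_apply, A.c.w]; exact hx', ?_⟩
    rw [app_map_apply, hψ, map_map_apply, Functor.map_comp]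
  · exact hab.2 A i x₁ x₂ (show b.app _ (a.app _ x₁) = b.app _ (a.app _ x₂) by rw [h]) he

/-- Limit preservation is stable under base change. -/
theorem isRelLimitPreserving_of_isPullback {P : PSp S} {a : F ⟶ G} {b : H ⟶ G} {fst : P ⟶ F}
    {snd : P ⟶ H} (sq : IsPullback fst snd a b) (ha : IsRelLimitPreserving a) :
    IsRelLimitPreserving snd := by
  rw [isRelLimitPreserving_iff] at ha ⊢
  have sq' := fun X : (Over S)ᵒᵖ => sq.map ((evaluation _ _).obj X)
  have hw : ∀ {X : Over S} (p : P.obj (op X)),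
      a.app _ (fst.app _ p) = b.app _ (snd.app _ p) := fun {X} p =>
    ConcreteCategory.congr_hom (sq' (op X)).w p
  refine ⟨fun I _ _ A i y x h => ?_, fun I _ _ A i x₁ x₂ h he => ?_⟩
  · obtain ⟨j, φ, f, hf, hfy⟩ := ha.1 A i (b.app _ y) (fst.app _ x)
      ((hw x).trans ((congrArg (b.app _) h).trans (app_map_apply b _ _)))
    obtain ⟨p, hp₁, hp₂⟩ := Types.exists_of_isPullback (sq' (op (A.D.obj j))) f (H.map (A.D.map φ).op y)
      (hfy.trans (app_map_apply b _ _).symm)
    refine ⟨j, φ, p, Types.ext_of_isPullback (sq' (op A.c.pt)) ?_ ?_, hp₂⟩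
    · exact (app_map_apply fst _ _).trans ((congrArg (F.map _) hp₁).trans hf)
    · refine (app_map_apply snd _ _).trans ((congrArg (H.map _) hp₂).trans ?_)
      rw [map_map_apply, A.c.w]
      exact h.symm
  · obtain ⟨j, φ, hφ⟩ := ha.2 A i (fst.app _ x₁) (fst.app _ x₂) (by rw [hw, hw, h]) (by
      rw [← app_map_apply, ← app_map_apply, he])
    refine ⟨j, φ, Types.ext_of_isPullback (sq' (op (A.D.obj j))) ?_ ?_⟩
    · exact (app_map_apply fst _ _).trans (hφ.trans (app_map_apply fst _ _).symm)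
    · exact (app_map_apply snd _ _).trans ((congrArg (H.map _) h).trans (app_map_apply snd _ _).symm)

end Groth.SpLimit
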