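import Groth.Agent.SpLimit.SheafifyLimit

/-!
# Limit preserving presheaves
-/

set_option autoImplicit false
set_option backward.isDefEq.respectTransparency false
set_option backward.isDefEq.respectTransparency.types false

universe u

open CategoryTheory CategoryTheory.Limits AlgebraicGeometry Opposite AlgSp

noncomputable section

namespace Groth.SpLimit

variable {S : Scheme.{u}}

/-- The one-point presheaf. -/
abbrev ptPSp (S : Scheme.{u}) : PSp S := (Functor.const _).obj PUnit

/-- The map to the one-point presheaf. -/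
def toPt (F : PSp S) : F ⟶ ptPSp S where
  app _ := ↾fun _ => PUnit.unit

theorem isSheaf_ptPSp : Presheaf.IsSheaf (J S) (ptPSp S) :=
  (isSheaf_iff_isSheaf_of_type _ _).2 fun _ _ _ _ _ =>
    ⟨PUnit.unit, fun _ _ _ => rfl, fun _ _ => rfl⟩

theorem isLimitPreserving_iff (F : PSp S) :
    IsLimitPreserving F ↔ LiftsStage (toPt F) ∧ EqStage (toPt F) := by
  constructor
  · intro h
    refine ⟨fun I _ _ A i y x _ => ?_, fun I _ _ A i x₁ x₂ _ he => ?_⟩
    · obtain ⟨hcol⟩ := h A.D A.c A.isLimit A.aff A.affPt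
      obtain ⟨k, z, hz⟩ := Types.jointly_surjective _ hcol x
      obtain ⟨j, a, b, -⟩ := IsCofilteredOrEmpty.cone_objs i k.unop
      exact ⟨j, a, F.map (A.D.map b).op z, (map_congr F (A.c.w b) z).trans hz, rfl⟩
    · obtain ⟨hcol⟩ := h A.D A.c A.isLimit A.aff A.affPt
      obtain ⟨k, f, g, hk⟩ := (Types.FilteredColimit.isColimit_eq_iff _ hcol (i := op i) (j := op i)
        (xi := x₁) (xj := x₂)).1 he
      refine ⟨IsCofiltered.eq f.unop g.unop, IsCofiltered.eqHom f.unop g.unop ≫ f.unop, ?_⟩
      have hk' := congrArg (F.map (A.D.map (IsCofiltered.eqHom f.unop g.unop)).op) hk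
      change F.map _ (F.map (A.D.map f.unop).op x₁) = F.map _ (F.map (A.D.map g.unop).op x₂) at hk'
      rw [map_map_apply, map_map_apply, ← A.D.map_comp, ← A.D.map_comp,
        ← IsCofiltered.eq_condition f.unop g.unop] at hk'
      exact hk'
  · rintro ⟨hl, he⟩ I _ _ D c hc hD hT
    let A : AffSys S I := { D := D, c := c, isLimit := hc, aff := hD, affPt := hT }
    refine ⟨Types.FilteredColimit.isColimitOf' _ _ (fun x => ?_) (fun i x₁ x₂ h => ?_)⟩
    · obtain ⟨i⟩ := IsCofiltered.nonempty (C := I)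
      obtain ⟨j, φ, x', hx', -⟩ := hl A i PUnit.unit x (rfl)
      exact ⟨op j, x', hx'.symm⟩
    · obtain ⟨j, φ, hj⟩ := he A i.unop x₁ x₂ (rfl) h
      exact ⟨op j, φ.op, hj⟩

/-- Sheafification preserves relative limit preservation. -/
theorem isRelLimitPreserving_of_locallyBijective {F G F' G' : PSp S} {a : F ⟶ G} {a' : F' ⟶ G'}
    {η : F ⟶ F'} {θ : G ⟶ G'}
    [Presheaf.IsLocallyInjective (J S) η] [Presheaf.IsLocallySurjective (J S) η]
    [Presheaf.IsLocallyInjective (J S) θ] [Presheaf.IsLocallySurjective (J S) θ]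
    (hF : Presheaf.IsSheaf (J S) F') (hG : Presheaf.IsSheaf (J S) G') (sq : η ≫ a' = a ≫ θ)
    (h : IsRelLimitPreserving a) : IsRelLimitPreserving a' :=
  isRelLimitPreserving_iff.2
    ⟨liftsStage_of_locallyBijective hF sq (eqStage_of_isRelLimitPreserving h) hG
      (liftsStage_of_isRelLimitPreserving h),
    eqStage_of_locallyBijective hF sq (eqStage_of_isRelLimitPreserving h)⟩

/-- Sheafification preserves limit preservation. -/
theorem isLimitPreserving_of_locallyBijective {F F' : PSp S} (η : F ⟶ F')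
    [Presheaf.IsLocallyInjective (J S) η] [Presheaf.IsLocallySurjective (J S) η]
    (hF : Presheaf.IsSheaf (J S) F') (h : IsLimitPreserving F) : IsLimitPreserving F' := by
  obtain ⟨hl, he⟩ := (isLimitPreserving_iff F).1 h
  have sq : η ≫ toPt F' = toPt F ≫ 𝟙 (ptPSp S) := by ext; rfl
  exact (isLimitPreserving_iff F').2
    ⟨liftsStage_of_locallyBijective hF sq he isSheaf_ptPSp hl, eqStage_of_locallyBijective hF sq he⟩

section Local

variable {I : Type u} [SmallCategory I] [IsCofiltered I] (A : AffSys S I) {V : Over S}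
  (τ : A.D ⟶ (Functor.const I).obj V) (τ' : A.c.pt ⟶ V) (hτ : ∀ i, A.c.π.app i ≫ τ.app i = τ')

/-- A system over `S` mapping to `V`, as a system over `V`. -/
def sysOver : I ⥤ Over V.left where
  obj i := Over.mk (τ.app i).left
  map {i j} m := Over.homMk (A.D.map m).left (by
    show (A.D.map m).left ≫ (τ.app j).left = (τ.app i).left
    rw [← Over.comp_left, τ.naturality]
    simp)

/-- Its cone. -/
def coneOver : Cone (sysOver A τ) where
  pt := Over.mk τ'.left
  π :=
    { app := fun i => Over.homMk (A.c.π.app i).left (by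
        show (A.c.π.app i).left ≫ (τ.app i).left = τ'.left
        rw [← Over.comp_left, hτ])
      naturality := fun i j m => Over.OverMorphism.ext
        ((Category.id_comp _).trans (congrArg CommaMorphism.left (A.c.w m)).symm) }

/-- An object over `V` as an object over `S`. -/
def overIso {T : Over S} (t : T ⟶ V) : (Over.map V.hom).obj (Over.mk t.left) ≅ T :=
  Over.isoMk (Iso.refl _) ((Category.id_comp _).trans (Over.w t).symm)

include hτ in
theorem isColimit_of_restrict {F : PSp S}
    (h : IsLimitPreserving (S := V.left) ((Over.map V.hom).op ⋙ F)) :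
    Nonempty (IsColimit (F.mapCocone A.c.op)) := by
  obtain ⟨hcol⟩ := h (sysOver A τ) (coneOver A τ τ' hτ)
    (IsLimit.ofIsoLimit A.isLimit (Cone.ext (Iso.refl _))) A.aff A.affPt
  refine ⟨Types.FilteredColimit.isColimitOf' _ _ (fun x => ?_) (fun i x₁ x₂ he => ?_)⟩
  · obtain ⟨k, z, hz⟩ := Types.jointly_surjective _ hcol (F.map (overIso τ').hom.op x)
    refine ⟨k, F.map (overIso (τ.app k.unop)).inv.op z, ?_⟩
    have e : A.c.π.app k.unop ≫ (overIso (τ.app k.unop)).inv =
        (overIso τ').inv ≫ (Over.map V.hom).map ((coneOver A τ τ' hτ).π.app k.unop) :=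
      Over.OverMorphism.ext ((Category.comp_id _).trans (Category.id_comp _).symm)
    refine Eq.symm ((map_congr F e z).trans ((map_map_apply F _ _ z).symm.trans ?_))
    refine (congrArg (F.map (overIso τ').inv.op) hz).trans ((map_congr F (overIso τ').inv_hom_id x).trans ?_)
    simp
  · obtain ⟨k, f, g, hk⟩ := (Types.FilteredColimit.isColimit_eq_iff _ hcol (i := i) (j := i)
      (xi := F.map (overIso (τ.app i.unop)).hom.op x₁) (xj := F.map (overIso (τ.app i.unop)).hom.op x₂)).1 (by
        have e : (Over.map V.hom).map ((coneOver A τ τ' hτ).π.app i.unop) ≫ (overIso (τ.app i.unop)).hom =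
            (overIso τ').hom ≫ A.c.π.app i.unop :=
          Over.OverMorphism.ext ((Category.comp_id _).trans (Category.id_comp _).symm)
        exact (map_congr F e x₁).trans ((map_map_apply F _ _ x₁).symm.trans
          ((congrArg (F.map (overIso τ').hom.op) he).trans ((map_map_apply F _ _ x₂).trans (map_congr F e x₂).symm))))
    let l := IsCofiltered.eq f.unop g.unop
    let μ : l ⟶ k.unop := IsCofiltered.eqHom f.unop g.unop
    refine ⟨op l, (μ ≫ f.unop).op, ?_⟩
    have hh : ∀ (q : k.unop ⟶ i.unop) (x : F.obj (op (A.D.obj i.unop))),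
        F.map ((overIso (τ.app l)).inv ≫ (Over.map V.hom).map ((sysOver A τ).map μ)).op
          (F.map ((Over.map V.hom).map ((sysOver A τ).map q)).op (F.map (overIso (τ.app i.unop)).hom.op x)) =
          F.map (A.D.map (μ ≫ q)).op x := fun q x => by
      refine (map_map_apply F _ _ _).trans ((map_map_apply F _ _ x).trans ?_)
      refine congrArg (fun e => F.map (Quiver.Hom.op e) x) (Over.OverMorphism.ext ?_)
      simp [overIso, sysOver]
    have hk' := congrArg (F.map ((overIso (τ.app l)).inv ≫ (Over.map V.hom).map ((sysOver A τ).map μ)).op) hk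
    refine (hh f.unop x₁).symm.trans (hk'.trans ((hh g.unop x₂).trans ?_))
    rw [← IsCofiltered.eq_condition f.unop g.unop]
    rfl

end Local

/-- For sheaves, limit preservation is fppf local on the base. -/
theorem isLimitPreserving_of_local {F : PSp S} (hF : Presheaf.IsSheaf (J S) F) {ι : Type u}
    (V : ι → Over S) (hfl : ∀ j, Flat (V j).hom) (hfp : ∀ j, LocallyOfFinitePresentation (V j).hom)
    (hsurj : ∀ s : ↥S, ∃ (j : ι) (x : ↥(V j).left), (V j).hom.base x = s)
    (hloc : ∀ j, IsLimitPreserving (S := (V j).left) ((Over.map (V j).hom).op ⋙ F)) :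
    IsLimitPreserving F := by
  have hcov : ∀ T : Over S, IsAffine T.left → ∃ (n : Type u) (U : n → Over S) (u : ∀ p, U p ⟶ T),
      IsAffCover U u ∧ ∀ p, ∃ j, Nonempty (U p ⟶ V j) := fun T hT => by
    have hmem : Sieve.ofArrows (fun j => Over.mk (pullback.fst T.hom (V j).hom ≫ T.hom))
        (fun j => (Over.homMk (pullback.fst T.hom (V j).hom) :
          Over.mk (pullback.fst T.hom (V j).hom ≫ T.hom) ⟶ T)) ∈ J S T := by
      rw [GrothendieckTopology.mem_over_iff]
      refine GrothendieckTopology.superset_covering _ ?_ (Precoverage.generate_mem_toGrothendieck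
        (R := Presieve.ofArrows (fun j => pullback T.hom (V j).hom)
          (fun j => pullback.fst T.hom (V j).hom))
        ((Scheme.ofArrows_mem_precoverage_iff _).2 ⟨fun t => ?_, fun j =>
          ⟨MorphismProperty.pullback_fst _ _ (hfl j), MorphismProperty.pullback_fst _ _ (hfp j)⟩⟩))
      · rw [Sieve.generate_le_iff]
        rintro _ _ ⟨a⟩
        exact ⟨_, (Over.homMk (pullback.fst T.hom (V a).hom) :
          Over.mk (pullback.fst T.hom (V a).hom ≫ T.hom) ⟶ T), 𝟙 _, ⟨_, 𝟙 _, _, ⟨a⟩, by simp⟩, by simp⟩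
      · obtain ⟨j, x, hx⟩ := hsurj (T.hom.base t)
        obtain ⟨z, hz, -⟩ := Scheme.Pullback.exists_preimage_pullback (f := T.hom) (g := (V j).hom) t x hx.symm
        exact ⟨j, z, hz⟩
    obtain ⟨n, U, u, hU, hUs⟩ := exists_affCover_of_mem hmem
    refine ⟨n, U, u, hU, fun p => ?_⟩
    obtain ⟨_, g, _, ⟨j⟩, -⟩ := hUs p
    exact ⟨j, ⟨g ≫ Over.homMk (pullback.snd T.hom (V j).hom) pullback.condition.symm⟩⟩
  have key : ∀ ⦃I : Type u⦄ [SmallCategory I] [IsCofiltered I] (A : AffSys S I) (i : I) {W : Over S}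
      (f : W ⟶ A.D.obj i) [IsAffine W.left] (j : ι) (t : W ⟶ V j),
      Nonempty (IsColimit (F.mapCocone (A.pull i f).c.op)) := fun I _ _ A i W f _ j t =>
    isColimit_of_restrict (A.pull i f)
      { app := fun k => stageSnd A i f k ≫ t
        naturality := fun k l m => by
          show (A.pull i f).D.map m ≫ stageSnd A i f l ≫ t = (stageSnd A i f k ≫ t) ≫ 𝟙 _
          rw [Category.comp_id, ← Category.assoc, map_stageSnd] }
      (limSnd A i f ≫ t) (fun k => by
        show (A.pull i f).c.π.app k ≫ stageSnd A i f k ≫ t = _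
        rw [← Category.assoc, π_stageSnd]) (hloc j)
  have he : EqStage (toPt F) := fun I _ _ A i x₁ x₂ _ hx => by
    obtain ⟨n, U, u, hU, hUt⟩ := hcov (A.D.obj i) (A.aff i)
    refine eqAt_of_cover A hF hU x₁ x₂ fun p => ?_
    have := hU.aff p
    obtain ⟨j, ⟨t⟩⟩ := hUt p
    obtain ⟨hcol⟩ := key A i (u p) j t
    obtain ⟨k, f, g, hk⟩ := (Types.FilteredColimit.isColimit_eq_iff _ hcol
      (i := op (Over.mk (𝟙 i))) (j := op (Over.mk (𝟙 i)))
      (xi := F.map (stageFst A i (u p) (Over.mk (𝟙 i))).op x₁)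
      (xj := F.map (stageFst A i (u p) (Over.mk (𝟙 i))).op x₂)).1 (by
        refine (map_congr F (π_stageFst A i (u p) (Over.mk (𝟙 i))) x₁).trans
          (Eq.trans ?_ (map_congr F (π_stageFst A i (u p) (Over.mk (𝟙 i))) x₂).symm)
        exact (map_map_apply F _ _ x₁).symm.trans ((congrArg (F.map _) hx).trans (map_map_apply F _ _ x₂)))
    have hfg : f.unop = g.unop := Over.mkIdTerminal.hom_ext _ _
    refine ⟨k.unop, f.unop, hk.trans ?_⟩
    rw [hfg]
    rfl
  refine (isLimitPreserving_iff F).2 ⟨fun I _ _ A i y x _ => ?_, he⟩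
  obtain ⟨n, U, u, hU, hUt⟩ := hcov (A.D.obj i) (A.aff i)
  refine liftAt_of_cover A hF isSheaf_ptPSp he hU y x fun p => ?_
  have := hU.aff p
  obtain ⟨j, ⟨t⟩⟩ := hUt p
  obtain ⟨hcol⟩ := key A i (u p) j t
  obtain ⟨k, z, hz⟩ := Types.jointly_surjective _ hcol (F.map (limFst A i (u p)).op x)
  exact ⟨k.unop, Over.mkIdTerminal.from k.unop, z, hz, rfl⟩

end Groth.SpLimit
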