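import Groth.Agent.SpLimit.Charts
import Groth.Agent.AlgSpBasic.Immersion
import Groth.Agent.AlgSpBasic.LocPInst
import Groth.Agent.SpectralTopology.FpCancel
import Groth.Agent.Limits.DescentStage

/-!
# Properties holding eventually in systems of algebraic spaces
-/

set_option autoImplicit false
set_option backward.isDefEq.respectTransparency false
set_option backward.isDefEq.respectTransparency.types false

universe u

open CategoryTheory CategoryTheory.Limits AlgebraicGeometry Opposite AlgSp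
open Groth.AlgSpBasic

noncomputable section

namespace Groth.SpLimit

variable {S : Scheme.{u}} {I : Type u} [SmallCategory I] [IsCofiltered I]

section

variable {D : I ⥤ Sp S} {c : Cone D}

/-- Projections of a limit with monomorphic transition maps are monomorphisms. -/
theorem mono_π (hc : IsLimit c) (i : I) (h : ∀ (k : Over i), Mono (D.map k.hom)) : Mono (c.π.app i) :=
  ⟨fun a b e => hom_ext_over hc i fun k => by
    have := h k
    rw [← cancel_mono (D.map k.hom), Category.assoc, Category.assoc, c.w]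
    exact e⟩

theorem map_comp_app (B : Sp S) (t : D ⟶ (Functor.const I).obj B) {i j : I} (φ : i ⟶ j) :
    D.map φ ≫ t.app j = t.app i := by
  simpa using t.naturality φ

theorem locP_cone_π (B : Sp S) (t : D ⟶ (Functor.const I).obj B) {i₁ : I} (k : Over i₁) :
    c.π.app k.left ≫ t.app k.left = c.π.app i₁ ≫ t.app i₁ := by
  rw [← c.w k.hom, Category.assoc, map_comp_app B t k.hom]

end

variable (D : I ⥤ Sp S) (hD : ∀ i, IsAlgSpace (D.obj i)) {B : Sp S} (hB : IsAlgSpace B)
  (t : D ⟶ (Functor.const I).obj B) {c : Cone D} (hc : IsLimit c) (i₁ : I)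

include hD hB hc

theorem exists_isIso_π (hDc : ∀ (i j : I) (φ : i ⟶ j), RepWith @IsClosedImmersion (D.map φ))
    (hqc : ∀ i, IsQuasiCompactSp (D.obj i)) (hft : ∀ i, LocP @LocallyOfFiniteType (t.app i))
    (hX : LocP @LocallyOfFinitePresentation (c.π.app i₁ ≫ t.app i₁)) :
    ∃ i₀ : I, ∀ (i : I) (_ : i ⟶ i₀), IsIso (c.π.app i) := by
  have hDa : ∀ (i j : I) (φ : i ⟶ j), IsAffineMor (D.map φ) := fun i j φ =>
    isAffineMor_iff_repWith.2 (repWith_mono
      (fun _ _ f (_ : IsClosedImmersion f) => (inferInstance : IsAffineHom f)) (hDc i j φ))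
  have hXsp : IsAlgSpace c.pt := isAlgSpace_pt D hDa hc hD
  have hDm : ∀ (i j : I) (φ : i ⟶ j), Mono (D.map φ) := fun i j φ =>
    mono_of_repWith (fun _ _ g (_ : IsClosedImmersion g) => (inferInstance : Mono g)) (hDc i j φ)
  obtain ⟨T, g, hT, he, hs⟩ := exists_affine_chart (hD i₁) (hqc i₁)
  obtain ⟨P⟩ := nonempty_pullSys D hDa hc i₁ g
  let A := P.affSys
  let k₀ : Over i₁ := Over.mk (𝟙 i₁)
  have hfp : ∀ k, LocallyOfFinitePresentation (P.L.π.app k).left := fun k => by
    have h₁ : LocP @LocallyOfFinitePresentation (c.π.app k.left) :=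
      locP_of_comp_of_cancel' (Q := @LocallyOfFiniteType)
        (fun _ _ _ f g (_ : LocallyOfFinitePresentation (f ≫ g)) (_ : LocallyOfFiniteType g) =>
          Groth.SpectralTopology.lfp_of_comp f g)
        hXsp (hD k.left) hB (g := t.app k.left) (by rw [locP_cone_π B t k]; exact hX) (hft k.left)
    exact (repWith_of_locP (hD k.left) (repWith_isAffineHom_π D hDa hc k.left).rep h₁).property
      _ _ _ (P.sq_π k)
  have hEc : ∀ k : Over i₁, IsClosedImmersion (P.q k).left := fun k =>
    (hDc _ _ k.hom).property _ _ _ (P.sq k)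
  have hEm : ∀ {k l : Over i₁} (m : k ⟶ l), Mono (P.E.map m).left := fun {k l} m => by
    have : IsClosedImmersion ((P.E.map m).left ≫ (P.q l).left) := by
      rw [← Over.comp_left, P.map_q m]; exact hEc k
    have := hEc l
    have := IsClosedImmersion.of_comp (P.E.map m).left (P.q l).left
    infer_instance
  obtain ⟨j, φ, s, hs₁, hs₂⟩ := exists_factor_stage A (i := k₀) (A.c.π.app k₀) (hfp k₀)
    (𝟙 _) (Category.id_comp _)
  have hiso : ∀ (l : Over i₁) (m : l ⟶ j), IsIso (P.L.π.app l) := fun l m => by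
    have := hEm (m ≫ φ)
    have : Mono (P.E.map (m ≫ φ)) := (Over.forget S).mono_of_mono_map this
    refine ⟨P.E.map m ≫ s, ?_, ?_⟩
    · rw [← Category.assoc, P.L.w m]; exact hs₂
    · rw [← cancel_mono (P.E.map (m ≫ φ)), Category.id_comp, Category.assoc, Category.assoc, P.L.w,
        Functor.map_comp]
      exact congrArg (P.E.map m ≫ ·) hs₁
  refine ⟨j.left, fun i ψ => ?_⟩
  let l : Over i₁ := Over.mk (ψ ≫ j.hom)
  have := hiso l (Over.homMk ψ)
  have : Mono (c.π.app i) := mono_π hc i fun k => hDm _ _ k.hom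
  refine isIso_of_mono_of_chart (P.repWith_p he l) (P.repWith_p hs l)
    (l := (yon S).map (CategoryTheory.inv (P.L.π.app l)) ≫ P.top) ?_
  refine (Category.assoc _ _ _).trans ?_
  refine (congrArg ((yon S).map (CategoryTheory.inv (P.L.π.app l)) ≫ ·) (P.top_π l)).trans ?_
  rw [← Category.assoc, ← Functor.map_comp, IsIso.inv_hom_id]
  simp

omit hD hB hc in
theorem isClosedImmersion_of_stage {k l : Over i₁} {c' : Cone D} {T : Over S}
    {g : (yon S).obj T ⟶ D.obj i₁} (P : PullSys c' i₁ g) (m : l ⟶ k) {W : Over S} (h : W ⟶ P.L.pt)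
    (hk : IsClosedImmersion (h ≫ P.L.π.app k).left) : IsClosedImmersion (h ≫ P.L.π.app l).left := by
  have := P.aff_map m
  have : IsClosedImmersion ((h ≫ P.L.π.app l).left ≫ (P.E.map m).left) := by
    rw [← Over.comp_left, Category.assoc, P.L.w]; exact hk
  exact IsClosedImmersion.of_comp _ (P.E.map m).left

theorem exists_repWith_isClosedImmersion (hDa : ∀ (i j : I) (φ : i ⟶ j), IsAffineMor (D.map φ))
    (hqc : ∀ i, IsQuasiCompactSp (D.obj i)) {Y : Sp S} (hY : IsAlgSpace Y) (y : Y ⟶ c.pt)
    (hy : RepWith @IsClosedImmersion y) (hYB : LocP @LocallyOfFiniteType (y ≫ c.π.app i₁ ≫ t.app i₁)) :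
    ∃ i₀ : I, ∀ (i : I) (_ : i ⟶ i₀), RepWith @IsClosedImmersion (y ≫ c.π.app i) := by
  obtain ⟨T, g, hT, he, hs⟩ := exists_affine_chart (hD i₁) (hqc i₁)
  obtain ⟨P⟩ := nonempty_pullSys D hDa hc i₁ g
  let A := P.affSys
  obtain ⟨W, h, fst, sq⟩ := hy.rep P.top
  have hh : IsClosedImmersion h.left := hy.property _ _ _ sq
  have hW : ∀ k : Over i₁, IsPullback fst ((yon S).map (h ≫ P.L.π.app k)) (y ≫ c.π.app k.left) (P.p k) :=
    fun k => by rw [Functor.map_comp]; exact sq.paste_vert (P.sq_π k)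
  have hft : ∀ k : Over i₁, LocallyOfFiniteType (h ≫ P.L.π.app k).left := fun k => by
    have h₁ : LocP @LocallyOfFiniteType (y ≫ c.π.app k.left) :=
      locP_of_comp_of_cancel (fun _ _ _ f g (_ : LocallyOfFiniteType (f ≫ g)) =>
          locallyOfFiniteType_of_comp f g) hY (hD k.left) hB (g := t.app k.left)
        (by rw [Category.assoc, locP_cone_π B t k]; exact hYB)
    exact (repWith_of_locP (hD k.left) (MorphismProperty.comp_mem _ _ _ hy.rep
      (repWith_isAffineHom_π D hDa hc k.left).rep) h₁).property _ _ _ (hW k)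
  have : ∀ k, CompactSpace ((P.E ⋙ Over.forget S).obj k) := fun k =>
    have : IsAffine ((P.E ⋙ Over.forget S).obj k) := A.aff k
    inferInstance
  obtain ⟨k, hk⟩ := Groth.Limits.exists_isClosedImmersion_comp_π (D := P.E ⋙ Over.forget S) P.isLimit
    h.left hh hft
  refine ⟨k.left, fun i ψ => ?_⟩
  let l : Over i₁ := Over.mk (ψ ≫ k.hom)
  have hl : IsClosedImmersion (h ≫ P.L.π.app l).left :=
    isClosedImmersion_of_stage D i₁ P (Over.homMk ψ : l ⟶ k) h hk
  refine repWith_of_affWith (affWith_of_cover (hD i) (P.repWith_p he l) (P.repWith_p hs l) (hW l)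
    (affWith_of_repWith (fun _ _ f (_ : IsClosedImmersion f) => (inferInstance : IsAffineHom f))
      ((repWith_yon_map_iff _ _).2 hl)))

end Groth.SpLimit
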