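import Groth.Agent.SpLimit.MonoEventual
import Groth.Agent.AlgSpBasic.ImmersionDescent
import Groth.Agent.AlgSpBasic.OpenSub
import Groth.Agent.AlgSp2.ImmersionLocality

/-!
# Immersions into limits are eventually immersions
-/

set_option autoImplicit false
set_option backward.isDefEq.respectTransparency false
set_option backward.isDefEq.respectTransparency.types false

universe u

open CategoryTheory CategoryTheory.Limits AlgebraicGeometry Opposite AlgSp
open Groth.AlgSpBasic

noncomputable section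

namespace Groth.SpLimit

variable {S : Scheme.{u}}

/-- An affine étale map covering a given compact set of points. -/
theorem exists_affine_etale_over {X : Sp S} (hX : IsAlgSpace X) {s : Set (Points X)} (hs : IsCompact s) :
    ∃ (T : Over S) (g : (yon S).obj T ⟶ X), IsAffine T.left ∧ RepWith @Etale g ∧
      s ⊆ Set.range (Points.ofPt g) := by
  obtain ⟨U, p, he, hps⟩ := hX.atlas
  let 𝒰 := U.left.affineCover
  have hcov : s ⊆ ⋃ i, Points.ofPt p '' ((𝒰.f i).opensRange : Set ↥U.left) := by
    intro x _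
    obtain ⟨u, rfl⟩ := surjective_ofPt_of_repWith hps x
    obtain ⟨i, y, hy⟩ := 𝒰.exists_eq u
    exact Set.mem_iUnion.2 ⟨i, u, ⟨y, hy⟩, rfl⟩
  obtain ⟨t, ht⟩ := hs.elim_finite_subcover _
    (fun i => isOpenMap_ofPt_of_etale he _ (𝒰.f i).opensRange.isOpen) hcov
  let K : U.left.Opens := ⨆ i ∈ t, (𝒰.f i).opensRange
  have hK : IsCompact (K : Set ↥U.left) := by
    simp only [K, TopologicalSpace.Opens.coe_iSup]
    exact t.finite_toSet.isCompact_biUnion fun i _ => isCompact_range (𝒰.f i).continuous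
  have : CompactSpace ↥K.toScheme := isCompact_iff_compactSpace.1 hK
  obtain ⟨Y, φ, hφs, hφe, hY⟩ := K.toScheme.exists_hom_isAffine_of_isZariskiLocalAtSource @Etale
  let j : Over.mk ((φ ≫ K.ι) ≫ U.hom) ⟶ U := Over.homMk (φ ≫ K.ι)
  have hj : RepWith @Etale ((yon S).map j) :=
    (repWith_yon_map_iff _ j).2 (show Etale (φ ≫ K.ι) from inferInstance)
  refine ⟨_, (yon S).map j ≫ p, hY, repWith_comp hj he, fun x hx => ?_⟩
  obtain ⟨i, hi, u, hu, rfl⟩ := Set.mem_iUnion₂.1 (ht hx)
  obtain ⟨v, hv⟩ := φ.surjective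
    ⟨u, TopologicalSpace.Opens.mem_iSup.2 ⟨i, TopologicalSpace.Opens.mem_iSup.2 ⟨hi, hu⟩⟩⟩
  refine ⟨v, ?_⟩
  rw [ofPt_comp_yon]
  exact congrArg (Points.ofPt p) (congrArg (fun z => K.ι z) hv)

variable {I : Type u} [SmallCategory I] [IsCofiltered I]

/-- An immersion into an affine limit, of finite type over the stages, is an immersion at a stage. -/
theorem AffSys.exists_isImmersion (A : AffSys S I) {Z : Scheme.{u}} [CompactSpace Z]
    (h : Z ⟶ A.c.pt.left) [IsImmersion h]
    (hft : ∀ i, LocallyOfFiniteType (h ≫ (A.c.π.app i).left)) :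
    ∃ i, IsImmersion (h ≫ (A.c.π.app i).left) := by
  obtain ⟨O, hO, hrO, hOle⟩ : ∃ O : A.c.pt.left.Opens, IsCompact (O : Set A.c.pt.left) ∧
      Set.range h ⊆ O ∧ O ≤ h.coborderRange := by
    have hr : IsCompact (Set.range h) := isCompact_range h.continuous
    have hsub : Set.range h ⊆ (h.coborderRange : Set A.c.pt.left) := subset_coborder
    obtain ⟨t, ht, htf, hrt⟩ : ∃ t : Set (A.c.pt.left.Opens),
        (∀ V ∈ t, IsAffineOpen V ∧ V ≤ h.coborderRange) ∧ t.Finite ∧ Set.range h ⊆ ⋃ V ∈ t, (V : Set _) := by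
      obtain ⟨t, htf, htc, ht⟩ := hr.elim_finite_subcover_image
        (b := {V : A.c.pt.left.Opens | IsAffineOpen V ∧ V ≤ h.coborderRange})
        (c := fun V => (V : Set A.c.pt.left)) (fun V _ => V.isOpen) (by
          intro x hx
          obtain ⟨V, hV, hxV, hVle⟩ := TopologicalSpace.Opens.isBasis_iff_nbhd.mp
            A.c.pt.left.isBasis_affineOpens (hsub hx)
          exact Set.mem_iUnion₂.2 ⟨V, ⟨hV, hVle⟩, hxV⟩)
      exact ⟨t, fun V hV => htf hV, htc, ht⟩
    refine ⟨⨆ V ∈ t, V, ?_, ?_, iSup₂_le fun V hV => (ht V hV).2⟩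
    · simp only [TopologicalSpace.Opens.coe_iSup]
      exact htf.isCompact_biUnion fun V hV => (ht V hV).1.isCompact
    · simp only [TopologicalSpace.Opens.coe_iSup]; exact hrt
  have hO' : Set.range h ⊆ Set.range O.ι := by rwa [Scheme.Opens.range_ι]
  let h' : Z ⟶ O.toScheme := IsOpenImmersion.lift O.ι h hO'
  have hh' : h' ≫ O.ι = h := IsOpenImmersion.lift_fac _ _ _
  have : IsImmersion (h' ≫ O.ι) := by rw [hh']; infer_instance
  have : IsImmersion h' := IsImmersion.of_comp h' O.ι
  have hcl : IsClosed (Set.range h') := by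
    have e : Set.range h' = O.ι ⁻¹' (closure (Set.range h)) := by
      ext x
      constructor
      · rintro ⟨z, rfl⟩
        exact subset_closure ⟨z, by rw [← Scheme.Hom.comp_apply, hh']⟩
      · intro hx
        obtain ⟨z, hz⟩ : O.ι x ∈ Set.range h := by
          have hxc : O.ι x ∈ coborder (Set.range h) := hOle x.2
          rw [← closure_inter_coborder (s := Set.range h)]
          exact ⟨hx, hxc⟩
        exact ⟨z, O.ι.isOpenEmbedding.injective (by rw [← Scheme.Hom.comp_apply, hh']; exact hz)⟩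
    rw [e]
    exact isClosed_closure.preimage O.ι.continuous
  have hci : IsClosedImmersion h' := Groth.AlgSp2.isClosedImmersion_of_isImmersion h' hcl
  obtain ⟨i, V, hV, hVO⟩ := exists_preimage_eq (A.D ⋙ Over.forget S) _ A.isLimit O hO
  subst hVO
  let E := opensDiagram (A.D ⋙ Over.forget S) i V
  have : ∀ (k l : Over i) (m : k ⟶ l), IsAffineHom (E.map m) := fun k l m => inferInstance
  have : ∀ k, CompactSpace (E.obj k) := fun k =>
    isCompact_iff_compactSpace.mp (QuasiCompact.isCompact_preimage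
      (f := (A.D ⋙ Over.forget S).map k.hom) _ V.isOpen hV)
  have hft' : ∀ k : Over i, LocallyOfFiniteType
      (h' ≫ (opensCone (A.D ⋙ Over.forget S) ((Over.forget S).mapCone A.c) i V).π.app k) := fun k => by
    have := hft k.left
    have : LocallyOfFiniteType
        ((h' ≫ (opensCone (A.D ⋙ Over.forget S) ((Over.forget S).mapCone A.c) i V).π.app k) ≫
          ((A.D ⋙ Over.forget S).map k.hom ⁻¹ᵁ V).ι) := by
      rw [Category.assoc]
      erw [Scheme.Hom.resLE_comp_ι, ← Category.assoc, hh']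
      exact hft k.left
    exact locallyOfFiniteType_of_comp _ ((A.D ⋙ Over.forget S).map k.hom ⁻¹ᵁ V).ι
  obtain ⟨k, hk⟩ := Groth.Limits.exists_isClosedImmersion_comp_π
    (isLimitOpensCone (A.D ⋙ Over.forget S) _ A.isLimit i V) h' hci hft'
  refine ⟨k.left, ?_⟩
  have : IsImmersion ((h' ≫ (opensCone (A.D ⋙ Over.forget S) ((Over.forget S).mapCone A.c) i V).π.app k) ≫
      ((A.D ⋙ Over.forget S).map k.hom ⁻¹ᵁ V).ι) :=
    have := hk
    MorphismProperty.comp_mem @IsImmersion _ _ inferInstance inferInstance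
  rw [Category.assoc] at this
  erw [Scheme.Hom.resLE_comp_ι, ← Category.assoc, hh'] at this
  exact this

theorem exists_repWith_isImmersion [QuasiSeparatedSpace S] {D : I ⥤ Sp S} {c : Cone D} (hc : IsLimit c)
    (hD : ∀ i, IsAlgSpace (D.obj i)) (hDa : ∀ (i j : I) (φ : i ⟶ j), IsAffineMor (D.map φ))
    (hqs : ∀ i, IsQuasiSeparatedSp (D.obj i)) {B : Sp S} (hB : IsAlgSpace B)
    (t : D ⟶ (Functor.const I).obj B) {Y : Sp S} (hY : IsAlgSpace Y) (hYqc : IsQuasiCompactSp Y)
    (y : Y ⟶ c.pt) (hy : RepWith @IsImmersion y) (i₁ : I)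
    (hYB : LocP @LocallyOfFiniteType (y ≫ c.π.app i₁ ≫ t.app i₁)) :
    ∃ i₀ : I, ∀ (i : I) (_ : i ⟶ i₀), RepWith @IsImmersion (y ≫ c.π.app i) := by
  have := (isQuasiCompactSp_iff_compactSpace hY).1 hYqc
  obtain ⟨T, g, hT, he, hrange⟩ := exists_affine_etale_over (hD i₁)
    (isCompact_range (Points.continuous_map (y ≫ c.π.app i₁)))
  obtain ⟨P⟩ := nonempty_pullSys D hDa hc i₁ g
  let A := P.affSys
  obtain ⟨Z, h, fst, sq⟩ := hy.rep P.top
  have hh : IsImmersion h.left := hy.property _ _ _ sq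
  have hW : ∀ k : Over i₁, IsPullback fst ((yon S).map (h ≫ P.L.π.app k)) (y ≫ c.π.app k.left) (P.p k) :=
    fun k => by rw [Functor.map_comp]; exact sq.paste_vert (P.sq_π k)
  have hft : ∀ k : Over i₁, LocallyOfFiniteType (h ≫ P.L.π.app k).left := fun k => by
    have h₁ : LocP @LocallyOfFiniteType (y ≫ c.π.app k.left) :=
      locP_of_comp_of_cancel (fun _ _ _ f g (_ : LocallyOfFiniteType (f ≫ g)) =>
          locallyOfFiniteType_of_comp f g) hY (hD k.left) hB (g := t.app k.left)
        (by rw [Category.assoc, locP_cone_π B t k]; exact hYB)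
    exact (repWith_of_locP (hD k.left) (MorphismProperty.comp_mem _ _ _ hy.rep
      (repWith_isAffineHom_π D hDa hc k.left).rep) h₁).property _ _ _ (hW k)
  have : CompactSpace Z.left := by
    obtain ⟨V, a, hV, hae, has⟩ := exists_affine_chart hY hYqc
    obtain ⟨R, b₁, b₂, hR⟩ := exists_pullback_of_diag (hD i₁).diag (a ≫ y ≫ c.π.app i₁) g
    have := compactSpace_pullback_of_qs (hqs i₁) hR
    have sqT : IsPullback fst ((yon S).map (h ≫ P.bot)) (y ≫ c.π.app i₁) g := by
      rw [Functor.map_comp]; exact sq.paste_vert P.sqTop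
    obtain ⟨r, hr⟩ := (yon S).map_surjective (sqT.lift ((yon S).map b₁ ≫ a) ((yon S).map b₂)
      (by rw [Category.assoc]; exact hR.w))
    have sqR : IsPullback ((yon S).map b₁) ((yon S).map r) a fst := by
      refine IsPullback.of_bot ?_ (by rw [hr, sqT.lift_fst]) sqT
      rw [hr, sqT.lift_snd]
      exact hR
    have : Surjective r.left := (repWith_yon_map_iff _ r).1 (repWith_of_isPullback sqR has)
    exact r.left.surjective.compactSpace r.left.continuous
  obtain ⟨k, hk⟩ := A.exists_isImmersion h.left hft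
  refine ⟨k.left, fun i ψ => ?_⟩
  let l : Over i₁ := Over.mk (ψ ≫ k.hom)
  have hl : IsImmersion (h ≫ P.L.π.app l).left := by
    let m : l ⟶ k := Over.homMk ψ rfl
    have : IsImmersion ((h ≫ P.L.π.app l).left ≫ (P.E.map m).left) := by
      rw [← Over.comp_left, Category.assoc, P.L.w]
      exact hk
    exact IsImmersion.of_comp _ (P.E.map m).left
  let W : Set (Points (D.obj i)) := Points.map (D.map l.hom) ⁻¹' Set.range (Points.ofPt g)
  have hWo : IsOpen W := by
    refine IsOpen.preimage (Points.continuous_map _) ?_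
    rw [← Set.image_univ]
    exact isOpenMap_ofPt_of_etale he _ isOpen_univ
  let ι := openSubι (D.obj i) W
  have hι : RepWith @IsOpenImmersion ι := repWith_openSubι hWo
  have hO : IsAlgSpace (openSub (D.obj i) W) := isAlgSpace_openSub (hD i) hWo
  have : Mono ι := mono_of_repWith (fun _ _ g (_ : IsOpenImmersion g) => inferInstance) hι
  have hfr : Set.range (Points.map (y ≫ c.π.app i)) ⊆ Set.range (Points.map ι) := by
    rw [range_map_openSubι]
    rintro _ ⟨x, rfl⟩
    refine Set.mem_preimage.2 ?_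
    rw [← Points.map_comp, Category.assoc, c.w]
    exact hrange ⟨x, rfl⟩
  obtain ⟨f', hf'⟩ := exists_lift_of_range_openImmersion hY hι (y ≫ c.π.app i) hfr
  obtain ⟨p', hp'⟩ := exists_lift_of_range_openImmersion (IsAlgSpace.yon_obj _) hι (P.p l) (by
    rw [range_map_openSubι]
    rintro _ ⟨x, rfl⟩
    obtain ⟨z, rfl⟩ := (Points.schemeEquiv (P.E.obj l)).surjective x
    show Points.map (D.map l.hom) _ ∈ Set.range (Points.ofPt g)
    refine ⟨(P.q l).left z, ?_⟩
    rw [← ofPt_comp_yon, ← (P.sq l).w, ← Points.map_ofPt]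
    exact (congrArg _ (ofPt_eq_map (P.p l) z)))
  have sqp : IsPullback (𝟙 _) p' (P.p l) ι := by
    refine ⟨⟨by rw [hp', Category.id_comp]⟩, ⟨PullbackCone.IsLimit.mk _ (fun s => s.fst)
      (fun s => Category.comp_id _) (fun s => ?_) (fun s m h₁ _ => ?_)⟩⟩
    · rw [← cancel_mono ι, Category.assoc, hp']; exact s.condition
    · rw [← h₁, Category.comp_id]
  have hp'e : RepWith @Etale p' := repWith_of_isPullback sqp (P.repWith_p he l)
  have hp's : RepWith @Surjective p' := repWith_surjective_of_ofPt hp'e.rep fun x => by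
    have hx : Points.map ι x ∈ W := (range_map_openSubι (X := D.obj i) (W := W)).le ⟨x, rfl⟩
    obtain ⟨s, hs⟩ := hx
    obtain ⟨z, hz, -⟩ := (map_eq_ofPt_iff (P.sq l) (Points.map ι x) s).1 hs.symm
    refine ⟨z, ?_⟩
    have : Function.Injective (Points.map ι) := (isEmbedding_map_of_immersion (hD i)
      (repWith_mono (fun _ _ g (_ : IsOpenImmersion g) => (inferInstance : IsImmersion g)) hι)).1.injective
    apply this
    rw [Points.map_ofPt, hp', hz]
  have sq' : IsPullback fst ((yon S).map (h ≫ P.L.π.app l)) f' p' := by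
    refine ⟨⟨?_⟩, ⟨PullbackCone.IsLimit.mk _ (fun s => (hW l).lift s.fst s.snd ?_) (fun s => ?_)
      (fun s => ?_) (fun s m h₁ h₂ => ?_)⟩⟩
    · rw [← cancel_mono ι, Category.assoc, Category.assoc, hf', hp']; exact (hW l).w
    · exact (congrArg (s.fst ≫ ·) hf'.symm).trans (((Category.assoc _ _ _).symm.trans
        ((congrArg (· ≫ ι) s.condition).trans (Category.assoc _ _ _))).trans (congrArg (s.snd ≫ ·) hp'))
    · exact IsPullback.lift_fst _ _ _ _
    · exact IsPullback.lift_snd _ _ _ _
    · apply (hW l).hom_ext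
      · rw [IsPullback.lift_fst, h₁]
      · rw [IsPullback.lift_snd, h₂]
  rw [← hf']
  exact repWith_comp (repWith_isImmersion_of_cover hY hO hp'e hp's sq' ((repWith_yon_map_iff _ _).2 hl))
    (repWith_mono (fun _ _ g (_ : IsOpenImmersion g) => (inferInstance : IsImmersion g)) hι)

end Groth.SpLimit
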