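import Groth.Agent.SpLimit.AffineRows
import Groth.Agent.Limits.DescentStage

/-!
# Properties of affine morphisms descend along limits
-/

set_option autoImplicit false
set_option backward.isDefEq.respectTransparency false
set_option backward.isDefEq.respectTransparency.types false

universe u

open CategoryTheory CategoryTheory.Limits AlgebraicGeometry Opposite AlgSp
open Groth.AlgSpBasic

noncomputable section

namespace Groth.SpLimit

variable {S : Scheme.{u}}

/-- A property of affine schemes over a stage holding in the limit holds at a later stage. -/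
def DescendsStage (P Q : MorphismProperty Scheme.{u}) (S : Scheme.{u}) : Prop :=
  ∀ ⦃J : Type u⦄ [SmallCategory J] [IsCofiltered J] (A : AffSys S J) (i : J) (W : Over S)
    (w : W ⟶ A.D.obj i) [IsAffine W.left], LocallyOfFiniteType w.left →
    P (pullback.snd w (A.c.π.app i)).left →
    ∃ (j : J) (φ : j ⟶ i), Q (pullback.snd w (A.D.map φ)).left

theorem prop_snd_left {Q : MorphismProperty Scheme.{u}} [Q.IsStableUnderBaseChange] {W E E' : Over S}
    (w : W ⟶ E) (e : E' ⟶ E)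
    (h : Q (pullback.snd w.left (pullback.snd e.left (𝟙 E.left)))) : Q (pullback.snd w e).left := by
  let r : E'.left ⟶ pullback e.left (𝟙 E.left) := pullback.lift (𝟙 _) e.left (by simp)
  have hr : r ≫ pullback.snd e.left (𝟙 E.left) = e.left := pullback.lift_snd _ _ _
  have sq : IsPullback (pullback.fst w e).left (pullback.snd w e).left w.left
      (r ≫ pullback.snd e.left (𝟙 E.left)) := by
    rw [hr]; exact (IsPullback.of_hasPullback w e).map (Over.forget S)
  have sq₀ := IsPullback.of_hasPullback w.left (pullback.snd e.left (𝟙 E.left))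
  exact Q.of_isPullback (IsPullback.of_right (by rw [sq₀.lift_fst]; exact sq)
    (sq₀.lift_snd (pullback.fst w e).left ((pullback.snd w e).left ≫ r)
      (by rw [Category.assoc]; exact sq.w)) sq₀) h

theorem descendsStage_isClosedImmersion : DescendsStage @IsClosedImmersion @IsClosedImmersion S := by
  intro J _ _ A i W w _ hw h
  have : IsAffine (A.D.obj i).left := A.aff i
  have : LocallyOfFiniteType w.left := hw
  have : IsClosedImmersion ((Over.forget S).map (pullback.snd w (A.c.π.app i))) := h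
  obtain ⟨j, hj⟩ := Groth.Limits.exists_isClosedImmersion_stage (D := A.D ⋙ Over.forget S)
    (f₀ := w.left) (g₀ := 𝟙 (A.D.obj i).left) A.isLimit
    (IsPullback.of_vert_isIso ⟨by simp⟩ :
      IsPullback (A.c.π.app i).left (𝟙 _) (𝟙 (A.D.obj i).left) (A.c.π.app i).left)
    ((IsPullback.of_hasPullback w (A.c.π.app i)).map (Over.forget S))
  exact ⟨j.left, j.hom, prop_snd_left w _ hj⟩

theorem descendsStage_isFinite : DescendsStage @IsIntegralHom @IsFinite S := by
  intro J _ _ A i W w _ hw h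
  have : IsAffine (A.D.obj i).left := A.aff i
  have : LocallyOfFiniteType w.left := hw
  have : IsIntegralHom ((Over.forget S).map (pullback.snd w (A.c.π.app i))) := h
  obtain ⟨j, hj⟩ := Groth.Limits.exists_isFinite_stage (D := A.D ⋙ Over.forget S)
    (f₀ := w.left) (g₀ := 𝟙 (A.D.obj i).left) A.isLimit
    (IsPullback.of_vert_isIso ⟨by simp⟩ :
      IsPullback (A.c.π.app i).left (𝟙 _) (𝟙 (A.D.obj i).left) (A.c.π.app i).left)
    ((IsPullback.of_hasPullback w (A.c.π.app i)).map (Over.forget S))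
  exact ⟨j.left, j.hom, prop_snd_left w _ hj⟩

theorem exists_isPullback_chart_bc {X Y X' Y' : Sp S} {f : X ⟶ Y} {f' : X' ⟶ Y'} {u : X' ⟶ X}
    {v : Y' ⟶ Y} (hu : IsPullback u f' f v) {W E E' : Over S} {a : (yon S).obj W ⟶ X}
    {b : (yon S).obj E ⟶ Y} {w : W ⟶ E} (sq : IsPullback a ((yon S).map w) f b)
    {b' : (yon S).obj E' ⟶ Y'} {e : E' ⟶ E} (hb : b' ≫ v = (yon S).map e ≫ b) :
    ∃ a' : (yon S).obj (pullback w e) ⟶ X',
      IsPullback a' ((yon S).map (pullback.snd w e)) f' b' := by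
  have h := ((IsPullback.of_hasPullback w e).map (yon S)).paste_horiz sq
  rw [← hb] at h
  refine ⟨hu.lift ((yon S).map (pullback.fst w e) ≫ a) ((yon S).map (pullback.snd w e) ≫ b')
    (by rw [h.w, Category.assoc]), IsPullback.of_right ?_ (hu.lift_snd _ _ _) hu⟩
  rw [hu.lift_fst]
  exact h

variable {X₀ Y₀ : Sp S} {f₀ : X₀ ⟶ Y₀}
  {I : Type u} [SmallCategory I] [IsCofiltered I] {D : I ⥤ Sp S} {c : Cone D} {i₀ : I}
  {b₀ : Y₀ ⟶ D.obj i₀} [QuasiSeparatedSpace S] (hD : ∀ i, IsAlgSpace (D.obj i))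
  (hDa : ∀ (i j : I) (φ : i ⟶ j), IsAffineMor (D.map φ)) (hc : IsLimit c)
  (hBqc : IsQuasiCompactSp (D.obj i₀)) (hBqs : IsQuasiSeparatedSp (D.obj i₀))
  (hX₀ : IsAlgSpace X₀) (hY₀ : IsAlgSpace Y₀) (hXqc : IsQuasiCompactSp X₀)
  (hXqs : IsQuasiSeparatedSp X₀) (hYqs : IsQuasiSeparatedSp Y₀)
  {X Y : Sp S} {f : X ⟶ Y} {pY : Y ⟶ Y₀} {qY : Y ⟶ c.pt} (hY : IsPullback pY qY b₀ (c.π.app i₀))
  {pX : X ⟶ X₀} (hX : IsPullback pX f f₀ pY)

include hD hDa hc hBqc hBqs hX₀ hY₀ hXqc hXqs hYqs hY hX in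
/-- A property of an affine morphism of finite type which holds in the limit holds at a stage. -/
theorem exists_affWith_stage (hYqc : IsQuasiCompactSp Y₀) {P Q : MorphismProperty Scheme.{u}}
    [P.IsStableUnderBaseChange] [IsZariskiLocalAtTarget P] [Q.IsStableUnderBaseChange]
    [Q.DescendsAlong (@Surjective ⊓ @Flat ⊓ @QuasiCompact)]
    (hP : P ≤ @IsAffineHom) (hQ : Q ≤ @IsAffineHom) (hPQ : DescendsStage P Q S)
    (hf : RepWith P f) (hf₀ : LocP @LocallyOfFiniteType f₀) :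
    ∃ (i : I) (φ : i ⟶ i₀), ∀ (Xi Yi : Sp S) (fi : Xi ⟶ Yi) (pYi : Yi ⟶ Y₀) (qYi : Yi ⟶ D.obj i)
      (_ : IsPullback pYi qYi b₀ (D.map φ)) (pXi : Xi ⟶ X₀) (_ : IsPullback pXi fi f₀ pYi),
      AffWith Q fi := by
  obtain ⟨i₁, φ₁, h₁⟩ := exists_isAffineMor_stage' hD hDa hc hBqc hBqs hX₀ hY₀ hXqc hXqs hYqs hY hX
    hYqc (isAffineMor_iff_repWith.2 (repWith_mono (fun _ _ g hg => hP g hg) hf))
  obtain ⟨T, b, hT, hbe, hbs⟩ := exists_affine_chart hY₀ hYqc
  obtain ⟨C⟩ := nonempty_pullSys D hDa hc i₀ (b ≫ b₀)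
  let k₁ : Over i₀ := Over.mk φ₁
  have sY : IsPullback (pullback.fst b₀ (D.map φ₁)) (pullback.snd b₀ (D.map φ₁)) b₀ (D.map φ₁) :=
    IsPullback.of_hasPullback _ _
  have sX : IsPullback (pullback.fst f₀ (pullback.fst b₀ (D.map φ₁)))
      (pullback.snd f₀ (pullback.fst b₀ (D.map φ₁))) f₀ (pullback.fst b₀ (D.map φ₁)) :=
    IsPullback.of_hasPullback _ _
  let fk := pullback.snd f₀ (pullback.fst b₀ (D.map φ₁))
  obtain ⟨bk, -, hke, hks, hk₁, hk₂, -⟩ := exists_atlas_bc hbe hbs (C.sq k₁) sY sX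
  obtain ⟨hXa, hYa⟩ := isAlgSpace_bc hD hX₀ hY₀ sY sX
  have : IsAffine (C.E.obj k₁).left := C.affSys.aff k₁
  obtain ⟨W, w, a, sqW, hW⟩ := h₁ _ _ _ _ _ sY _ sX ‹IsAffine (C.E.obj k₁).left› bk
  have : IsAffine W.left := hW
  have hwt : LocallyOfFiniteType w.left := prop_of_locP_yon (locP_of_isPullback hXa hYa
    (IsAlgSpace.yon_obj _) sqW (locP_of_isPullback hX₀ hY₀ hYa sX hf₀))
  -- the limit
  obtain ⟨bInf, -, -, -, hi₁, hi₂, -⟩ := exists_atlas_bc hbe hbs C.sqTop hY hX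
  let v := sY.lift pY (qY ≫ c.π.app i₁) (by rw [hY.w, Category.assoc, c.w])
  let u := sX.lift pX (f ≫ v) (by rw [hX.w, Category.assoc, sY.lift_fst])
  have hu : IsPullback u f fk v :=
    IsPullback.of_right (by rw [sX.lift_fst, sY.lift_fst]; exact hX) (sX.lift_snd _ _ _) sX
  have hbv : bInf ≫ v = (yon S).map (C.L.π.app k₁) ≫ bk := by
    apply sY.hom_ext
    · rw [Category.assoc, sY.lift_fst, hi₁, Category.assoc, hk₁, ← Category.assoc, ← Functor.map_comp,
        C.π_q]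
    · rw [Category.assoc, sY.lift_snd, reassoc_of% hi₂, Category.assoc, hk₂]
      exact C.top_π k₁
  obtain ⟨aInf, sqInf⟩ := exists_isPullback_chart_bc hu sqW hbv
  have hlim : P (pullback.snd w (C.L.π.app k₁)).left :=
    (repWith_yon_map_iff P _).1 (repWith_of_isPullback sqInf hf)
  obtain ⟨j, μ, hj⟩ := hPQ C.affSys k₁ W w hwt hlim
  refine ⟨j.left, j.hom, fun Xj Yj fj pYj qYj hYj pXj hXj => ?_⟩
  obtain ⟨bj, -, hje, hjs, hj₁, hj₂, -⟩ := exists_atlas_bc hbe hbs (C.sq j) hYj hXj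
  obtain ⟨-, hYja⟩ := isAlgSpace_bc hD hX₀ hY₀ hYj hXj
  let v' := sY.lift pYj (qYj ≫ D.map μ.left) (by
    rw [hYj.w, Category.assoc, ← D.map_comp]
    exact congrArg (fun m => qYj ≫ D.map m) (Over.w μ : μ.left ≫ φ₁ = j.hom).symm)
  let u' := sX.lift pXj (fj ≫ v') (by rw [hXj.w, Category.assoc, sY.lift_fst])
  have hu' : IsPullback u' fj fk v' :=
    IsPullback.of_right (by rw [sX.lift_fst, sY.lift_fst]; exact hXj) (sX.lift_snd _ _ _) sX
  have hbv' : bj ≫ v' = (yon S).map (C.E.map μ) ≫ bk := by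
    apply sY.hom_ext
    · rw [Category.assoc, sY.lift_fst, hj₁, Category.assoc, hk₁, ← Category.assoc, ← Functor.map_comp,
        C.map_q]
    · rw [Category.assoc, sY.lift_snd, reassoc_of% hj₂, Category.assoc, hk₂]
      exact (C.map_p μ).symm
  obtain ⟨aj, sqj⟩ := exists_isPullback_chart_bc hu' sqW hbv'
  exact affWith_of_cover hYja hje hjs sqj (affWith_of_repWith hQ ((repWith_yon_map_iff Q _).2 hj))

end Groth.SpLimit
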