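import Groth.Agent.SpLimit.LfpLimit
import Groth.Agent.SpLimit.RelLimit
import Groth.Agent.Limits.LfpCriterion

/-!
# Locally of finite presentation means limit preserving
-/

set_option autoImplicit false
set_option backward.isDefEq.respectTransparency false
set_option backward.isDefEq.respectTransparency.types false

universe u

open CategoryTheory CategoryTheory.Limits AlgebraicGeometry AlgSp Opposite
open Groth.AlgSpBasic

noncomputable section

namespace Groth.SpLimit

variable {S : Scheme.{u}} {X Y : Sp S} {f : X ⟶ Y}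

theorem yEquiv_naturality {F : Sp S} {T T' : Over S} (k : T' ⟶ T) (x : (yon S).obj T ⟶ F) :
    F.obj.map k.op (yEquiv x) = yEquiv ((yon S).map k ≫ x) :=
  (J S).uliftYonedaEquiv_naturality x k

theorem yEquiv_app {T : Over S} (x : (yon S).obj T ⟶ X) :
    f.hom.app _ (yEquiv x) = yEquiv (x ≫ f) :=
  ((J S).uliftYonedaEquiv_comp x f).symm

theorem isRelLimitPreserving_of_locP (hX : IsAlgSpace X) (hY : IsAlgSpace Y)
    (hf : LocP @LocallyOfFinitePresentation f) : IsRelLimitPreserving f.hom := by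
  refine isRelLimitPreserving_of_stage (fun I _ _ A i y x h => ?_) (fun I _ _ A i x₁ x₂ h he => ?_)
  · obtain ⟨y, rfl⟩ := yEquiv.surjective y
    obtain ⟨x, rfl⟩ := yEquiv.surjective x
    erw [yEquiv_app, yEquiv_naturality] at h
    obtain ⟨j, φ, x', h₁, h₂⟩ := exists_lift_stage A hX hY hf y x (yEquiv.injective h)
    refine ⟨j, φ, yEquiv x', ?_, ?_⟩
    · erw [yEquiv_naturality, h₁]; rfl
    · erw [yEquiv_app, yEquiv_naturality, h₂]
  · obtain ⟨x₁, rfl⟩ := yEquiv.surjective x₁
    obtain ⟨x₂, rfl⟩ := yEquiv.surjective x₂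
    erw [yEquiv_app, yEquiv_app] at h
    erw [yEquiv_naturality, yEquiv_naturality] at he
    obtain ⟨j, φ, hφ⟩ := eq_eventually A hX hY hf x₁ x₂ (yEquiv.injective h) (yEquiv.injective he)
    refine ⟨j, φ, ?_⟩
    erw [yEquiv_naturality, yEquiv_naturality, hφ]

/-- The limit lifting condition on morphisms implies finite presentation on charts. -/
theorem locP_of_lifts (hX : IsAlgSpace X) (hY : IsAlgSpace Y)
    (h : ∀ ⦃I : Type u⦄ [SmallCategory I] [IsCofiltered I] (A : AffSys S I)
      (x : (yon S).obj A.c.pt ⟶ X) (i : I) (y : (yon S).obj (A.D.obj i) ⟶ Y),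
        x ≫ f = (yon S).map (A.c.π.app i) ≫ y →
        ∃ (i' : I) (φ : i' ⟶ i) (x' : (yon S).obj (A.D.obj i') ⟶ X),
          (yon S).map (A.c.π.app i') ≫ x' = x ∧ x' ≫ f = (yon S).map (A.D.map φ) ≫ y) :
    LocP @LocallyOfFinitePresentation f := by
  intro U V a b k ha hb comm
  refine Groth.Limits.locallyOfFinitePresentation_of_exists_factor k.left
    fun W _ J _ _ _ D t c hc hD j₀ g hg => ?_
  have hD' : ∀ j, IsAffine (D.obj j) := hD
  let D' : Jᵒᵖ ⥤ Over S :=
    { obj := fun j => Over.mk (t.app j ≫ W.ι ≫ V.hom)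
      map := fun {j l} m => Over.homMk (D.map m) (by
        show D.map m ≫ t.app l ≫ W.ι ≫ V.hom = t.app j ≫ W.ι ≫ V.hom
        rw [← Category.assoc, t.naturality m]
        simp) }
  let c' : Cone D' :=
    { pt := Over.mk (c.π.app j₀ ≫ t.app j₀ ≫ W.ι ≫ V.hom)
      π :=
        { app := fun j => Over.homMk (c.π.app j) (by
            show c.π.app j ≫ t.app j ≫ W.ι ≫ V.hom = c.π.app j₀ ≫ t.app j₀ ≫ W.ι ≫ V.hom
            have := IsCofiltered.isConnected (C := Jᵒᵖ)
            have e : c.π.app j ≫ t.app j = c.π.app j₀ ≫ t.app j₀ := constant_of_preserves_morphisms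
              (fun j => c.π.app j ≫ t.app j) (fun i l m => by
                rw [← c.w m, Category.assoc, t.naturality m]; simp) j j₀
            simp only [← Category.assoc, e])
          naturality := fun j l m => Over.OverMorphism.ext (c.π.naturality m) } }
  have haff : IsAffine c.pt := by
    have : ∀ {i j : Jᵒᵖ} (m : i ⟶ j), IsAffineHom (D.map m) := fun m => inferInstance
    have := isAffineHom_π_app D c hc j₀
    exact isAffine_of_isAffineHom (c.π.app j₀)
  let A : AffSys S Jᵒᵖ :=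
    { D := D'
      c := c'
      isLimit := IsLimit.ofIsoLimit hc (Cone.ext (Iso.refl _))
      aff := hD
      affPt := haff }
  let tV : ∀ j, D'.obj j ⟶ V := fun j => Over.homMk (t.app j ≫ W.ι) (Category.assoc _ _ _)
  let g' : c'.pt ⟶ U := Over.homMk g (by
    show g ≫ U.hom = c.π.app j₀ ≫ t.app j₀ ≫ W.ι ≫ V.hom
    rw [← Over.w k, ← Category.assoc, hg]
    simp)
  have hgV : g' ≫ k = c'.π.app j₀ ≫ tV j₀ := Over.OverMorphism.ext hg
  obtain ⟨j₁, φ, x', hx₁, hx₂⟩ := h A ((yon S).map g' ≫ a) j₀ ((yon S).map (tV j₀) ≫ b) (by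
    rw [Category.assoc, comm, ← Category.assoc, ← Functor.map_comp, hgV, Functor.map_comp, Category.assoc]; done)
  obtain ⟨Z, z₁, z₂, hZ⟩ := exists_pullback_of_diag hX.diag x' a
  have : Etale z₁.left := ha.property _ _ _ hZ.flip
  obtain ⟨s, hs⟩ := (yon S).map_surjective (hZ.lift ((yon S).map (c'.π.app j₁)) ((yon S).map g') hx₁)
  obtain ⟨j₂, ψ, s', hs', hs''⟩ := exists_factor_stage A z₁ inferInstance s
    ((yon S).map_injective (by rw [Functor.map_comp, hs, hZ.lift_fst]))
  have hv : (yon S).map (s' ≫ z₂) ≫ a = (yon S).map (A.D.map ψ) ≫ x' := by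
    rw [Functor.map_comp, Category.assoc, ← hZ.w, ← Category.assoc, ← Functor.map_comp, hs']
  have hvg : c'.π.app j₂ ≫ s' ≫ z₂ = g' := by
    rw [← Category.assoc]
    refine (congrArg (· ≫ z₂) hs'').trans ((yon S).map_injective ?_)
    rw [Functor.map_comp, hs, hZ.lift_snd]
  obtain ⟨j₃, χ, hχ⟩ := eq_eventually A (IsAlgSpace.yon_obj V) hY (locP_lfp_of_etale hb) (i := j₂)
    ((yon S).map ((s' ≫ z₂) ≫ k)) ((yon S).map (A.D.map (ψ ≫ φ) ≫ tV j₀)) (by
      rw [Functor.map_comp, Category.assoc, ← comm, reassoc_of% hv, hx₂, Functor.map_comp (yon S) (A.D.map (ψ ≫ φ)),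
        Category.assoc, A.D.map_comp, Functor.map_comp, Category.assoc])
    (by
      rw [← Functor.map_comp, ← Functor.map_comp, ← Category.assoc]
      refine congrArg _ (((congrArg (· ≫ k) hvg).trans hgV).trans ?_)
      exact (congrArg (· ≫ tV j₀) (c'.w (ψ ≫ φ))).symm.trans (Category.assoc _ _ _))
  rw [← Functor.map_comp, ← Functor.map_comp] at hχ
  have hχ' := congrArg CommaMorphism.left ((yon S).map_injective hχ)
  refine ⟨j₃, (A.D.map χ).left ≫ (s' ≫ z₂).left, ?_, ?_⟩
  · refine (Category.assoc _ _ _).trans (hχ'.trans ?_)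
    show D.map χ ≫ D.map (ψ ≫ φ) ≫ t.app j₀ ≫ W.ι = t.app j₃ ≫ W.ι
    rw [← Category.assoc, ← Functor.map_comp, ← Category.assoc, t.naturality]
    simp
  · have := congrArg CommaMorphism.left hvg
    refine Eq.trans ?_ this
    exact (Category.assoc _ _ _).symm.trans (congrArg (· ≫ (s' ≫ z₂).left) (c.w χ))

theorem locP_of_isRelLimitPreserving (hX : IsAlgSpace X) (hY : IsAlgSpace Y)
    (h : IsRelLimitPreserving f.hom) : LocP @LocallyOfFinitePresentation f :=
  locP_of_lifts hX hY fun I _ _ A x i y e => by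
    obtain ⟨j, φ, x', h₁, h₂⟩ := liftsStage_of_isRelLimitPreserving h A i (yEquiv y) (yEquiv x) (by
      erw [yEquiv_app, yEquiv_naturality, e]; rfl)
    refine ⟨j, φ, yEquiv.symm x', yEquiv.injective ?_, yEquiv.injective ?_⟩
    · erw [← yEquiv_naturality, Equiv.apply_symm_apply]; exact h₁
    · erw [← yEquiv_app, Equiv.apply_symm_apply, ← yEquiv_naturality]; exact h₂

end Groth.SpLimit
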