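import Groth.Agent.SpLimit.BaseRestrict
import Groth.Agent.Limits.LocalLimit

/-!
# A space whose localisations on the base are schemes is a scheme
-/

set_option autoImplicit false
set_option backward.isDefEq.respectTransparency false
set_option backward.isDefEq.respectTransparency.types false

universe u

open CategoryTheory CategoryTheory.Limits AlgebraicGeometry Opposite AlgSp
open Groth.AlgSpBasic Groth.AlgSp3

noncomputable section

namespace Groth.SpLimit

variable {S : Scheme.{u}} {V : S.Opens} (hV : IsAffineOpen V) {s : S} (hs : s ∈ V)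

/-- The basic open neighbourhoods of a point, as schemes over the base. -/
def nhdOver (V : S.Opens) (s : S) : Groth.Limits.BasicNhd V s ⥤ Over S where
  obj U := Over.mk U.1.ι
  map h := Over.homMk (S.homOfLE (leOfHom h)) (S.homOfLE_ι _)
  map_id U := by ext : 1; exact (Groth.Limits.nhdDiagram V s).map_id U
  map_comp h h' := by ext : 1; exact (Groth.Limits.nhdDiagram V s).map_comp h h'

/-- The local scheme as a cone over the base. -/
def stalkCone (V : S.Opens) (s : S) : Cone (nhdOver V s) where
  pt := Over.mk (S.fromSpecStalk s)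
  π :=
    { app := fun U => Over.homMk (U.1.fromSpecStalkOfMem s U.2.1)
        (Scheme.Opens.fromSpecStalkOfMem_ι _ _ _)
      naturality := fun U U' h => by
        ext : 1; exact (Groth.Limits.nhdCone V s).π.naturality h }

include hV hs in
theorem nonempty_isLimit_stalkCone : Nonempty (IsLimit (stalkCone V s)) := by
  obtain ⟨l⟩ := Groth.Limits.nonempty_isLimit_nhdCone hV hs
  let U₀ : Groth.Limits.BasicNhd V s := Groth.Limits.BasicNhd.top hs
  let u (c : Cone (nhdOver V s)) : Cone (Groth.Limits.nhdDiagram V s) :=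
    { pt := c.pt.left
      π :=
        { app := fun U => (c.π.app U).left
          naturality := fun U U' h => by
            have := congrArg CommaMorphism.left (c.w h)
            exact (Category.id_comp _).trans this.symm } }
  have hw : ∀ c, l.lift (u c) ≫ S.fromSpecStalk s = c.pt.hom := fun c => by
    rw [← Scheme.Opens.fromSpecStalkOfMem_ι U₀.1 s U₀.2.1, ← Category.assoc]
    erw [l.fac (u c) U₀]
    exact Over.w (c.π.app U₀)
  exact ⟨{
    lift := fun c => Over.homMk (l.lift (u c)) (hw c)
    fac := fun c U => by ext : 1; exact l.fac (u c) U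
    uniq := fun c m hm => by
      ext : 1
      exact l.uniq (u c) m.left fun U => congrArg CommaMorphism.left (hm U) }⟩

variable {X : Sp S} (hX : IsAlgSpace X) (q : X ⟶ (yon S).obj (Over.mk (𝟙 S)))
  (hqc : IsQuasiCompactMor q) (hqs : IsQuasiSeparatedMor q)

include hX hqc hqs in
/-- A point over a point of the base with representable localisation is schematic. -/
theorem isSchematicPt_of_stalk (s : S)
    (hrep : (pullback ((yon S).map (Over.homMk (S.fromSpecStalk s) (by simp) :
      Over.mk (S.fromSpecStalk s) ⟶ Over.mk (𝟙 S))) q).obj.IsRepresentable)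
    (x : Points X) (hx : Points.map q x = Points.schemeHomeo (Over.mk (𝟙 S)) s) :
    IsSchematicPt X x := by
  obtain ⟨_, ⟨(V : S.Opens), hV, rfl⟩, hs, -⟩ :=
    S.isBasis_affineOpens.exists_subset_of_mem_open (Set.mem_univ s) isOpen_univ
  replace hV : IsAffineOpen V := hV
  replace hs : s ∈ V := hs
  have : IsAffine (V : Scheme) := hV
  let N := Groth.Limits.BasicNhd V s
  have : Nonempty N := Groth.Limits.nonempty_basicNhd hs
  let T : N ⥤ Sp S := nhdOver V s ⋙ yon S
  let t : T ⟶ (Functor.const N).obj ((yon S).obj (Over.mk (𝟙 S))) :=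
    { app := fun U => (yon S).map (Over.homMk U.1.ι (by simp [nhdOver]) :
        (nhdOver V s).obj U ⟶ Over.mk (𝟙 S))
      naturality := fun U U' h => by
        show (yon S).map ((nhdOver V s).map h) ≫ _ = _ ≫ 𝟙 _
        rw [Category.comp_id, ← Functor.map_comp]
        congr 1
        exact Over.mkIdTerminal.hom_ext _ _ }
  obtain ⟨l⟩ := nonempty_isLimit_stalkCone hV hs
  have hgs : ∀ U, ((yon S).mapCone (stalkCone V s)).π.app U ≫ t.app U =
      (yon S).map (Over.homMk (S.fromSpecStalk s) (by simp) :
        Over.mk (S.fromSpecStalk s) ⟶ Over.mk (𝟙 S)) := fun U => by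
    show (yon S).map ((stalkCone V s).π.app U) ≫ (yon S).map _ = _
    rw [← Functor.map_comp]
    congr 1
    exact Over.mkIdTerminal.hom_ext _ _
  have := IsCofiltered.isConnected (C := N)
  obtain ⟨lc⟩ := nonempty_isLimit_bcCone t q (c := (yon S).mapCone (stalkCone V s)) hgs
    (isLimitOfPreserves (yon S) l)
  let P := bcSys t q
  have hU : ∀ U : N, IsAffine ((nhdOver V s).obj U).left :=
    fun U => Groth.Limits.isAffineOpen_nhd hV U
  have hle : ∀ U : N, U.1 ≤ V := fun U => by
    obtain ⟨f, hf⟩ := U.2.2
    exact hf ▸ S.basicOpen_le f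
  have hP : ∀ U, IsAlgSpace (P.obj U) := fun U =>
    isAlgSpace_of_isPullback (IsPullback.of_hasPullback (t.app U) q)
      (IsAlgSpace.yon_obj _).diag (IsAlgSpace.yon_obj _) hX
  have ht : ∀ U, IsQuasiSeparatedSp (T.obj U) := fun U =>
    have := hU U
    isQuasiSeparatedSp_yon_of_affine hV (w := S.homOfLE (hle U)) (S.homOfLE_ι _)
  have hterm : IsQuasiSeparatedSp ((yon S).obj (Over.mk (𝟙 S))) :=
    have : QuasiSeparated (Over.mk (𝟙 S)).hom := inferInstanceAs (QuasiSeparated (𝟙 S))
    isQuasiSeparatedSp_yon_of_hom _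
  -- the projection to the affine open
  let p : ∀ U, P.obj U ⟶ (yon S).obj (Over.mk V.ι) := fun U =>
    pullback.fst (t.app U) q ≫ (yon S).map (Over.homMk (S.homOfLE (hle U)) (S.homOfLE_ι _))
  obtain ⟨W, ⟨eW⟩⟩ := isRepresentable_restr V.ι hrep
  obtain ⟨U, hUrep⟩ := exists_scheme_of_limit (D := P ⋙ restr V.ι)
    (fun U => isAlgSpace_restrict V.ι (hP U))
    (fun i j φ => isAffineMor_iff_repWith.2 (repWith_restr V.ι
      (repWith_of_isPullback (isPullback_bcSys_map t q φ) ((repWith_yon_map_iff _ _).2 (by
        have := hU i; have := hU j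
        exact isAffineHom_of_isAffine _)))))
    (isLimitOfPreserves (restr V.ι) lc)
    (fun U => isQuasiCompactSp_of_shriek V.ι (by
      obtain ⟨e⟩ := nonempty_shriek_restr_iso V.ι (p U)
      refine isQuasiCompactSp_of_iso e.symm (hqc (IsAlgSpace.yon_obj ((nhdOver V s).obj U)) ?_ _ _ _
        (IsPullback.of_hasPullback (t.app U) q).flip)
      have := hU U
      exact (isQuasiCompactSp_yon_iff _).2 inferInstance))
    (fun U => isQuasiSeparatedSp_restr V.ι (isQuasiSeparatedSp_of_isPullback (hP U) (ht U) hterm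
      (isQuasiSeparatedSp_of_mor hqs hterm) (IsPullback.of_hasPullback (t.app U) q)))
    (isoOfRepresentableBy eW)
  obtain ⟨G, ⟨eG⟩⟩ := isRepresentable_of_restr V.ι (p U) hUrep
  have htU : RepWith @IsOpenImmersion (t.app U) :=
    (repWith_yon_map_iff _ _).2 (show IsOpenImmersion U.1.ι from inferInstance)
  have hj : RepWith @IsOpenImmersion (pullback.snd (t.app U) q) :=
    repWith_of_isPullback (IsPullback.of_hasPullback (t.app U) q) htU
  obtain ⟨z, -, hz⟩ := exists_point_of_isPullback (IsPullback.of_hasPullback (t.app U) q)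
    (Points.ofScheme ((nhdOver V s).obj U) ⟨s, U.2.1⟩) x (by
      rw [hx]
      exact Points.map_yon_map_apply _ _)
  let e := isoOfRepresentableBy eG
  obtain ⟨v, hv⟩ := (Points.schemeEquiv G).surjective (Points.map e.inv z)
  refine ⟨G, e.hom ≫ pullback.snd (t.app U) q, repWith_comp (repWith_isIso _) hj, v, ?_⟩
  rw [ofPt_eq_map, Points.map_comp,
    show Points.ofScheme G v = Points.map e.inv z from hv, ← Points.map_comp e.inv e.hom,
    e.inv_hom_id, Points.map_id, hz]

include hX hqc hqs in
theorem isRepresentable_of_stalks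
    (h : ∀ x : Points X, (pullback ((yon S).map (Over.homMk
        (S.fromSpecStalk ((Points.schemeHomeo (Over.mk (𝟙 S))).symm (Points.map q x))) (by simp) :
      Over.mk (S.fromSpecStalk _) ⟶ Over.mk (𝟙 S))) q).obj.IsRepresentable) :
    X.obj.IsRepresentable :=
  isRepresentable_of_schematic ⟨X, hX⟩ fun x => isSchematicPt_of_stalk hX q hqc hqs
    ((Points.schemeHomeo (Over.mk (𝟙 S))).symm (Points.map q x)) (h x) x
    ((Points.schemeHomeo (Over.mk (𝟙 S))).apply_symm_apply _).symm

end Groth.SpLimit
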