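import Groth.Agent.SpLimit.SchemeLimit
import Groth.Agent.AlgSpBasic.SepLocal
import Groth.Agent.Limits.FieldPointInduction

/-!
# A maximal ideal among those whose closed base change is not a scheme
-/

set_option autoImplicit false
set_option backward.isDefEq.respectTransparency false
set_option backward.isDefEq.respectTransparency.types false

universe u

open CategoryTheory CategoryTheory.Limits AlgebraicGeometry Opposite AlgSp
open Groth.AlgSpBasic

noncomputable section

namespace Groth.SpLimit

variable {A : CommRingCat.{u}}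

/-- The closed subscheme of an ideal, over the affine base. -/
abbrev quotOver (I : Ideal A) : Over (Spec A) :=
  Over.mk (Spec.map (CommRingCat.ofHom (Ideal.Quotient.mk I)))

instance (I : Ideal A) : IsAffine (quotOver I).left := inferInstanceAs (IsAffine (Spec _))

instance (I : Ideal A) : IsClosedImmersion (quotOver I).hom :=
  IsClosedImmersion.spec_of_surjective _ Ideal.Quotient.mk_surjective

theorem quotOver_hom_ext {I : Ideal A} {T : Over (Spec A)} (a b : T ⟶ quotOver I) : a = b :=
  Over.OverMorphism.ext ((cancel_mono (quotOver I).hom).1 ((Over.w a).trans (Over.w b).symm))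

/-- The map of closed subschemes of an inclusion of ideals. -/
def quotOverMap {I J : Ideal A} (h : I ≤ J) : quotOver J ⟶ quotOver I :=
  Over.homMk (Spec.map (CommRingCat.ofHom (Ideal.Quotient.factor h))) (by
    show Spec.map _ ≫ Spec.map _ = Spec.map _
    rw [← Spec.map_comp, ← CommRingCat.ofHom_comp, Ideal.Quotient.factor_comp_mk h])

/-- Functions killed by a map to the spectrum. -/
def baseKer (T : Over (Spec A)) : Ideal A :=
  RingHom.ker ((Scheme.ΓSpecIso A).inv ≫ T.hom.appTop).hom

theorem le_baseKer {I : Ideal A} {T : Over (Spec A)} (a : T ⟶ quotOver I) : I ≤ baseKer T := by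
  intro x hx
  rw [baseKer, RingHom.mem_ker, ← Over.w a, Scheme.Hom.comp_appTop, ← Category.assoc]
  show (((Scheme.ΓSpecIso A).inv ≫
    (Spec.map (CommRingCat.ofHom (Ideal.Quotient.mk I))).appTop) ≫ a.left.appTop).hom x = 0
  rw [← Scheme.ΓSpecIso_inv_naturality]
  simp only [CommRingCat.hom_comp, RingHom.comp_apply, CommRingCat.hom_ofHom,
    Ideal.Quotient.eq_zero_iff_mem.2 hx, map_zero]

theorem exists_to_quotOver {I : Ideal A} {T : Over (Spec A)} (h : I ≤ baseKer T) :
    Nonempty (T ⟶ quotOver I) := by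
  let φ : CommRingCat.of (A ⧸ I) ⟶ Γ(T.left, ⊤) :=
    CommRingCat.ofHom (Ideal.Quotient.lift I ((Scheme.ΓSpecIso A).inv ≫ T.hom.appTop).hom h)
  refine ⟨Over.homMk (T.left.toSpecΓ ≫ Spec.map φ) ?_⟩
  show (T.left.toSpecΓ ≫ Spec.map φ) ≫ Spec.map _ = T.hom
  rw [Category.assoc, ← Spec.map_comp,
    show CommRingCat.ofHom (Ideal.Quotient.mk I) ≫ φ = (Scheme.ΓSpecIso A).inv ≫ T.hom.appTop from
      CommRingCat.hom_ext (RingHom.ext fun x => by simp [φ])]
  exact Groth.Limits.toSpecΓ_SpecMap_appTop T.hom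

variable {X : Sp (Spec A)} (hX : IsAlgSpace X) (q : X ⟶ (yon (Spec A)).obj (Over.mk (𝟙 (Spec A))))
  (hqc : IsQuasiCompactMor q) (hqs : IsQuasiSeparatedMor q)

/-- The closed base change of a space. -/
abbrev quotSp (I : Ideal A) : Sp (Spec A) :=
  pullback ((yon (Spec A)).map (Over.homMk (Spec.map (CommRingCat.ofHom (Ideal.Quotient.mk I)))
    (by simp) : quotOver I ⟶ Over.mk (𝟙 (Spec A)))) q

include hX hqc hqs in
/-- Representability of a closed base change descends along directed unions of ideals. -/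
theorem exists_isRepresentable_quotSp {c : Set (Ideal A)} (hne : c.Nonempty)
    (hdir : DirectedOn (· ≤ ·) c) (h : (quotSp q (sSup c)).obj.IsRepresentable) :
    ∃ I ∈ c, (quotSp q I).obj.IsRepresentable := by
  have : Nonempty ↥c := hne.to_subtype
  have : IsDirectedOrder ↥c := ⟨fun a b => by
    obtain ⟨d, hd, ha, hb⟩ := hdir _ a.2 _ b.2
    exact ⟨⟨d, hd⟩, ha, hb⟩⟩
  let F : (↥c)ᵒᵖ ⥤ Over (Spec A) :=
    { obj := fun I => quotOver I.unop.1
      map := fun f => quotOverMap (leOfHom f.unop)
      map_id := fun _ => quotOver_hom_ext _ _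
      map_comp := fun _ _ => quotOver_hom_ext _ _ }
  let K : Cone F :=
    { pt := quotOver (sSup c)
      π :=
        { app := fun I => quotOverMap (le_sSup I.unop.2)
          naturality := fun _ _ _ => quotOver_hom_ext _ _ } }
  let l : IsLimit K :=
    { lift := fun s => (exists_to_quotOver (T := s.pt) (sSup_le fun I hI =>
        le_baseKer (s.π.app (op ⟨I, hI⟩)))).some
      fac := fun _ _ => quotOver_hom_ext _ _
      uniq := fun _ _ _ => quotOver_hom_ext _ _ }
  let Y := (yon (Spec A)).obj (Over.mk (𝟙 (Spec A)))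
  let t : F ⋙ yon (Spec A) ⟶ (Functor.const (↥c)ᵒᵖ).obj Y :=
    { app := fun I => (yon (Spec A)).map (Over.homMk
        (Spec.map (CommRingCat.ofHom (Ideal.Quotient.mk I.unop.1))) (by simp) :
        quotOver I.unop.1 ⟶ Over.mk (𝟙 (Spec A)))
      naturality := fun I J f => by
        show (yon (Spec A)).map (F.map f) ≫ _ = _ ≫ 𝟙 _
        rw [Category.comp_id, ← Functor.map_comp]
        congr 1
        exact Over.mkIdTerminal.hom_ext _ _ }
  have hg : ∀ I, ((yon (Spec A)).mapCone K).π.app I ≫ t.app I =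
      (yon (Spec A)).map (Over.homMk (Spec.map (CommRingCat.ofHom (Ideal.Quotient.mk (sSup c))))
        (by simp) : quotOver (sSup c) ⟶ Over.mk (𝟙 (Spec A))) := fun I => by
    show (yon (Spec A)).map _ ≫ (yon (Spec A)).map _ = _
    rw [← Functor.map_comp]
    congr 1
    exact Over.mkIdTerminal.hom_ext _ _
  have := IsCofiltered.isConnected (C := (↥c)ᵒᵖ)
  obtain ⟨lc⟩ := nonempty_isLimit_bcCone t q (c := (yon (Spec A)).mapCone K) hg
    (isLimitOfPreserves (yon (Spec A)) l)
  have hterm : IsQuasiSeparatedSp Y :=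
    have : QuasiSeparated (Over.mk (𝟙 (Spec A))).hom := inferInstanceAs (QuasiSeparated (𝟙 _))
    isQuasiSeparatedSp_yon_of_hom _
  obtain ⟨W, ⟨eW⟩⟩ := h
  have hP : ∀ I, IsAlgSpace ((bcSys t q).obj I) := fun I =>
    isAlgSpace_of_isPullback (IsPullback.of_hasPullback (t.app I) q)
      (IsAlgSpace.yon_obj _).diag (IsAlgSpace.yon_obj _) hX
  obtain ⟨I, hI⟩ := exists_scheme_of_limit (D := bcSys t q) hP
    (fun I J φ => isAffineMor_iff_repWith.2
      (repWith_of_isPullback (isPullback_bcSys_map t q φ) ((repWith_yon_map_iff _ _).2 (by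
        show IsAffineHom (quotOverMap (leOfHom φ.unop)).left
        exact isAffineHom_of_isAffine _))))
    lc
    (fun I => hqc (IsAlgSpace.yon_obj (F.obj I)) ((isQuasiCompactSp_yon_iff _).2
        (inferInstanceAs (CompactSpace (quotOver I.unop.1).left))) _ _ _
      (IsPullback.of_hasPullback (t.app I) q).flip)
    (fun I => isQuasiSeparatedSp_of_isPullback (hP I)
      (isQuasiSeparatedSp_yon_affine (quotOver I.unop.1)) hterm
      (isQuasiSeparatedSp_of_mor hqs hterm) (IsPullback.of_hasPullback (t.app I) q))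
    (isoOfRepresentableBy eW)
  exact ⟨I.unop.1, I.unop.2, hI⟩

include hX hqc hqs in
/-- There is a maximal ideal with non-representable closed base change. -/
theorem exists_maximal_not_representable (hrep : ¬ X.obj.IsRepresentable) :
    ∃ I : Ideal A, ¬ (quotSp q I).obj.IsRepresentable ∧
      ∀ I', I < I' → (quotSp q I').obj.IsRepresentable := by
  have hbot : ¬ (quotSp q ⊥).obj.IsRepresentable := fun h => by
    let f : quotOver (⊥ : Ideal A) ⟶ Over.mk (𝟙 (Spec A)) :=
      Over.homMk (Spec.map (CommRingCat.ofHom (Ideal.Quotient.mk ⊥))) (by simp)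
    obtain ⟨a⟩ := exists_to_quotOver (T := Over.mk (𝟙 (Spec A))) (bot_le (a := baseKer _))
    have : IsIso f := ⟨a, quotOver_hom_ext _ _, Over.mkIdTerminal.hom_ext _ _⟩
    obtain ⟨W, ⟨r⟩⟩ := h
    exact hrep (isRepresentable_of_iso (isoOfRepresentableBy r ≪≫
      @asIso _ _ _ _ (pullback.snd ((yon (Spec A)).map f) q) inferInstance))
  obtain ⟨I, hI⟩ := zorn_le₀ {I : Ideal A | ¬ (quotSp q I).obj.IsRepresentable} fun c hc hch => by
    obtain rfl | hne := c.eq_empty_or_nonempty
    · exact ⟨⊥, hbot, fun _ h => absurd h (Set.notMem_empty _)⟩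
    · refine ⟨sSup c, fun h => ?_, fun _ => le_sSup⟩
      obtain ⟨I, hIc, hI⟩ := exists_isRepresentable_quotSp hX q hqc hqs hne hch.directedOn h
      exact hc hIc hI
  exact ⟨I, hI.1, fun I' hlt => by
    by_contra h
    exact hlt.not_ge (hI.2 h hlt.le)⟩

end Groth.SpLimit
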