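import Groth.Agent.SpLimit.Charts

/-!
# Maps of limits induced by maps of systems
-/

set_option autoImplicit false
set_option backward.isDefEq.respectTransparency false
set_option backward.isDefEq.respectTransparency.types false

universe u

open CategoryTheory CategoryTheory.Limits AlgebraicGeometry Opposite AlgSp
open Groth.AlgSpBasic

noncomputable section

namespace Groth.SpLimit

variable {S : Scheme.{u}} {I : Type u} [SmallCategory I] [IsCofiltered I]

/-- Fibres of a map of limits induced by affine maps, over an affine scheme, are limits of fibres. -/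
theorem exists_fibre_affSys {DX DY : I ⥤ Sp S} (τ : DX ⟶ DY) (hτ : ∀ i, RepWith @IsAffineHom (τ.app i))
    {cX : Cone DX} (hcX : IsLimit cX) {cY : Cone DY} (hcY : IsLimit cY) (g : cX.pt ⟶ cY.pt)
    (hg : ∀ i, g ≫ cY.π.app i = cX.π.app i ≫ τ.app i) {T : Over S} [IsAffine T.left]
    (y : (yon S).obj T ⟶ cY.pt) :
    ∃ (A : AffSys S I) (q : ∀ i, A.D.obj i ⟶ T) (p : ∀ i, (yon S).obj (A.D.obj i) ⟶ DX.obj i)
      (bot : A.c.pt ⟶ T) (top : (yon S).obj A.c.pt ⟶ cX.pt),
      (∀ i, IsPullback (p i) ((yon S).map (q i)) (τ.app i) (y ≫ cY.π.app i)) ∧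
      (∀ i, A.c.π.app i ≫ q i = bot) ∧ IsPullback top ((yon S).map bot) g y := by
  have hrep : ∀ i, ∃ (W : Over S) (snd : W ⟶ T) (fst : (yon S).obj W ⟶ DX.obj i),
      IsPullback fst ((yon S).map snd) (τ.app i) (y ≫ cY.π.app i) ∧ IsAffineHom snd.left := fun i => by
    obtain ⟨W, snd, fst, sq⟩ := (hτ i).rep (y ≫ cY.π.app i)
    exact ⟨W, snd, fst, sq, (hτ i).property _ fst snd sq⟩
  choose W q p sq hq using hrep
  have lift : ∀ {i j : I} (m : i ⟶ j), ∃ w : W i ⟶ W j,
      (yon S).map w ≫ p j = p i ≫ DX.map m ∧ w ≫ q j = q i := fun {i j} m => by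
    have e : (p i ≫ DX.map m) ≫ τ.app j = (yon S).map (q i) ≫ y ≫ cY.π.app j := by
      rw [Category.assoc, τ.naturality, ← Category.assoc, (sq i).w]
      simp
    obtain ⟨w, hw⟩ := (yon S).map_surjective ((sq j).lift _ _ e)
    refine ⟨w, by rw [hw, IsPullback.lift_fst], (yon S).map_injective ?_⟩
    rw [Functor.map_comp, hw, IsPullback.lift_snd]
  choose w hw₁ hw₂ using @lift
  have ext' : ∀ {V : Over S} {i : I} {a b : V ⟶ W i},
      (yon S).map a ≫ p i = (yon S).map b ≫ p i → a ≫ q i = b ≫ q i → a = b := fun {V i a b} h₁ h₂ =>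
    (yon S).map_injective ((sq i).hom_ext h₁ (by rw [← Functor.map_comp, h₂, Functor.map_comp]))
  let E : I ⥤ Over S :=
    { obj := W
      map := fun m => w m
      map_id := fun k => ext' (by rw [hw₁]; simp) (by rw [hw₂]; simp)
      map_comp := fun {k l n} m m' => ext'
        (by rw [hw₁, Functor.map_comp (yon S), Category.assoc, hw₁, reassoc_of% hw₁]; simp)
        (by rw [hw₂, Category.assoc, hw₂, hw₂]) }
  have haff : ∀ i, IsAffine (W i).left := fun i => have := hq i; isAffine_of_isAffineHom (q i).left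
  have hEaff : ∀ i, IsAffine ((E ⋙ Over.forget S).obj i) := haff
  have : ∀ (i j : I) (m : i ⟶ j), IsAffineHom ((E ⋙ Over.forget S).map m) := fun i j m => inferInstance
  obtain ⟨L, hL, hLaff⟩ := Groth.Limits.exists_limit_of_isAffineHom (E ⋙ Over.forget S)
  have := IsCofiltered.isConnected (C := I)
  obtain ⟨i₀⟩ := IsCofiltered.nonempty (C := I)
  let L' : Cone E :=
    { pt := Over.mk (L.π.app i₀ ≫ (E.obj i₀).hom)
      π :=
        { app := fun i => Over.homMk (L.π.app i) (constant_of_preserves_morphisms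
            (fun i => L.π.app i ≫ (E.obj i).hom) (fun i j φ => by
              rw [← L.w φ, Category.assoc]
              exact congrArg (L.π.app i ≫ ·) (Over.w (E.map φ)).symm) i i₀)
          naturality := fun i j φ => Over.OverMorphism.ext (L.π.naturality φ) } }
  have hL' : IsLimit L' := isLimitOfReflects (Over.forget S) (IsLimit.ofIsoLimit hL (Cone.ext (Iso.refl _)))
  have hyL := isLimitOfPreserves (yon S) hL'
  have hbot : ∀ i, L'.π.app i ≫ q i = L'.π.app i₀ ≫ q i₀ := fun i =>
    constant_of_preserves_morphisms (fun i => L'.π.app i ≫ q i) (fun i j φ => by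
      rw [← L'.w φ, Category.assoc]
      exact congrArg (L'.π.app i ≫ ·) (hw₂ φ).symm) i i₀
  let cc : Cone DX :=
    { pt := (yon S).obj L'.pt
      π :=
        { app := fun i => (yon S).map (L'.π.app i) ≫ p i
          naturality := fun i j m => by
            show 𝟙 _ ≫ (yon S).map (L'.π.app j) ≫ p j = ((yon S).map (L'.π.app i) ≫ p i) ≫ DX.map m
            rw [Category.id_comp, Category.assoc, ← hw₁ m, ← Category.assoc, ← Functor.map_comp]
            exact congrArg (fun x => (yon S).map x ≫ p j) (L'.w m).symm } }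
  have htop : ∀ i, hcX.lift cc ≫ cX.π.app i = (yon S).map (L'.π.app i) ≫ p i := hcX.fac cc
  have hLaff' : IsAffine L.pt := by
    have : IsAffineHom (L.π.app i₀) := hLaff i₀
    exact isAffine_of_isAffineHom (L.π.app i₀)
  refine ⟨⟨E, L', IsLimit.ofIsoLimit hL (Cone.ext (Iso.refl _)), haff, hLaff'⟩, q, p,
    L'.π.app i₀ ≫ q i₀, hcX.lift cc, sq, hbot, ?_⟩
  have hwy : hcX.lift cc ≫ g = (yon S).map (L'.π.app i₀ ≫ q i₀) ≫ y := hcY.hom_ext fun i => by
    rw [Category.assoc, hg, reassoc_of% (htop i), (sq i).w, ← Category.assoc, ← Functor.map_comp, hbot,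
      Category.assoc]
  let sc : ∀ s : PullbackCone g y, Cone (E ⋙ yon S) := fun s =>
    { pt := s.pt
      π :=
        { app := fun i => (sq i).lift (s.fst ≫ cX.π.app i) s.snd (by
            rw [Category.assoc, ← hg, ← Category.assoc, s.condition, Category.assoc])
          naturality := fun i j m => by
            dsimp
            rw [Category.id_comp]
            apply (sq j).hom_ext
            · rw [IsPullback.lift_fst, Category.assoc]
              erw [hw₁]
              rw [IsPullback.lift_fst_assoc, Category.assoc, cX.w]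
            · rw [IsPullback.lift_snd, Category.assoc, ← Functor.map_comp]
              erw [hw₂]
              rw [IsPullback.lift_snd] } }
  refine ⟨⟨hwy⟩, ⟨PullbackCone.IsLimit.mk _ (fun s => hyL.lift (sc s)) (fun s => ?_) (fun s => ?_)
    (fun s m h₁ h₂ => ?_)⟩⟩
  · refine hcX.hom_ext fun i => ?_
    rw [Category.assoc, htop, ← Category.assoc]
    erw [hyL.fac (sc s) i]
    exact IsPullback.lift_fst _ _ _ _
  · rw [Functor.map_comp, ← Category.assoc]
    erw [hyL.fac (sc s) i₀]
    exact IsPullback.lift_snd _ _ _ _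
  · refine hyL.hom_ext fun i => ?_
    rw [hyL.fac]
    apply (sq i).hom_ext
    · erw [IsPullback.lift_fst]
      rw [Category.assoc, ← h₁, Category.assoc, htop]
      rfl
    · erw [IsPullback.lift_snd]
      rw [Category.assoc, ← h₂, ← hbot i, Functor.map_comp]
      rfl

theorem repWith_isClosedImmersion_limMap {DX DY : I ⥤ Sp S} (τ : DX ⟶ DY)
    (hτ : ∀ i, RepWith @IsClosedImmersion (τ.app i)) {cX : Cone DX} (hcX : IsLimit cX)
    {cY : Cone DY} (hcY : IsLimit cY) (g : cX.pt ⟶ cY.pt)
    (hg : ∀ i, g ≫ cY.π.app i = cX.π.app i ≫ τ.app i) : RepWith @IsClosedImmersion g := by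
  refine repWith_of_affWith fun T hT y => ?_
  obtain ⟨A, q, p, bot, top, sq, hbot, hsq⟩ := exists_fibre_affSys τ
    (fun i => repWith_mono (fun _ _ f (_ : IsClosedImmersion f) => (inferInstance : IsAffineHom f)) (hτ i))
    hcX hcY g hg y
  refine ⟨A.c.pt, bot, top, hsq, A.affPt, IsClosedImmersion.of_surjective_of_isAffine _ fun x => ?_⟩
  obtain ⟨i, z, rfl⟩ := exists_appTop_π_eq_of_isAffine_of_isLimit (A.D ⋙ Over.forget S) _ A.isLimit x
  have : IsClosedImmersion (q i).left := (hτ i).property _ (p i) (q i) (sq i)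
  obtain ⟨t, rfl⟩ := (IsClosedImmersion.isAffine_surjective_of_isAffine (q i).left).2 z
  refine ⟨t, ?_⟩
  rw [← hbot i, Over.comp_left, Scheme.Hom.comp_appTop, CommRingCat.comp_apply]
  rfl

end Groth.SpLimit
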