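import Groth.Agent.SpLimit.Charts
import Groth.Agent.Limits.TopLimit
import Groth.Agent.EssDimH.Points

/-!
# Points of limits of algebraic spaces
-/

set_option autoImplicit false
set_option backward.isDefEq.respectTransparency false
set_option backward.isDefEq.respectTransparency.types false

universe u

open CategoryTheory CategoryTheory.Limits AlgebraicGeometry Opposite AlgSp
open Groth.AlgSpBasic

noncomputable section

namespace Groth.SpLimit

variable {S : Scheme.{u}} {I : Type u} [SmallCategory I] [IsCofiltered I] {D : I ⥤ Sp S} {c : Cone D}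

variable (D) (hDa : ∀ (i j : I) (φ : i ⟶ j), IsAffineMor (D.map φ)) (hc : IsLimit c)

include hDa hc

/-- The points of a limit carry the topology induced by the projections. -/
theorem points_topology (hD : ∀ i, IsAlgSpace (D.obj i)) :
    Points.topologicalSpace c.pt =
      ⨅ i, TopologicalSpace.induced (Points.map (c.π.app i)) (Points.topologicalSpace (D.obj i)) := by
  refine le_antisymm (le_iInf fun i => continuous_iff_le_induced.1 (Points.continuous_map _)) ?_
  intro U hU
  have hU' : IsOpen U := hU
  refine (@isOpen_iff_forall_mem_open _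
    (⨅ i, TopologicalSpace.induced (Points.map (c.π.app i)) (Points.topologicalSpace (D.obj i))) U).2 fun x hx => ?_
  obtain ⟨i⟩ := IsCofiltered.nonempty (C := I)
  obtain ⟨T, g, he, hs⟩ := (hD i).atlas
  obtain ⟨P⟩ := nonempty_pullSys D hDa hc i g
  obtain ⟨l, rfl⟩ := surjective_ofPt_of_repWith (P.repWith_top hs) x
  obtain ⟨k, V, hlV, hV⟩ := Groth.Limits.exists_preimage_π_subset_of_isOpen (P.E ⋙ Over.forget S)
    ((Over.forget S).mapCone P.L) P.isLimit
    (hU'.preimage (Points.continuous_ofPt P.top)) hx
  let W : Set (Points (D.obj k.left)) := Points.ofPt (P.p k) '' (V : Set ((P.E ⋙ Over.forget S).obj k))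
  refine ⟨Points.map (c.π.app k.left) ⁻¹' W, fun y hy => ?_, ?_, ?_⟩
  · obtain ⟨v, hv, hvy⟩ := hy
    obtain ⟨l', hl', hlv⟩ := (map_eq_ofPt_iff (P.sq_π k) y v).1 hvy.symm
    subst hl'
    exact hV l' (show (P.L.π.app k).left l' ∈ V from hlv ▸ hv)
  · exact iInf_le (fun i => TopologicalSpace.induced (Points.map (c.π.app i)) (Points.topologicalSpace (D.obj i)))
      k.left _ ⟨W, isOpenMap_ofPt_of_etale (P.repWith_p he k) _ (show IsOpen (V : Set ((P.E ⋙ Over.forget S).obj k)) from V.isOpen), rfl⟩
  · refine ⟨_, hlV, ?_⟩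
    rw [Points.map_ofPt, P.top_π k, ofPt_comp_yon]
    rfl

theorem exists_point_system (hD : ∀ i, IsAlgSpace (D.obj i)) (hdec : ∀ i, IsDecent (D.obj i))
    (s : ∀ i, Points (D.obj i)) (hs : ∀ (i j : I) (φ : i ⟶ j), Points.map (D.map φ) (s i) = s j) :
    ∃ x : Points c.pt, (∀ i, Points.map (c.π.app i) x = s i) ∧
      ∀ x', (∀ i, Points.map (c.π.app i) x' = s i) → x' = x := by
  choose p hp hmono hqc using fun i => hdec i (s i)
  have hrep : ∀ i, Representable (p i).toHom := fun i => (hD i).representable_from_yon _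
  have hlift : ∀ {i j : I} (φ : i ⟶ j), ∃ w : (p i).pt ⟶ (p j).pt,
      (yon S).map w ≫ (p j).toHom = (p i).toHom ≫ D.map φ := fun {i j} φ => by
    have := hmono j
    obtain ⟨w, hw⟩ := Groth.EssDimH.exists_factor (p j) ((p i).map (D.map φ)) (hrep j)
      (by rw [← Points.map_mk, hp, hp, hs])
    rw [FieldPt.toHom_map] at hw
    exact ⟨w, hw⟩
  choose w hw using @hlift
  have ext' : ∀ {V : Over S} {j : I} {a b : V ⟶ (p j).pt},
      (yon S).map a ≫ (p j).toHom = (yon S).map b ≫ (p j).toHom → a = b := fun {V j a b} h =>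
    have := hmono j
    (yon S).map_injective ((cancel_mono _).1 h)
  let E : I ⥤ Over S :=
    { obj := fun i => (p i).pt
      map := fun φ => w φ
      map_id := fun i => ext' (by simp [hw])
      map_comp := fun {i j k} φ ψ => ext' (by
        rw [hw, Functor.map_comp (yon S), Category.assoc, hw, reassoc_of% hw, D.map_comp]) }
  let τ : E ⋙ yon S ⟶ D :=
    { app := fun i => (p i).toHom
      naturality := fun i j φ => hw φ }
  have haff : ∀ i, IsAffine ((E ⋙ Over.forget S).obj i) := fun i =>
    inferInstanceAs (IsAffine (Spec _))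
  have : ∀ (i j : I) (φ : i ⟶ j), IsAffineHom ((E ⋙ Over.forget S).map φ) := fun i j φ => inferInstance
  obtain ⟨L, hL, hLaff⟩ := Groth.Limits.exists_limit_of_isAffineHom (E ⋙ Over.forget S)
  have := IsCofiltered.isConnected (C := I)
  obtain ⟨i₀⟩ := IsCofiltered.nonempty (C := I)
  let L' : Cone E :=
    { pt := Over.mk (L.π.app i₀ ≫ (E.obj i₀).hom)
      π :=
        { app := fun i => Over.homMk (L.π.app i) (constant_of_preserves_morphisms
            (fun i => L.π.app i ≫ (E.obj i).hom) (fun i j φ => by
              rw [← L.w φ, Category.assoc]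
              exact congrArg (L.π.app i ≫ ·) (Over.w (E.map φ)).symm) i i₀)
          naturality := fun i j φ => Over.OverMorphism.ext (L.π.naturality φ) } }
  have hL' : IsLimit L' := isLimitOfReflects (Over.forget S) (IsLimit.ofIsoLimit hL (Cone.ext (Iso.refl _)))
  have hyL := isLimitOfPreserves (yon S) hL'
  let P : (yon S).obj L'.pt ⟶ c.pt := hc.lift ((Cone.postcompose τ).obj ((yon S).mapCone L'))
  have hP : ∀ i, P ≫ c.π.app i = (yon S).map (L'.π.app i) ≫ (p i).toHom := fun i => hc.fac _ i
  have : ∀ i, Nonempty ((E ⋙ Over.forget S).obj i) := fun i =>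
    inferInstanceAs (Nonempty (Spec (CommRingCat.of (p i).K)))
  have : ∀ i, CompactSpace ((E ⋙ Over.forget S).obj i) := fun i =>
    have := haff i
    inferInstance
  obtain ⟨z⟩ := Scheme.nonempty_of_isLimit (E ⋙ Over.forget S) L hL
  have huniq : ∀ z' : L.pt, z' = z := fun z' => Groth.Limits.eq_of_forall_π_eq (E ⋙ Over.forget S) L hL
    fun i => Subsingleton.elim (α := ↥(Spec (CommRingCat.of (p i).K))) _ _
  refine ⟨Points.ofPt P z, fun i => ?_, fun x' hx' => ?_⟩
  · rw [Points.map_ofPt, hP, ofPt_comp_yon]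
    exact (Points.ofPt_toHom (p i) _).trans (hp i)
  · obtain ⟨q, rfl⟩ := Points.mk_surjective x'
    have hq : ∀ i, ∃ a : q.pt ⟶ (p i).pt, (yon S).map a ≫ (p i).toHom = q.toHom ≫ c.π.app i := fun i => by
      have := hmono i
      obtain ⟨a, ha⟩ := Groth.EssDimH.exists_factor (p i) (q.map (c.π.app i)) (hrep i)
        (by rw [← Points.map_mk, hp, hx'])
      rw [FieldPt.toHom_map] at ha
      exact ⟨a, ha⟩
    choose a ha using hq
    let cq : Cone E :=
      { pt := q.pt
        π :=
          { app := a
            naturality := fun i j φ => (Category.id_comp _).trans (ext' (by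
              rw [Functor.map_comp, Category.assoc, hw, reassoc_of% ha, c.w, ha])) } }
    have hP' : (yon S).map (hL'.lift cq) ≫ P = q.toHom := hc.hom_ext fun i => by
      rw [Category.assoc, hP, ← Category.assoc, ← Functor.map_comp, hL'.fac, ha]
    rw [← Points.ofPt_toHom q (IsLocalRing.closedPoint q.K), ← hP', ofPt_comp_yon]
    exact congrArg (Points.ofPt P) (huniq _)

end Groth.SpLimit
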