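import Groth.Agent.SpLimit.AffineEventual
import Groth.Agent.SpLimit.AffinePropStage
import Groth.Agent.SpLimit.SchemeModel

/-!
# Properties of affine morphisms to a fixed base are eventual
-/

set_option autoImplicit false
set_option backward.isDefEq.respectTransparency false
set_option backward.isDefEq.respectTransparency.types false

universe u

open CategoryTheory CategoryTheory.Limits AlgebraicGeometry Opposite AlgSp
open Groth.AlgSpBasic

noncomputable section

namespace Groth.SpLimit

/-- A property of the map from an affine limit to an affine scheme holding at a later stage. -/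
def EventualApp (M P Q : MorphismProperty Scheme.{u}) (S : Scheme.{u}) : Prop :=
  ∀ ⦃J : Type u⦄ [SmallCategory J] [IsCofiltered J] (A : AffSys S J) (V : Over S) [IsAffine V.left]
    (t : A.D ⟶ (Functor.const J).obj V) (i : J),
    (∀ (j k : J) (m : j ⟶ k), M (A.D.map m).left) → (∀ j, LocallyOfFiniteType (t.app j).left) →
    P (A.c.π.app i ≫ t.app i).left → ∃ k : J, Q (t.app k).left

variable {S : Scheme.{u}}

theorem eventualApp_isClosedImmersion :
    EventualApp @IsClosedImmersion @IsClosedImmersion @IsClosedImmersion S := by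
  intro J _ _ A V _ t i hm hft h
  let t' : A.D ⋙ Over.forget S ⟶ (Functor.const J).obj V.left :=
    { app := fun j => (t.app j).left
      naturality := fun j k m => by
        show (A.D.map m).left ≫ (t.app k).left = (t.app j).left ≫ 𝟙 _
        rw [Category.comp_id, ← Over.comp_left, t.naturality]
        simp }
  have : ∀ j, IsAffine ((A.D ⋙ Over.forget S).obj j) := A.aff
  have : ∀ j, IsAffine (((Functor.const J).obj V.left).obj j) := fun _ => ‹IsAffine V.left›
  have : ∀ j, QuasiCompact (t'.app j) := fun j => inferInstance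
  have : ∀ j, QuasiSeparated (t'.app j) := fun j => inferInstance
  have : ∀ j, LocallyOfFiniteType (t'.app j) := hft
  have : IsClosedImmersion (((Over.forget S).mapCone A.c).π.app i ≫ t'.app i) := h
  obtain ⟨k, hk⟩ := Groth.Limits.exists_isClosedImmersion_app t' A.isLimit i hm
  exact ⟨k, hk k (𝟙 k)⟩

theorem eventualApp_isFinite : EventualApp @IsFinite @IsIntegralHom @IsFinite S := by
  intro J _ _ A V _ t i hm hft h
  let t' : A.D ⋙ Over.forget S ⟶ (Functor.const J).obj V.left :=
    { app := fun j => (t.app j).left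
      naturality := fun j k m => by
        show (A.D.map m).left ≫ (t.app k).left = (t.app j).left ≫ 𝟙 _
        rw [Category.comp_id, ← Over.comp_left, t.naturality]
        simp }
  have : ∀ j, IsAffine ((A.D ⋙ Over.forget S).obj j) := A.aff
  have : ∀ j, IsAffine (((Functor.const J).obj V.left).obj j) := fun _ => ‹IsAffine V.left›
  have : ∀ j, QuasiCompact (t'.app j) := fun j => inferInstance
  have : ∀ j, QuasiSeparated (t'.app j) := fun j => inferInstance
  have : ∀ j, LocallyOfFiniteType (t'.app j) := hft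
  have : IsIntegralHom (((Over.forget S).mapCone A.c).π.app i ≫ t'.app i) := h
  obtain ⟨k, hk⟩ := Groth.Limits.exists_isFinite_app t' A.isLimit i hm
  exact ⟨k, hk k (𝟙 k)⟩

variable [QuasiSeparatedSpace S] {I : Type u} [SmallCategory I] [IsCofiltered I]
  {D : I ⥤ Sp S} {c : Cone D}

theorem exists_affWith_app (hc : IsLimit c) (hD : ∀ i, IsAlgSpace (D.obj i))
    {M P Q : MorphismProperty Scheme.{u}} [M.IsStableUnderBaseChange] [P.IsStableUnderBaseChange]
    [IsZariskiLocalAtTarget P] [Q.IsStableUnderBaseChange] [IsZariskiLocalAtTarget Q]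
    [Q.IsStableUnderComposition]
    [Q.DescendsAlong (@Surjective ⊓ @Flat ⊓ @QuasiCompact)]
    (hM : M ≤ @IsAffineHom) (hMQ : M ≤ Q) (hP : P ≤ @IsAffineHom) (hQ : Q ≤ @IsAffineHom)
    (hev : EventualApp M P Q S)
    (hDM : ∀ (i j : I) (φ : i ⟶ j), RepWith M (D.map φ))
    (hqc : ∀ i, IsQuasiCompactSp (D.obj i)) (hqs : ∀ i, IsQuasiSeparatedSp (D.obj i))
    {Y : Sp S} (hY : IsAlgSpace Y) (hYqc : IsQuasiCompactSp Y) (hYqs : IsQuasiSeparatedSp Y)
    (t : D ⟶ (Functor.const I).obj Y) (g : c.pt ⟶ Y) (hg : ∀ i, c.π.app i ≫ t.app i = g)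
    (hft : ∀ i, LocP @LocallyOfFiniteType (t.app i)) (hX : RepWith P g) :
    ∃ i₀ : I, ∀ (i : I) (_ : i ⟶ i₀), AffWith Q (t.app i) := by
  have hDa : ∀ (i j : I) (φ : i ⟶ j), IsAffineMor (D.map φ) := fun i j φ =>
    isAffineMor_iff_repWith.2 (repWith_mono (fun _ _ g hg => hM g hg) (hDM i j φ))
  obtain ⟨i₁, h₁⟩ := exists_isAffineMor_app hc hD hDa hqc hqs hY hYqc hYqs t g hg
    (isAffineMor_iff_repWith.2 (repWith_mono (fun _ _ g hg => hP g hg) hX))
  obtain ⟨V, b, hV, hbe, hbs⟩ := exists_affine_chart hY hYqc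
  let D₁ : Over i₁ ⥤ Sp S := Over.forget i₁ ⋙ D
  let t₁ : D₁ ⟶ (Functor.const (Over i₁)).obj Y := Functor.whiskerLeft (Over.forget i₁) t
  have hg₁ : ∀ k, (c.whisker (Over.forget i₁)).π.app k ≫ t₁.app k = g := fun k => hg k.left
  have := IsCofiltered.isConnected (C := Over i₁)
  obtain ⟨hc'⟩ := nonempty_isLimit_bcCone t₁ b (c := c.whisker (Over.forget i₁)) hg₁
    ((Functor.Initial.isLimitWhiskerEquiv (Over.forget i₁) c).symm hc)
  have hrep : ∀ k, ∃ W : Over S, IsAffine W.left ∧ Nonempty ((yon S).obj W ≅ (bcSys t₁ b).obj k) :=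
    fun k => by
      obtain ⟨W, w, a, sq, hW⟩ := h₁ k.left k.hom hV b
      exact ⟨W, hW, ⟨sq.isoPullback⟩⟩
  obtain ⟨E, ⟨eE⟩⟩ := exists_scheme_system (bcSys t₁ b) fun k => by
    obtain ⟨W, -, h⟩ := hrep k; exact ⟨W, h⟩
  have haff : ∀ k, IsAffine (E.obj k).left := fun k => by
    obtain ⟨W, hW, ⟨w⟩⟩ := hrep k
    let i := (Over.forget S).mapIso ((yon S).preimageIso (w ≪≫ (eE.app k).symm))
    have : IsAffine ((Over.forget S).obj W) := hW
    exact IsAffine.of_isIso i.inv
  have hEM : ∀ (k l : Over i₁) (m : k ⟶ l), M (E.map m).left := fun k l m => by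
    have hm : RepWith M ((bcSys t₁ b).map m) :=
      repWith_of_isPullback (isPullback_bcSys_map t₁ b m) (hDM _ _ m.left)
    have hm' : RepWith M ((yon S).map (E.map m)) :=
      ((RepWith M).arrow_mk_iso_iff (Arrow.isoMk (eE.app k) (eE.app l) (eE.hom.naturality m).symm)).2 hm
    exact hm'.property (𝟙 _) (𝟙 _) (E.map m) (IsPullback.of_horiz_isIso ⟨by simp⟩)
  have : ∀ (k l : Over i₁) (m : k ⟶ l), IsAffineHom (E.map m).left := fun k l m => hM _ (hEM k l m)
  obtain ⟨cE, e, he, ⟨hcE⟩⟩ := exists_scheme_cone E ((IsLimit.postcomposeHomEquiv eE.symm _).symm hc')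
  let tE : E ⟶ (Functor.const (Over i₁)).obj V :=
    { app := fun k => (yon S).preimage (eE.hom.app k ≫ pullback.snd (t₁.app k) b)
      naturality := fun k l m => (yon S).map_injective (by
        rw [Functor.map_comp, Functor.map_comp, (yon S).map_preimage, (yon S).map_preimage]
        have h := eE.hom.naturality m
        simp only [Functor.comp_map] at h
        rw [reassoc_of% h, bcSys_map_snd]
        simp) }
  have htE : ∀ k, (yon S).map (tE.app k) = eE.hom.app k ≫ pullback.snd (t₁.app k) b :=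
    fun k => (yon S).map_preimage _
  have sqE : ∀ k, IsPullback (eE.hom.app k ≫ pullback.fst (t₁.app k) b) ((yon S).map (tE.app k))
      (t₁.app k) b := fun k =>
    (IsPullback.of_hasPullback (t₁.app k) b).of_iso (eE.app k).symm (Iso.refl _) (Iso.refl _)
      (Iso.refl _) (by simp) (by simp [htE]) (by simp) (by simp)
  have haffPt : IsAffine cE.pt.left := by
    obtain ⟨W, w, a, sq, hW⟩ := (isAffineMor_iff_repWith.2 (repWith_mono (fun _ _ g hg => hP g hg) hX)) hV b
    let i := (Over.forget S).mapIso ((yon S).preimageIso (sq.isoPullback ≪≫ e.symm))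
    have : IsAffine ((Over.forget S).obj W) := hW
    exact IsAffine.of_isIso i.inv
  let A : AffSys S (Over i₁) :=
    { D := E
      c := cE
      isLimit := hcE
      aff := haff
      affPt := haffPt }
  let k₀ : Over i₁ := Over.mk (𝟙 i₁)
  have hlim : P (cE.π.app k₀ ≫ tE.app k₀).left := by
    refine (repWith_yon_map_iff P _).1 ?_
    have h₂ : (yon S).map (cE.π.app k₀ ≫ tE.app k₀) = e.hom ≫ pullback.snd g b := by
      rw [Functor.map_comp, htE, ← he k₀]
      simp [bcCone]
    rw [h₂]
    exact (MorphismProperty.cancel_left_of_respectsIso (RepWith P) e.hom _).2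
      (repWith_of_isPullback (IsPullback.of_hasPullback g b) hX)
  obtain ⟨k, hk⟩ := hev A V tE k₀ hEM (fun k => prop_of_locP_yon (locP_of_isPullback (hD k.left) hY
    (IsAlgSpace.yon_obj V) (sqE k) (hft k.left))) hlim
  refine ⟨k.left, fun i φ => affWith_of_repWith hQ ?_⟩
  have h₀ : RepWith Q (t.app k.left) := repWith_of_affWith (affWith_of_cover hY hbe hbs (sqE k)
    (affWith_of_repWith hQ ((repWith_yon_map_iff Q _).2 hk)))
  rw [← map_comp_app' t φ]
  exact repWith_comp (repWith_mono (fun _ _ g hg => hMQ g hg) (hDM i k.left φ)) h₀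

end Groth.SpLimit
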