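import Groth.Agent.SpLimit.AlgClosedSchematic
import Groth.Agent.AlgSpBasic.DenseScheme
import Groth.Agent.AlgSpBasic.MonoDiscrete
import Groth.Agent.AlgSpBasic.DecentCriteria
import Groth.Agent.AlgSpBasic.DecentFiniteFibre
import Groth.Agent.AlgSp3.ShriekEquiv
import Groth.Prelude.Def_AlgSpGpd

/-!
# Separated group spaces over a field become schemes over an algebraically closed field
-/

set_option autoImplicit false
set_option backward.isDefEq.respectTransparency false
set_option backward.isDefEq.respectTransparency.types false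

universe u

open CategoryTheory CategoryTheory.Limits AlgebraicGeometry Opposite AlgSp MonoidalCategory MonObj
open Groth.AlgSpBasic

noncomputable section

namespace Groth.SpLimit

variable {k : Type u} [Field k]

/-- Two points over a field are defined over a common extension of it. -/
theorem exists_common_field {K : Type u} [Field K] [Algebra k K] {X : Sp (kSpec k)}
    (f : X ⟶ (yon _).obj (kOver k K)) (x y : Points X) :
    ∃ (L : Type u) (_ : Field L) (_ : Algebra k L) (_ : Algebra K L) (_ : IsScalarTower k K L)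
      (a b : (yon _).obj (kOver k L) ⟶ X) (pt : ↥(kOver k L).left),
      a ≫ f = (yon _).map (kOverMap K L (IsScalarTower.toAlgHom k K L)) ∧
      b ≫ f = (yon _).map (kOverMap K L (IsScalarTower.toAlgHom k K L)) ∧
      Points.ofPt a pt = x ∧ Points.ofPt b pt = y := by
  obtain ⟨W₀, g₀, w₀, rfl⟩ := exists_ofPt x
  obtain ⟨W₁, g₁, w₁, rfl⟩ := exists_ofPt y
  obtain ⟨φ₀, hφ₀⟩ := (yon (kSpec k)).map_surjective (g₀ ≫ f)
  obtain ⟨φ₁, hφ₁⟩ := (yon (kSpec k)).map_surjective (g₁ ≫ f)
  obtain ⟨w, hw₀, hw₁⟩ := Scheme.Pullback.exists_preimage_pullback (f := φ₀.left) (g := φ₁.left)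
    w₀ w₁ (Subsingleton.elim (α := PrimeSpectrum K) _ _)
  let L := (pullback φ₀.left φ₁.left).residueField w
  let j : Spec L ⟶ pullback φ₀.left φ₁.left := (pullback φ₀.left φ₁.left).fromSpecResidueField w
  obtain ⟨φ, hφ⟩ := Spec.map_surjective (R := CommRingCat.of K) (j ≫ pullback.fst _ _ ≫ φ₀.left)
  let _ : Algebra K L := φ.hom.toAlgebra
  let _ : Algebra k L := ((algebraMap K L).comp (algebraMap k K)).toAlgebra
  have : IsScalarTower k K L := IsScalarTower.of_algebraMap_eq (fun _ => rfl)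
  let iL := kOverMap K L (IsScalarTower.toAlgHom k K L)
  have hiL : iL.left = j ≫ pullback.fst _ _ ≫ φ₀.left := by
    rw [← hφ]; rfl
  let p₀ : kOver k L ⟶ W₀ := Over.homMk (j ≫ pullback.fst _ _) (by
    rw [← Over.w φ₀, ← Over.w iL, hiL]
    simp only [Category.assoc])
  let p₁ : kOver k L ⟶ W₁ := Over.homMk (j ≫ pullback.snd _ _) (by
    rw [← Over.w φ₁, ← Over.w iL, hiL]
    simp only [Category.assoc, pullback.condition_assoc])
  have e₀ : p₀ ≫ φ₀ = iL := Over.OverMorphism.ext (by rw [hiL]; simp [p₀])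
  have e₁ : p₁ ≫ φ₁ = iL := Over.OverMorphism.ext (by
    rw [hiL, pullback.condition]; simp [p₁])
  refine ⟨L, inferInstance, inferInstance, inferInstance, this, (yon _).map p₀ ≫ g₀,
    (yon _).map p₁ ≫ g₁, IsLocalRing.closedPoint L, ?_, ?_, ?_, ?_⟩
  · rw [Category.assoc, ← hφ₀, ← Functor.map_comp, e₀]
  · rw [Category.assoc, ← hφ₁, ← Functor.map_comp, e₁]
  · rw [ofPt_comp_yon]
    refine congrArg _ ?_
    show (pullback.fst φ₀.left φ₁.left) (j _) = w₀
    rw [Scheme.fromSpecResidueField_apply, hw₀]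
  · rw [ofPt_comp_yon]
    refine congrArg _ ?_
    show (pullback.snd φ₀.left φ₁.left) (j _) = w₁
    rw [Scheme.fromSpecResidueField_apply, hw₁]

variable (G : Over ((yon (kSpec k)).obj (Over.mk (𝟙 (kSpec k))))) [GrpObj G]

/-- A rational point of a base change of a group is schematic as soon as one is. -/
theorem isSchematicPt_translate {T : Over (kSpec k)} (a b : (yon (kSpec k)).obj T ⟶ G.left)
    (t : ↥T.left)
    (h : IsSchematicPt (G.left ⨯ (yon _).obj T) (Points.ofPt (prod.lift b (𝟙 _)) t)) :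
    IsSchematicPt (G.left ⨯ (yon _).obj T) (Points.ofPt (prod.lift a (𝟙 _)) t) := by
  let B := (yon (kSpec k)).obj (Over.mk (𝟙 (kSpec k)))
  have hB : IsTerminal B := IsTerminal.isTerminalObj (yon _) _ Over.mkIdTerminal
  let Sd : Over B := Over.mk (hB.from ((yon _).obj T))
  let Pd : Over B := Over.mk (hB.from (G.left ⨯ (yon _).obj T))
  let F : Pd ⟶ G := Over.homMk prod.fst (hB.hom_ext _ _)
  let Sn : Pd ⟶ Sd := Over.homMk prod.snd (hB.hom_ext _ _)
  let σ : (Sd ⟶ G) → (Pd ⟶ Pd) := fun c =>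
    Over.homMk (prod.lift (F * (Sn ≫ c)).left prod.snd) (hB.hom_ext _ _)
  have hσF : ∀ c, σ c ≫ F = F * (Sn ≫ c) := fun c => Over.OverMorphism.ext (prod.lift_fst _ _)
  have hσS : ∀ c, σ c ≫ Sn = Sn := fun c => Over.OverMorphism.ext (prod.lift_snd _ _)
  have hext : ∀ {Q : Over B} (p q : Q ⟶ Pd), p ≫ F = q ≫ F → p ≫ Sn = q ≫ Sn → p = q :=
    fun p q h₁ h₂ => Over.OverMorphism.ext
      (prod.hom_ext (congrArg CommaMorphism.left h₁) (congrArg CommaMorphism.left h₂))
  have hinv : ∀ c d : Sd ⟶ G, c * d = 1 → σ c ≫ σ d = 𝟙 Pd := fun c d hcd => by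
    refine hext _ _ ?_ ?_
    · rw [Category.assoc, hσF, MonObj.comp_mul, hσF, ← Category.assoc, hσS, _root_.mul_assoc,
        ← MonObj.comp_mul, hcd, MonObj.comp_one, _root_.mul_one, Category.id_comp]
    · rw [Category.assoc, hσS, hσS, Category.id_comp]
  let A : Sd ⟶ G := Over.homMk a (hB.hom_ext _ _)
  let B' : Sd ⟶ G := Over.homMk b (hB.hom_ext _ _)
  let a' : Sd ⟶ Pd := Over.homMk (prod.lift a (𝟙 _)) (hB.hom_ext _ _)
  let b' : Sd ⟶ Pd := Over.homMk (prod.lift b (𝟙 _)) (hB.hom_ext _ _)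
  let c : Sd ⟶ G := A⁻¹ * B'
  have hA : a' ≫ F = A := Over.OverMorphism.ext (prod.lift_fst _ _)
  have hB' : b' ≫ F = B' := Over.OverMorphism.ext (prod.lift_fst _ _)
  have hAS : a' ≫ Sn = 𝟙 _ := Over.OverMorphism.ext (prod.lift_snd _ _)
  have hBS : b' ≫ Sn = 𝟙 _ := Over.OverMorphism.ext (prod.lift_snd _ _)
  have hac : a' ≫ σ c = b' := by
    refine hext _ _ ?_ ?_
    · rw [Category.assoc, hσF, MonObj.comp_mul, hA, ← Category.assoc, hAS, Category.id_comp, hB',
        mul_inv_cancel_left]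
    · rw [Category.assoc, hσS, hAS, hBS]
  have : IsIso (σ c).left := ⟨(σ c⁻¹).left,
    congrArg CommaMorphism.left (hinv c c⁻¹ (mul_inv_cancel c)),
    congrArg CommaMorphism.left (hinv c⁻¹ c (inv_mul_cancel c))⟩
  refine isSchematicPt_of_rep (f := (σ c).left)
    (repWith_isIso (P := @IsOpenImmersion) (σ c).left).rep ?_
  rw [Points.map_ofPt, show prod.lift a (𝟙 _) ≫ (σ c).left = prod.lift b (𝟙 _) from
    congrArg CommaMorphism.left hac]
  exact h

/-- A separated group space over a field is a scheme over an algebraically closed extension. -/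
theorem isRepresentable_group_algClosed (hG : IsAlgSpace G.left) (hqs : IsQuasiSeparatedSp G.left)
    (K : Type u) [Field K] [Algebra k K] [IsAlgClosed K] :
    (G.left ⨯ (yon (kSpec k)).obj (kOver k K)).obj.IsRepresentable := by
  let TK := kOver k K
  let X := G.left ⨯ (yon (kSpec k)).obj TK
  have hX : IsAlgSpace X := Groth.AlgSp3.isAlgSpace_prod hG (IsAlgSpace.yon_obj _)
  have : IsAffine (Over.mk (𝟙 (kSpec k))).left := inferInstanceAs (IsAffine (kSpec k))
  have hXqs : IsQuasiSeparatedSp X := isQuasiSeparatedSp_of_isPullback hX hqs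
    (isQuasiSeparatedSp_yon_affine _) (isQuasiSeparatedSp_yon_affine TK) (isPullback_fst_snd G.hom TK)
  refine isRepresentable_of_schematic ⟨X, hX⟩ fun (y : Points X) => ?_
  have : Nonempty (Points X) := ⟨y⟩
  obtain ⟨u₀, hu₀⟩ := (dense_isSchematicPt_of_isDecent hX (isDecent_of_qs hX hXqs)).nonempty
  obtain ⟨L, _, _, _, _, a, b, pt, ha, hb, rfl, rfl⟩ := exists_common_field (prod.snd : X ⟶ _) y u₀
  let iL := kOverMap K L (IsScalarTower.toAlgHom k K L)
  let π : G.left ⨯ (yon (kSpec k)).obj (kOver k L) ⟶ X := prod.map (𝟙 _) ((yon _).map iL)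
  have sqπ : IsPullback π prod.snd (prod.snd : X ⟶ _) ((yon _).map iL) :=
    (isPullback_prod_map_snd ((yon (kSpec k)).map iL) G.left).flip
  have hπ : Representable π :=
    MorphismProperty.of_isPullback (P := Representable) sqπ.flip (representable_yon_map iL)
  have haπ : prod.lift (a ≫ prod.fst) (𝟙 _) ≫ π = a := by
    apply prod.hom_ext
    · simp [π]
    · simp [π, ha]; rfl
  have hbπ : prod.lift (b ≫ prod.fst) (𝟙 _) ≫ π = b := by
    apply prod.hom_ext
    · simp [π]
    · simp [π, hb]; rfl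
  have hu : IsSchematicPt _ (Points.ofPt (prod.lift (b ≫ prod.fst) (𝟙 _)) pt) := by
    refine isSchematicPt_of_rep hπ ?_
    rw [Points.map_ofPt, hbπ]
    exact hu₀
  have hy := isSchematicPt_translate G (a ≫ prod.fst) (b ≫ prod.fst) pt hu
  -- a quasi-compact open neighbourhood
  obtain ⟨C, hCo, hCc, hCy, -⟩ := exists_compact_open_nhd hX (Set.finite_singleton (Points.ofPt a pt))
    isOpen_univ (Set.subset_univ _)
  let Z := openSub X C
  let jC : Z ⟶ X := openSubι X C
  have hjC : RepWith @IsOpenImmersion jC := repWith_openSubι hCo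
  have hZ : IsAlgSpace Z := isAlgSpace_openSub hX hCo
  have hZqs : IsQuasiSeparatedSp Z := isQuasiSeparatedSp_of_openImmersion hXqs hjC
  have hZqc : IsQuasiCompactSp Z := (isQuasiCompactSp_iff_compactSpace hZ).2
    ⟨((isEmbedding_map_of_immersion hX (repWith_mono
      (fun _ _ g (_ : IsOpenImmersion g) => (inferInstance : IsImmersion g)) hjC)).1).isCompact_iff.2
        (by rw [Set.image_univ, range_map_openSubι]; exact hCc)⟩
  obtain ⟨aZ, haZ⟩ := (openSub_exists_lift_iff X C a).2 fun t => by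
    rw [Subsingleton.elim (α := PrimeSpectrum L) t pt]
    exact hCy rfl
  let u : Z ⟶ (yon (kSpec k)).obj TK := jC ≫ prod.snd
  have sqP := IsPullback.of_hasPullback u ((yon (kSpec k)).map iL)
  let h := sqπ.lift (pullback.fst u ((yon (kSpec k)).map iL) ≫ jC) (pullback.snd _ _)
    (by rw [Category.assoc]; exact pullback.condition)
  have hh₁ : h ≫ π = pullback.fst u _ ≫ jC := sqπ.lift_fst _ _ _
  have hh₂ : h ≫ prod.snd = pullback.snd u _ := sqπ.lift_snd _ _ _
  have sqh : IsPullback (pullback.fst u ((yon (kSpec k)).map iL)) h jC π := by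
    refine IsPullback.of_bot ?_ hh₁.symm sqπ
    rw [hh₂]
    exact sqP
  let l : (yon (kSpec k)).obj (kOver k L) ⟶ pullback u ((yon (kSpec k)).map iL) :=
    pullback.lift aZ (𝟙 _) (by rw [← Category.assoc, haZ, Category.id_comp]; exact ha)
  have hl : l ≫ h = prod.lift (a ≫ prod.fst) (𝟙 _) := by
    apply sqπ.hom_ext
    · rw [Category.assoc, hh₁, ← Category.assoc, pullback.lift_fst, haZ, haπ]
    · rw [Category.assoc, hh₂, pullback.lift_snd, prod.lift_snd]
  have hlsch : IsSchematicPt _ (Points.ofPt l pt) := by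
    refine isSchematicPt_of_rep (MorphismProperty.of_isPullback (P := Representable) sqh hjC.rep) ?_
    rw [Points.map_ofPt, hl]
    exact hy
  obtain ⟨W, g, hg, z, hz⟩ := isSchematicPt_of_extension hZ hZqc hZqs u aZ
    (by rw [← Category.assoc, haZ]; exact ha) sqP l (pullback.lift_fst _ _ _)
    (pullback.lift_snd _ _ _) pt hlsch
  refine ⟨W, g ≫ jC, repWith_comp hg hjC, z, ?_⟩
  rw [← Points.map_ofPt, hz, Points.map_ofPt, haZ]

end Groth.SpLimit
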