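import Groth.Agent.SpLimit.GroupDim
import Groth.Agent.AlgSp2.GrpdAlg
import Groth.Agent.AlgSp3.ShriekEquiv
import Groth.Agent.AlgStBasic.SpaceProps

/-!
# The dimension of a groupoid space over a field at its points
-/

set_option autoImplicit false
set_option backward.isDefEq.respectTransparency false
set_option backward.isDefEq.respectTransparency.types false

universe u

open CategoryTheory CategoryTheory.Limits AlgebraicGeometry Opposite AlgSp
open Groth.AlgSpBasic

noncomputable section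

namespace Groth.SpLimit

variable {S : Scheme.{u}}

/-- The local dimension of a space over a field does not change under an extension of the field. -/
theorem hasAt_localDim_baseChange {k K : Type u} [Field k] [Field K]
    {σ : Spec (CommRingCat.of k) ⟶ S} {τ : Spec (CommRingCat.of K) ⟶ S}
    (v : Over.mk τ ⟶ Over.mk σ) {X P : Sp S} (hX : IsAlgSpace X) (hP : IsAlgSpace P)
    {q : X ⟶ (yon S).obj (Over.mk σ)} (hq : LocP @LocallyOfFiniteType q) {pr : P ⟶ X}
    {str : P ⟶ (yon S).obj (Over.mk τ)} (sq : IsPullback pr str q ((yon S).map v))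
    (z : Points P) (d : WithBot ℕ∞) :
    HasAt (fun U u => FlatMor.localDim ↥U u = d) X (Points.map pr z) ↔
      HasAt (fun U u => FlatMor.localDim ↥U u = d) P z := by
  obtain ⟨U, a, ha, has⟩ := hX.atlas
  obtain ⟨u, hu⟩ := surjective_ofPt_of_repWith has (Points.map pr z)
  obtain ⟨fU, hfU⟩ := (yon S).map_surjective (a ≫ q)
  have sqY := (IsPullback.of_hasPullback fU v).map (yon S)
  let m : (yon S).obj (pullback fU v) ⟶ P := sq.lift ((yon S).map (pullback.fst fU v) ≫ a)
    ((yon S).map (pullback.snd fU v)) (by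
      rw [Category.assoc, ← hfU, ← Functor.map_comp, ← Functor.map_comp, pullback.condition])
  have sqm : IsPullback m ((yon S).map (pullback.fst fU v)) pr a := by
    refine IsPullback.of_right ?_ (sq.lift_fst _ _ _) sq.flip
    rw [sq.lift_snd, ← hfU]
    exact sqY.flip
  have hm : RepWith @Etale m := repWith_of_isPullback sqm.flip ha
  obtain ⟨w, hw, hwu⟩ := (map_eq_ofPt_iff sqm z u).1 hu.symm
  obtain ⟨φ, hφ⟩ := Spec.map_surjective (R := CommRingCat.of k) (S := CommRingCat.of K) v.left
  have sqS : IsPullback (pullback.fst fU v).left (pullback.snd fU v).left fU.left (Spec.map φ) := by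
    rw [hφ]
    exact (IsPullback.of_hasPullback fU v).map (Over.forget _)
  have : LocallyOfFiniteType fU.left :=
    hq a (𝟙 _) fU ha (AlgSp.repWith_id _ _) (by rw [Category.comp_id, hfU])
  have e := Groth.FibreDim.localDim_eq_of_isPullback (k := k) (K := K) _ _ _ _ sqS w
  rw [show (pullback.fst fU v).left.base w = u from hwu] at e
  constructor
  · intro h
    exact ⟨_, m, w, hm, hw, e.trans ((hasAt_iff_forall etaleInvariant_localDim hX _ d).1 h U a u ha hu)⟩
  · rintro ⟨V, b, y, hb, hy, hd⟩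
    refine ⟨U, a, u, ha, hu, ?_⟩
    show FlatMor.localDim ↥U.left u = d
    rw [← e]
    exact (inv_eq_of_ofPt_eq etaleInvariant_localDim hP hm hb (hw.trans hy.symm)).trans hd

variable {B : Sp S} (G : AlgSp.GroupoidSp B) {k : Type u} [Field k]

/-- All points of the arrows of a groupoid over a field have the same local dimension. -/
theorem exists_hasAt_localDim_grpd {σ : Spec (CommRingCat.of k) ⟶ S}
    (eU : G.U ≅ (yon S).obj (Over.mk σ)) (hR : IsAlgSpace G.R)
    (hs : LocP @LocallyOfFiniteType G.s) :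
    ∃ (e : Points G.R) (d : WithBot ℕ∞),
      ∀ r : Points G.R, HasAt (fun U u => FlatMor.localDim ↥U u = d) G.R r := by
  have hU : IsAlgSpace G.U := (IsAlgSpace.yon_obj _).of_iso eU.symm
  let o₀ : ↥(Over.mk σ).left := (⟨⊥, Ideal.isPrime_bot⟩ : PrimeSpectrum k)
  let e := Points.ofPt (eU.inv ≫ G.e) o₀
  obtain ⟨U, a, ha, has⟩ := hR.atlas
  obtain ⟨u, hu⟩ := surjective_ofPt_of_repWith has e
  refine ⟨e, FlatMor.localDim ↥U.left u, fun r => ?_⟩
  have he : HasAt (fun V v => FlatMor.localDim ↥V v = FlatMor.localDim ↥U.left u) G.R e :=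
    ⟨U, a, u, ha, hu, rfl⟩
  obtain ⟨T, b₀, t, rfl⟩ := exists_ofPt r
  let C := T.left.residueField t
  let TC : Over S := Over.mk (T.left.fromSpecResidueField t ≫ T.hom)
  let pC : TC ⟶ T := Over.homMk (T.left.fromSpecResidueField t) rfl
  let pt : ↥TC.left := (⟨⊥, Ideal.isPrime_bot⟩ : PrimeSpectrum C)
  have hpC : pC.left pt = t := Scheme.fromSpecResidueField_apply t pt
  rw [← hpC, ← ofPt_comp_yon]
  generalize (yon S).map pC ≫ b₀ = b
  have hq : LocP @LocallyOfFiniteType (G.s ≫ eU.hom) :=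
    Groth.AlgStBasic.stableBaseChange_locP hR hU hR (IsAlgSpace.yon_obj _) G.s eU.inv
      (G.s ≫ eU.hom) (𝟙 G.R) (IsPullback.of_horiz_isIso ⟨by simp⟩) hs
  -- fibres of the source over the source and the target of the point
  have hfib : ∀ (c : (yon S).obj TC ⟶ G.U) (z : Points (pullback G.s c)),
      HasAt (fun V v => FlatMor.localDim ↥V v = FlatMor.localDim ↥U.left u) G.R
          (Points.map (pullback.fst G.s c) z) ↔
        HasAt (fun V v => FlatMor.localDim ↥V v = FlatMor.localDim ↥U.left u) (pullback G.s c) z := by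
    intro c z
    obtain ⟨v, hv⟩ := (yon S).map_surjective (c ≫ eU.hom)
    refine hasAt_localDim_baseChange v hR
      (isAlgSpace_of_isPullback (IsPullback.of_hasPullback G.s c) hU.diag hR (IsAlgSpace.yon_obj _))
      hq (str := pullback.snd G.s c) ?_ z _
    rw [hv]
    exact (IsPullback.of_hasPullback G.s c).of_iso (Iso.refl _) (Iso.refl _) (Iso.refl _) eU
      (by simp) (by simp) (by simp) (by simp)
  let P₁ := pullback G.s (b ≫ G.t)
  let P₂ := pullback G.s (b ≫ G.s)
  let fw : P₁ ⟶ P₂ := pullback.lift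
    (Groth.AlgSp2.GrpdAlg.comp G (pullback.fst _ _) (pullback.snd G.s (b ≫ G.t) ≫ b)
      (by rw [Category.assoc, pullback.condition]))
    (pullback.snd _ _) (by rw [Groth.AlgSp2.GrpdAlg.comp_src, Category.assoc])
  let bw : P₂ ⟶ P₁ := pullback.lift
    (Groth.AlgSp2.GrpdAlg.comp G (pullback.fst _ _) ((pullback.snd G.s (b ≫ G.s) ≫ b) ≫ G.i)
      (by rw [Groth.AlgSp2.GrpdAlg.inv_tgt, Category.assoc, pullback.condition]))
    (pullback.snd _ _) (by rw [Groth.AlgSp2.GrpdAlg.comp_src, Groth.AlgSp2.GrpdAlg.inv_src, Category.assoc])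
  have hfw : fw ≫ pullback.snd _ _ = pullback.snd G.s (b ≫ G.t) := pullback.lift_snd _ _ _
  have hbw : bw ≫ pullback.snd _ _ = pullback.snd G.s (b ≫ G.s) := pullback.lift_snd _ _ _
  have hiso₁ : fw ≫ bw = 𝟙 _ := by
    apply pullback.hom_ext
    · rw [Category.assoc, pullback.lift_fst, Category.id_comp, Groth.AlgSp2.GrpdAlg.nat]
      refine (Groth.AlgSp2.GrpdAlg.comp_congr G (pullback.lift_fst _ _ _) ?_).trans
        (Groth.AlgSp2.GrpdAlg.cancel_inv_right G
          (β := pullback.snd G.s (b ≫ G.t) ≫ b) (by rw [Category.assoc, pullback.condition]))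
      simp only [← Category.assoc, hfw]
    · rw [Category.assoc, hbw, hfw, Category.id_comp]
  have hiso₂ : bw ≫ fw = 𝟙 _ := by
    apply pullback.hom_ext
    · rw [Category.assoc, pullback.lift_fst, Category.id_comp, Groth.AlgSp2.GrpdAlg.nat]
      refine (Groth.AlgSp2.GrpdAlg.comp_congr G (pullback.lift_fst _ _ _) ?_).trans
        (Groth.AlgSp2.GrpdAlg.cancel_inv_left G
          (α := pullback.fst G.s (b ≫ G.s)) (β := pullback.snd G.s (b ≫ G.s) ≫ b)
          (by rw [Groth.AlgSp2.GrpdAlg.inv_tgt, Category.assoc, pullback.condition]))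
      simp only [← Category.assoc, hbw]
    · rw [Category.assoc, hfw, hbw, Category.id_comp]
  let z : (yon S).obj TC ⟶ P₁ := pullback.lift (b ≫ G.t ≫ G.e) (𝟙 _)
    (by simp only [Category.assoc, G.e_s, Category.comp_id, Category.id_comp])
  have hz : z ≫ fw ≫ pullback.fst _ _ = b := by
    rw [show fw ≫ pullback.fst _ _ = Groth.AlgSp2.GrpdAlg.comp G (pullback.fst _ _)
      (pullback.snd G.s (b ≫ G.t) ≫ b) (by rw [Category.assoc, pullback.condition]) from
      pullback.lift_fst _ _ _, Groth.AlgSp2.GrpdAlg.nat]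
    refine (Groth.AlgSp2.GrpdAlg.comp_congr G (pullback.lift_fst _ _ _)
      (β' := b) (by rw [← Category.assoc, pullback.lift_snd]; exact Category.id_comp b)).trans (Groth.AlgSp2.GrpdAlg.unit_comp G _ rfl)
  have hz₁ : HasAt (fun V v => FlatMor.localDim ↥V v = FlatMor.localDim ↥U.left u) P₁
      (Points.ofPt z pt) := by
    refine (hfib _ _).1 ?_
    obtain ⟨v, hv⟩ := (yon S).map_surjective ((b ≫ G.t) ≫ eU.hom)
    rw [Points.map_ofPt, pullback.lift_fst,
      show b ≫ G.t ≫ G.e = (yon S).map v ≫ eU.inv ≫ G.e by simp [hv], ofPt_comp_yon,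
      Subsingleton.elim (α := PrimeSpectrum k) (v.left pt) o₀]
    exact he
  obtain ⟨V, c, y, hc, hcy, hd⟩ := hz₁
  let w : P₁ ≅ P₂ := ⟨fw, bw, hiso₁, hiso₂⟩
  have : IsIso w.hom := w.isIso_hom
  have hz₂ : HasAt (fun V v => FlatMor.localDim ↥V v = FlatMor.localDim ↥U.left u) P₂
      (Points.map w.hom (Points.ofPt z pt)) := by
    refine ⟨V, c ≫ w.hom, y, repWith_comp hc (repWith_isIso w.hom), ?_, hd⟩
    rw [← hcy, Points.map_ofPt]
  have := (hfib _ _).2 hz₂
  rwa [Points.map_ofPt, Points.map_ofPt, Category.assoc, hz] at this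

theorem hasAt_localDim_grpd_eq_dim {σ : Spec (CommRingCat.of k) ⟶ S}
    (eU : G.U ≅ (yon S).obj (Over.mk σ)) (hR : IsAlgSpace G.R)
    (hs : LocP @LocallyOfFiniteType G.s) (r : Points G.R) :
    HasAt (fun U u => FlatMor.localDim ↥U u = AlgSp.dim G.R) G.R r := by
  obtain ⟨e, d, hd⟩ := exists_hasAt_localDim_grpd G eU hR hs
  obtain ⟨U, a, ha, has⟩ := hR.atlas
  have key : AlgSp.dim G.R = d := by
    rw [Groth.AlgSp3.dim_eq_of_chart hR ha has, Groth.Agent.S5792.result ↥U.left]
    obtain ⟨u, -⟩ := surjective_ofPt_of_repWith has e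
    have : Nonempty ↥U.left := ⟨u⟩
    exact (iSup_congr fun v => (hasAt_iff_forall etaleInvariant_localDim hR _ d).1 (hd _) U a v ha rfl).trans
      ciSup_const
  rw [key]
  exact hd r

end Groth.SpLimit
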