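import Groth.Agent.SpLimit.GroupScheme
import Groth.Agent.AlgSp3.DimFacts
import Groth.Agent.FibreDim.BaseChange
import Groth.Agent.S5792

/-!
# The dimension of a group space over a field at its points
-/

set_option autoImplicit false
set_option backward.isDefEq.respectTransparency false
set_option backward.isDefEq.respectTransparency.types false

universe u

open CategoryTheory CategoryTheory.Limits AlgebraicGeometry Opposite AlgSp MonoidalCategory MonObj
open Groth.AlgSpBasic

noncomputable section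

namespace Groth.SpLimit

variable {k : Type u} [Field k]

theorem from_left (U : Over (kSpec k)) : (Over.mkIdTerminal.from U).left = U.hom :=
  (Category.comp_id _).symm.trans (Over.w _)

theorem locallyOfFiniteType_chart {X : Sp (kSpec k)}
    {q : X ⟶ (yon (kSpec k)).obj (Over.mk (𝟙 (kSpec k)))} (hq : LocP @LocallyOfFiniteType q)
    {U : Over (kSpec k)} {a : (yon (kSpec k)).obj U ⟶ X} (ha : RepWith @Etale a) :
    LocallyOfFiniteType U.hom := by
  rw [← from_left U]
  exact hq a (𝟙 _) (Over.mkIdTerminal.from U) ha (AlgSp.repWith_id _ _)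
    ((IsTerminal.isTerminalObj (yon (kSpec k)) _ Over.mkIdTerminal).hom_ext _ _)

/-- The local dimension does not change under an extension of the ground field. -/
theorem hasAt_localDim_fst {X : Sp (kSpec k)} (hX : IsAlgSpace X)
    {q : X ⟶ (yon (kSpec k)).obj (Over.mk (𝟙 (kSpec k)))} (hq : LocP @LocallyOfFiniteType q)
    (K : Type u) [Field K] [Algebra k K]
    (z : Points (X ⨯ (yon (kSpec k)).obj (kOver k K))) (d : WithBot ℕ∞) :
    HasAt (fun U u => FlatMor.localDim ↥U u = d) X
        (Points.map (prod.fst : X ⨯ (yon (kSpec k)).obj (kOver k K) ⟶ X) z) ↔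
      HasAt (fun U u => FlatMor.localDim ↥U u = d) (X ⨯ (yon (kSpec k)).obj (kOver k K)) z := by
  obtain ⟨U, a, ha, has⟩ := hX.atlas
  obtain ⟨u, hu⟩ := surjective_ofPt_of_repWith has (Points.map prod.fst z)
  let fU := Over.mkIdTerminal.from U
  let fK := Over.mkIdTerminal.from (kOver k K)
  let hT := IsTerminal.isTerminalObj (yon (kSpec k)) _ Over.mkIdTerminal
  let m : (yon (kSpec k)).obj (pullback fU fK) ⟶ X ⨯ (yon _).obj (kOver k K) :=
    prod.lift ((yon _).map (pullback.fst fU fK) ≫ a) ((yon _).map (pullback.snd fU fK))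
  have sq : IsPullback m ((yon _).map (pullback.fst fU fK)) prod.fst a := by
    refine IsPullback.of_right ?_ (prod.lift_fst _ _) (isPullback_fst_snd q (kOver k K)).flip
    rw [prod.lift_snd, show a ≫ q = (yon _).map fU from hT.hom_ext _ _]
    exact ((IsPullback.of_hasPullback fU fK).map (yon (kSpec k))).flip
  have hm : RepWith @Etale m := repWith_of_isPullback sq.flip ha
  obtain ⟨w, hw, hwu⟩ := (map_eq_ofPt_iff sq z u).1 hu.symm
  have sqS : IsPullback (pullback.fst fU fK).left (pullback.snd fU fK).left U.hom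
      (Spec.map (CommRingCat.ofHom (algebraMap k K))) := by
    rw [← from_left U, ← kFrom_left]
    exact (IsPullback.of_hasPullback fU fK).map (Over.forget _)
  have := locallyOfFiniteType_chart hq ha
  have e := Groth.FibreDim.localDim_eq_of_isPullback (k := k) (K := K) _ _ _ _ sqS w
  rw [show (pullback.fst fU fK).left.base w = u from hwu] at e
  constructor
  · intro h
    exact ⟨_, m, w, hm, hw, e.trans ((hasAt_iff_forall etaleInvariant_localDim hX _ d).1 h U a u ha hu)⟩
  · rintro ⟨V, b, v, hb, hv, hd⟩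
    refine ⟨U, a, u, ha, hu, ?_⟩
    show FlatMor.localDim ↥U.left u = d
    rw [← e]
    exact (inv_eq_of_ofPt_eq etaleInvariant_localDim
      (Groth.AlgSp3.isAlgSpace_prod hX (IsAlgSpace.yon_obj _)) hm hb (hw.trans hv.symm)).trans hd

variable (G : Over ((yon (kSpec k)).obj (Over.mk (𝟙 (kSpec k))))) [GrpObj G]

/-- All points of a group space have the same local dimension. -/
theorem exists_hasAt_localDim (hG : IsAlgSpace G.left) (hlft : LocP @LocallyOfFiniteType G.hom) :
    ∃ (e : Points G.left) (d : WithBot ℕ∞),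
      ∀ g : Points G.left, HasAt (fun U u => FlatMor.localDim ↥U u = d) G.left g := by
  let o : (yon (kSpec k)).obj (Over.mk (𝟙 (kSpec k))) ⟶ G.left :=
    (1 : ptOver ((yon (kSpec k)).obj (Over.mk (𝟙 (kSpec k)))) ⟶ G).left
  let o₀ : ↥(Over.mk (𝟙 (kSpec k))).left := (⟨⊥, Ideal.isPrime_bot⟩ : PrimeSpectrum k)
  let e := Points.ofPt o o₀
  obtain ⟨U, a, ha, has⟩ := hG.atlas
  obtain ⟨u, hu⟩ := surjective_ofPt_of_repWith has e
  refine ⟨e, FlatMor.localDim ↥U.left u, fun g => ?_⟩
  have he : HasAt (fun V v => FlatMor.localDim ↥V v = FlatMor.localDim ↥U.left u) G.left e :=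
    ⟨U, a, u, ha, hu, rfl⟩
  obtain ⟨T, b₀, t, rfl⟩ := exists_ofPt g
  obtain ⟨C, _, _, p, hp⟩ := exists_residue_pt T t
  let pt : ↥(kOver k C).left := (⟨⊥, Ideal.isPrime_bot⟩ : PrimeSpectrum C)
  rw [← hp pt, ← ofPt_comp_yon]
  generalize (yon (kSpec k)).map p ≫ b₀ = b
  obtain ⟨σ, hσs, hσf⟩ := exists_translation_left (G := G) b
  let fC := Over.mkIdTerminal.from (kOver k C)
  let z : (yon (kSpec k)).obj (kOver k C) ⟶ G.left ⨯ (yon _).obj (kOver k C) :=
    prod.lift ((yon _).map fC ≫ o) (𝟙 _)
  have h1 : z ≫ σ.hom ≫ prod.fst = b := by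
    rw [hσf, comp_mulP, prod.lift_snd_assoc, Category.id_comp, prod.lift_fst]
    show (ptHom b * ptHom ((yon _).map fC ≫ o)).left = b
    have : ptHom ((yon (kSpec k)).map fC ≫ o) = (1 : ptOver _ ⟶ G) := by
      have h2 := MonObj.comp_one (M := G) (Over.homMk ((yon (kSpec k)).map fC)
        ((IsTerminal.isTerminalObj (yon (kSpec k)) _ Over.mkIdTerminal).hom_ext _ _) :
          ptOver ((yon (kSpec k)).obj (kOver k C)) ⟶ ptOver ((yon (kSpec k)).obj (Over.mk (𝟙 (kSpec k)))))
      rw [← h2]
      exact Over.OverMorphism.ext rfl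
    rw [this, _root_.mul_one]
    rfl
  have he' : HasAt (fun V v => FlatMor.localDim ↥V v = FlatMor.localDim ↥U.left u) _
      (Points.ofPt z pt) := by
    refine (hasAt_localDim_fst hG hlft C _ _).1 ?_
    rw [Points.map_ofPt, prod.lift_fst, ofPt_comp_yon,
      Subsingleton.elim (α := PrimeSpectrum k) (fC.left pt) o₀]
    exact he
  obtain ⟨V, c, v, hc, hcv, hd⟩ := he'
  have hσ : HasAt (fun V v => FlatMor.localDim ↥V v = FlatMor.localDim ↥U.left u) _
      (Points.map σ.hom (Points.ofPt z pt)) := by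
    refine ⟨V, c ≫ σ.hom, v, repWith_comp hc (repWith_isIso σ.hom), ?_, hd⟩
    rw [← hcv, Points.map_ofPt]
  have := (hasAt_localDim_fst hG hlft C _ _).2 hσ
  rwa [Points.map_ofPt, Points.map_ofPt, Category.assoc, h1] at this

theorem hasAt_localDim_eq_dim (hG : IsAlgSpace G.left) (hlft : LocP @LocallyOfFiniteType G.hom)
    (g : Points G.left) :
    HasAt (fun U u => FlatMor.localDim ↥U u = AlgSp.dim G.left) G.left g := by
  obtain ⟨e, d, hd⟩ := exists_hasAt_localDim G hG hlft
  obtain ⟨U, a, ha, has⟩ := hG.atlas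
  have key : AlgSp.dim G.left = d := by
    rw [Groth.AlgSp3.dim_eq_of_chart hG ha has, Groth.Agent.S5792.result ↥U.left]
    obtain ⟨u, -⟩ := surjective_ofPt_of_repWith has e
    have : Nonempty ↥U.left := ⟨u⟩
    exact (iSup_congr fun v => (hasAt_iff_forall etaleInvariant_localDim hG _ d).1 (hd _) U a v ha rfl).trans
      ciSup_const
  rw [key]
  exact hd g

end Groth.SpLimit
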