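import Groth.Agent.AlgSp2.QfCodimOne
import Groth.Agent.AlgSpBasic.CodimZeroFibre
import Groth.Agent.AlgSpBasic.DecentComponents
import Groth.Agent.AlgSpBasic.DenseScheme
import Groth.Agent.AlgSp3.NbhdInv
import Groth.Agent.PropsBasic.GenericFinite

/-!
# Generic finiteness for morphisms of integral spaces
-/

set_option autoImplicit false
set_option backward.isDefEq.respectTransparency false
set_option backward.isDefEq.respectTransparency.types false

universe u

open CategoryTheory CategoryTheory.Limits AlgebraicGeometry Opposite AlgSp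
open Groth.AlgSpBasic Groth.AlgSp3 Groth.AlgSp2.QfCodim

noncomputable section

namespace Groth.SpLimit.GenericFinite

variable {S : Scheme.{u}}

theorem injective_ofPt_openImm {F : Sp S} (hF : IsAlgSpace F) {U : Over S} {a : (yon S).obj U ⟶ F}
    (ha : RepWith @IsOpenImmersion a) : Function.Injective (Points.ofPt a) := fun s t h => by
  rw [ofPt_eq_map, ofPt_eq_map] at h
  exact (Points.schemeHomeo U).injective ((isEmbedding_map_of_immersion hF
    (repWith_mono (fun _ _ g (_ : IsOpenImmersion g) => (inferInstance : IsImmersion g)) ha)).1.injective h)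

theorem eq_generic_of_codimZero {X : AlgSp.Space S} (hd : IsDecent X.obj) {x x' : Points X.obj}
    (hx : IsGenericPoint x (Set.univ : Set (Points X.obj)))
    (h : HasAt (fun U u => ringKrullDim ↥(U.presheaf.stalk u) = 0) X.obj x') : x' = x :=
  (((hasAt_codimZero_iff_of_isDecent X.property hd x').1 h) x (hx.specializes trivial)).symm

theorem codimZero_of_generic {X : AlgSp.Space S} (hd : IsDecent X.obj) {x : Points X.obj}
    (hx : IsGenericPoint x (Set.univ : Set (Points X.obj))) :
    HasAt (fun U u => ringKrullDim ↥(U.presheaf.stalk u) = 0) X.obj x := by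
  have : T0Space (Points X.obj) := t0Space_of_isDecent X.property hd
  exact (hasAt_codimZero_iff_of_isDecent X.property hd x).2 fun y hy =>
    ((hx.specializes trivial).antisymm hy).eq.symm

variable {X Y : AlgSp.Space S} {f : X ⟶ Y} (hXi : IsIntegralSp X.obj) (hYi : IsIntegralSp Y.obj)
  {x : Points X.obj} (hx : IsGenericPoint x (Set.univ : Set (Points X.obj)))
  {y : Points Y.obj} (hy : IsGenericPoint y (Set.univ : Set (Points Y.obj)))

include hYi hx hy in
theorem map_generic (hd : IsDominantMor f.hom) : Points.map f.hom x = y := by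
  have : T0Space (Points Y.obj) := t0Space_of_isDecent Y.property hYi.2.1
  have h : IsGenericPoint (Points.map f.hom x) (Set.univ : Set (Points Y.obj)) := by
    refine Set.eq_univ_of_univ_subset ?_
    refine hd.closure_eq.ge.trans (closure_minimal ?_ isClosed_closure)
    rintro _ ⟨x', rfl⟩
    exact specializes_iff_mem_closure.1 ((hx.specializes trivial).map (Points.continuous_map f.hom))
  exact h.eq hy

include hXi hYi hx hy in
theorem qfAt_iff_unique (hft : LocP @LocallyOfFiniteType f.hom) (hd : IsDominantMor f.hom) :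
    QfAt f.hom x ↔ ∀ x', Points.map f.hom x' = y → x' = x := by
  constructor
  · intro hq x' hx'
    refine eq_generic_of_codimZero hXi.2.1 hx
      ((fibre_codimZero_iff X.property Y.property f.hom hft y
        (codimZero_of_generic hYi.2.1 hy)).2 (fun x'' _ h0 => ?_) x' hx')
    rw [eq_generic_of_codimZero hXi.2.1 hx h0]
    exact (hasAtMor_lqf_iff X.property Y.property hft x).1 hq
  · intro h
    exact (hasAtMor_lqf_iff X.property Y.property hft x).2
      (fibreDimAt_zero_of_finite_fibre X.property Y.property hXi.2.1 hft (y := y)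
        ((Set.finite_singleton x).subset fun x' hx' => h x' hx') x (map_generic hYi hx hy hd))

include hXi hx in
theorem qfAt_iff_trdeg (hft : LocP @LocallyOfFiniteType f.hom) :
    QfAt f.hom x ↔ HasAtMor (fun _ _ h u => Dual3.resTrdeg h u = 0) f.hom x := by
  obtain ⟨U, V, a, b, h, u, ha, hb, comm, rfl⟩ := exists_chart_at X.property Y.property f.hom x
  have : LocallyOfFiniteType h.left := hft a b h ha hb comm
  rw [qfAt_iff_of_chart X.property Y.property ha hb comm u,
    hasAtMor_iff_of_chart etMor_resTrdeg (· = 0) X.property.diag Y.property.diag ha hb comm u]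
  refine ⟨fun hq => Groth.QfCodim.resTrdeg_eq_zero_of_quasiFiniteAt h.left hq,
    fun ht => Groth.QfCodim.quasiFiniteAt_of_trdeg_zero h.left ?_ ht⟩
  have h0 := (hasAt_iff_forall etaleInvariant_ringKrullDim X.property _ _).1
    (codimZero_of_generic hXi.2.1 hx) U a u ha rfl
  rw [ringKrullDim_stalk_eq_coheight] at h0
  exact_mod_cast h0

/-- A point in a finite piece of the morphism is quasi-finite. -/
theorem qfAt_of_finite {U V : Over S} {a : (yon S).obj U ⟶ X.obj} {b : (yon S).obj V ⟶ Y.obj}
    {g : U ⟶ V} (ha : RepWith @Etale a) (hb : RepWith @Etale b)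
    (comm : a ≫ f.hom = (yon S).map g ≫ b) [IsFinite g.left] (u : ↥U.left) :
    QfAt f.hom (Points.ofPt a u) := by
  have : LocallyQuasiFinite g.left := inferInstance
  exact ⟨U, V, a, b, g, u, ha, hb, comm, rfl, ⊤, trivial,
    inferInstanceAs (LocallyQuasiFinite ((⊤ : U.left.Opens).ι ≫ g.left)),
    inferInstanceAs (LocallyOfFiniteType ((⊤ : U.left.Opens).ι ≫ g.left))⟩

theorem qfAt_of_finiteMor {V : AlgSp.Space S} {j : V ⟶ Y} (hj : RepWith @IsOpenImmersion j.hom)
    {P : Sp S} (hP : IsAlgSpace P) {fst : P ⟶ V.obj} {snd : P ⟶ X.obj}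
    (sq : IsPullback fst snd j.hom f.hom) (hfin : IsFiniteMor fst) (x' : Points X.obj)
    (hx' : Points.map f.hom x' ∈ Set.range (Points.map j.hom)) : QfAt f.hom x' := by
  obtain ⟨v, hv⟩ := hx'
  obtain ⟨z, hz₁, hz₂⟩ := exists_point_of_isPullback sq v x' hv
  obtain ⟨U₀, b₀, hb₀, hb₀s⟩ := V.property.atlas
  obtain ⟨u₀, hu₀⟩ := surjective_ofPt_of_repWith hb₀s v
  obtain ⟨O, hO, huO, -⟩ := exists_isAffineOpen_mem_and_subset (X := U₀.left) (x := u₀) (U := ⊤) trivial
  let Z : Over S := Over.mk (O.ι ≫ U₀.hom)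
  let jO : Z ⟶ U₀ := Over.homMk O.ι rfl
  have : IsAffine Z.left := hO
  let g := (yon S).map jO ≫ b₀
  have hg : RepWith @Etale g :=
    repWith_comp ((repWith_yon_map_iff _ jO).2 (inferInstanceAs (Etale O.ι))) hb₀
  obtain ⟨W, i, c, sqW, -, hi⟩ := hfin this g
  have hc : RepWith @Etale c := repWith_of_isPullback sqW.flip hg
  obtain ⟨w, hw, -⟩ := (map_eq_ofPt_iff sqW z (⟨u₀, huO⟩ : ↥Z.left)).1 (by
    rw [hz₁, ← hu₀, ofPt_comp_yon]
    rfl)
  have hs : RepWith @IsOpenImmersion snd := repWith_of_isPullback sq hj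
  have : QfAt f.hom (Points.ofPt (c ≫ snd) w) :=
    qfAt_of_finite
      (repWith_comp hc (repWith_mono (fun _ _ g (_ : IsOpenImmersion g) => (inferInstance : Etale g)) hs))
      (repWith_comp hg (repWith_mono (fun _ _ g (_ : IsOpenImmersion g) => (inferInstance : Etale g)) hj))
      (g := i) (by rw [Category.assoc, ← sq.w, ← Category.assoc, sqW.w, Category.assoc]) w
  rwa [← Points.map_ofPt, hw, hz₂] at this

include hy in
theorem generic_mem_of_nonempty {O : Set (Points Y.obj)} (hO : IsOpen O) (hne : O.Nonempty) :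
    y ∈ O := by
  obtain ⟨z, hz⟩ := hne
  exact (hy.specializes trivial).mem_open hO hz

include hYi hy in
theorem exists_affine_openImm {O : Set (Points Y.obj)} (hO : IsOpen O) (hyO : y ∈ O) :
    ∃ (V : Over S) (b : (yon S).obj V ⟶ Y.obj) (v : ↥V.left), IsAffine V.left ∧
      RepWith @IsOpenImmersion b ∧ Points.ofPt b v = y ∧ ∀ t, Points.ofPt b t ∈ O := by
  have hsch : IsSchematicPt Y.obj y := by
    obtain ⟨z, hz⟩ := (dense_isSchematicPt_of_isDecent Y.property hYi.2.1).inter_open_nonempty
      Set.univ isOpen_univ ⟨y, trivial⟩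
    exact generic_mem_of_nonempty hy (isOpen_schematicPt _) ⟨z, hz.2⟩
  obtain ⟨G, g, hg, t, rfl⟩ := hsch
  obtain ⟨A, hA, htA, hAO⟩ := exists_isAffineOpen_mem_and_subset (X := G.left) (x := t)
    (U := ⟨Points.ofPt g ⁻¹' O, hO.preimage (Points.continuous_ofPt g)⟩) hyO
  let V : Over S := Over.mk (A.ι ≫ G.hom)
  let jA : V ⟶ G := Over.homMk A.ι rfl
  refine ⟨V, (yon S).map jA ≫ g, ⟨t, htA⟩, hA,
    repWith_comp ((repWith_yon_map_iff _ jA).2 (inferInstanceAs (IsOpenImmersion A.ι))) hg, ?_, ?_⟩
  · rw [ofPt_comp_yon]; rfl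
  · intro s
    rw [ofPt_comp_yon]
    exact hAO s.2

include hXi hYi hx hy in
theorem exists_finite_affine_opens (hft : LocP @LocallyOfFiniteType f.hom) (hd : IsDominantMor f.hom)
    (h : ∀ x', Points.map f.hom x' = y → x' = x) :
    ∃ (U V : Over S) (a : (yon S).obj U ⟶ X.obj) (b : (yon S).obj V ⟶ Y.obj) (g : U ⟶ V),
      IsAffine U.left ∧ IsAffine V.left ∧ Nonempty ↥U.left ∧
        RepWith @IsOpenImmersion a ∧ RepWith @IsOpenImmersion b ∧
          a ≫ f.hom = (yon S).map g ≫ b ∧ IsFinite g.left := by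
  obtain ⟨V, b, v, hV, hb, hv, -⟩ := exists_affine_openImm hYi hy isOpen_univ (y := y) trivial
  obtain ⟨U, a, u, hU, ha, hu, hUO⟩ := exists_affine_openImm hXi hx
    ((isOpenMap_ofPt_of_repWith (fun _ _ φ (_ : IsOpenImmersion φ) => φ.isOpenEmbedding.isOpenMap)
      hb).isOpen_range.preimage (Points.continuous_map f.hom)) (y := x)
    ⟨v, hv.trans (map_generic hYi hx hy hd).symm⟩
  have : Mono b := mono_of_repWith (fun _ _ g (_ : IsOpenImmersion g) => inferInstance) hb
  obtain ⟨g', hg'⟩ := exists_lift_of_range_openImmersion (IsAlgSpace.yon_obj U) hb (a ≫ f.hom) (by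
    rintro _ ⟨p, rfl⟩
    obtain ⟨t, rfl⟩ := (Points.schemeHomeo U).surjective p
    obtain ⟨s, hs⟩ := hUO t
    refine ⟨Points.schemeHomeo V s, ?_⟩
    rw [ofPt_eq_map, ofPt_eq_map, ← Points.map_comp] at hs
    exact hs)
  obtain ⟨g, rfl⟩ := (yon S).map_surjective g'
  have hae : RepWith @Etale a := repWith_mono (fun _ _ g (_ : IsOpenImmersion g) => (inferInstance : Etale g)) ha
  have hbe : RepWith @Etale b := repWith_mono (fun _ _ g (_ : IsOpenImmersion g) => (inferInstance : Etale g)) hb
  have : LocallyOfFiniteType g.left := hft a b g hae hbe hg'.symm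
  have : T0Space (Points Y.obj) := t0Space_of_isDecent Y.property hYi.2.1
  have hη : closure {v} ∈ irreducibleComponents ↥V.left := by
    rw [Groth.PropsBasic2.closure_mem_irreducibleComponents_iff]
    exact eq_of_specializes_of_ringKrullDim_eq_zero
      ((hasAt_iff_forall etaleInvariant_ringKrullDim Y.property _ _).1
        (codimZero_of_generic hYi.2.1 hy) V b v hbe hv)
  have hfin : (g.left ⁻¹' {v}).Finite := by
    refine (Set.finite_singleton u).subset fun w hw => ?_
    have hwx : Points.ofPt a w = x := h _ (by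
      rw [Points.map_ofPt, ← hg', ofPt_comp_yon, show g.left w = v from hw, hv])
    exact injective_ofPt_openImm X.property ha (hwx.trans hu.symm)
  obtain ⟨D, hD, hvD, hDf⟩ :=
    Groth.PropsBasic.GenericFinite.exists_affine_nhd_isFinite g.left hη hfin
  let VD : Over S := Over.mk (D.ι ≫ V.hom)
  let UD : Over S := Over.mk ((g.left ⁻¹ᵁ D).ι ≫ U.hom)
  let jV : VD ⟶ V := Over.homMk D.ι rfl
  let jU : UD ⟶ U := Over.homMk (g.left ⁻¹ᵁ D).ι rfl
  let gD : UD ⟶ VD := Over.homMk (g.left ∣_ D) (by
    show g.left ∣_ D ≫ D.ι ≫ V.hom = (g.left ⁻¹ᵁ D).ι ≫ U.hom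
    rw [morphismRestrict_ι_assoc, Over.w g])
  have : IsAffine VD.left := hD
  have : IsFinite gD.left := hDf
  refine ⟨UD, VD, (yon S).map jU ≫ a, (yon S).map jV ≫ b, gD,
    isAffine_of_isAffineHom gD.left, hD, ⟨⟨u, ?_⟩⟩,
    repWith_comp ((repWith_yon_map_iff _ jU).2 (inferInstanceAs (IsOpenImmersion (g.left ⁻¹ᵁ D).ι))) ha,
    repWith_comp ((repWith_yon_map_iff _ jV).2 (inferInstanceAs (IsOpenImmersion D.ι))) hb, ?_, hDf⟩
  · show g.left u ∈ D
    have e : g.left u = v := injective_ofPt_openImm Y.property hb (by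
      rw [hv, ← map_generic hYi hx hy hd, ← hu, Points.map_ofPt, ← hg', ofPt_comp_yon])
    rwa [e]
  · rw [Category.assoc, ← hg', ← Category.assoc, ← Category.assoc, ← Functor.map_comp,
      ← Functor.map_comp]
    congr 2
    exact Over.OverMorphism.ext (morphismRestrict_ι g.left D).symm

end Groth.SpLimit.GenericFinite
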