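import Groth.Agent.SpLimit.SchemeLimit
import Groth.Agent.AlgSpBasic.AffineDescent
import Groth.Agent.AlgSpBasic.LocallyQS
import Groth.Agent.AlgSpBasic.Univ

/-!
# Descent of schemes along universal homeomorphisms of the base
-/

set_option autoImplicit false
set_option backward.isDefEq.respectTransparency false
set_option backward.isDefEq.respectTransparency.types false

universe u

open CategoryTheory CategoryTheory.Limits AlgebraicGeometry Opposite AlgSp
open Groth.AlgSpBasic

noncomputable section

namespace Groth.SpLimit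

variable {S : Scheme.{u}}

/-- A space with an affine chart whose kernel pair is quasi-compact is quasi-separated. -/
theorem isQuasiSeparatedSp_of_compact_kernel {X : Sp S} {U R : Over S} [IsAffine U.left]
    {p : (yon S).obj U ⟶ X} (hp : RepWith @Etale p) (hps : RepWith @Surjective p) {t s : R ⟶ U}
    (sqR : IsPullback ((yon S).map t) ((yon S).map s) p p) [CompactSpace ↥R.left] :
    IsQuasiSeparatedSp X := by
  have : Sheaf.IsLocallySurjective p := isLocallySurjective_of_etale p hp hps
  have := isLocallySurjective_prod_map (π := p)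
  have : Etale t.left := repWith_fst_of_isPullback sqR.flip hp
  have hinj := (isEqvRel_of_isPullback sqR).injective
  have : Mono (prod.lift t s) := ⟨fun {Z} a a' e => hinj Z a a'
    (by
      have := e =≫ prod.fst
      rwa [Category.assoc, Category.assoc, prod.lift_fst] at this)
    (by
      have := e =≫ prod.snd
      rwa [Category.assoc, Category.assoc, prod.lift_snd] at this)⟩
  have : Mono (prod.lift t s).left :=
    inferInstanceAs (Mono ((Over.forget S).map (prod.lift t s)))
  have e : (prod.lift t s).left ≫ (prod.fst : U ⨯ U ⟶ U).left = t.left := lift_left_fst t s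
  have : LocallyOfFiniteType (prod.lift t s).left := by
    have : LocallyOfFiniteType ((prod.lift t s).left ≫ (prod.fst : U ⨯ U ⟶ U).left) := by
      rw [e]; infer_instance
    exact locallyOfFiniteType_of_comp _ (prod.fst : U ⨯ U ⟶ U).left
  have : LocallyQuasiFinite (prod.lift t s).left :=
    locallyQuasiFinite_of_formallyUnramified _
  refine repWith_of_sepLQF (Q := @QuasiCompact) (prodComparison (yon S) U U ≫ prod.map p p)
    (isPullback_diag_yon sqR) ?_
  have := quasiSeparatedSpace_prod_affine (U := U) (V := U)
  infer_instance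

variable {Y P : Sp S} {T T₀ : Over S} {fst : P ⟶ Y} {w : P ⟶ (yon S).obj T}
  {q : Y ⟶ (yon S).obj T₀} {k : T ⟶ T₀}

/-- Representability descends along a universally open, universally injective, surjective map of
the base as soon as affineness does. -/
theorem isRepresentable_of_univHomeo (hY : IsAlgSpace Y)
    (sq : IsPullback fst w q ((yon S).map k)) [UniversallyOpen k.left]
    [UniversallyInjective k.left] [Surjective k.left] (hP : P.obj.IsRepresentable)
    (hdesc : ∀ (O : Sp S) (ι : O ⟶ Y), RepWith @IsOpenImmersion ι →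
      ∀ (W : Over S) [IsAffine W.left] (a : (yon S).obj W ⟶ O) (b : W ⟶ T),
        IsPullback a ((yon S).map b) (ι ≫ q) ((yon S).map k) →
          ∃ W₀ : Over S, Nonempty ((yon S).obj W₀ ≅ O)) :
    Y.obj.IsRepresentable := by
  obtain ⟨G, ⟨eG⟩⟩ := hP
  let e := isoOfRepresentableBy eG
  have hs : RepWith @Surjective fst :=
    repWith_of_isPullback sq.flip ((repWith_yon_map_iff _ k).2 ‹_›)
  have hi : RepWith @UniversallyInjective fst :=
    repWith_of_isPullback sq.flip ((repWith_yon_map_iff _ k).2 ‹_›)
  have ho : RepWith @UniversallyOpen fst :=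
    repWith_of_isPullback sq.flip ((repWith_yon_map_iff _ k).2 ‹_›)
  have hsurj := surjective_map_of_repWith hs
  have hinj : Function.Injective (Points.map fst) :=
    injective_map_of_repWith (fun _ _ φ (_ : UniversallyInjective φ) => φ.injective) hi
  have hopen : IsOpenMap (Points.map fst) :=
    isOpenMap_map_of_repWith (fun _ _ φ (_ : UniversallyOpen φ) => φ.isOpenMap) ho
  refine isRepresentable_of_schematic ⟨Y, hY⟩ fun y => ?_
  obtain ⟨x, rfl⟩ := hsurj y
  obtain ⟨z₀, hz₀⟩ := (Points.schemeEquiv G).surjective (Points.map e.inv x)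
  obtain ⟨_, ⟨(L : G.left.Opens), hL, rfl⟩, hzL, -⟩ :=
    G.left.isBasis_affineOpens.exists_subset_of_mem_open (Set.mem_univ z₀) isOpen_univ
  replace hL : IsAffineOpen L := hL
  let W : Over S := Over.mk (L.ι ≫ G.hom)
  let j : W ⟶ G := Over.homMk L.ι rfl
  have : IsAffine W.left := hL
  let g := e.hom ≫ fst
  have : IsOpenImmersion j.left := inferInstanceAs (IsOpenImmersion L.ι)
  let Oset : Set (Points Y) := Set.range (Points.ofPt ((yon S).map j ≫ g))
  have hg : ∀ z, Points.ofPt g z = Points.map fst (Points.ofPt e.hom z) :=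
    fun z => (Points.map_ofPt _ _ _).symm
  have hOset : IsOpen Oset := by
    have hje : RepWith @IsOpenImmersion ((yon S).map j ≫ e.hom) :=
      repWith_comp ((repWith_yon_map_iff _ j).2 (inferInstanceAs (IsOpenImmersion L.ι)))
        (repWith_isIso _)
    have e' : Oset = Points.map fst '' Set.range (Points.ofPt ((yon S).map j ≫ e.hom)) := by
      rw [← Set.range_comp]
      refine congrArg Set.range (funext fun v => ?_)
      rw [Function.comp_apply, Points.map_ofPt]
      rfl
    rw [e']
    exact hopen _ (isOpenMap_ofPt_of_repWith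
      (fun _ _ φ (h : IsOpenImmersion φ) => φ.isOpenEmbedding.isOpenMap) hje).isOpen_range
  have hι : RepWith @IsOpenImmersion (openSubι Y Oset) := repWith_openSubι hOset
  have hO := isAlgSpace_openSub hY hOset
  obtain ⟨V, m, t, sqV⟩ := hι.rep g
  have : IsOpenImmersion m.left := hι.property g t m sqV
  have hrange : Set.range m.left = Set.range j.left := by
    ext z
    constructor
    · rintro ⟨v, rfl⟩
      have hv : Points.ofPt g (m.left v) ∈ Oset := by
        rw [← ofPt_comp_yon, ← sqV.w, ← Points.map_ofPt]
        exact (range_map_openSubι (X := Y) (W := Oset)).le ⟨_, rfl⟩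
      obtain ⟨l, hl⟩ := hv
      rw [ofPt_comp_yon, hg, hg] at hl
      refine ⟨l, ?_⟩
      have h := hinj hl
      have h' := congrArg (Points.map e.inv) h
      rw [Points.map_ofPt, Points.map_ofPt, e.hom_inv_id] at h'
      exact (Points.schemeEquiv G).injective h'
    · rintro ⟨l, rfl⟩
      have hl : Points.ofPt g (j.left l) ∈ Set.range (Points.map (openSubι Y Oset)) :=
        (range_map_openSubι (X := Y) (W := Oset)).ge ⟨l, ofPt_comp_yon j g l⟩
      obtain ⟨o, ho'⟩ := hl
      obtain ⟨v, -, hv⟩ := (map_eq_ofPt_iff sqV o (j.left l)).1 ho'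
      exact ⟨v, hv⟩
  have : IsAffine V.left :=
    IsAffine.of_isIso (IsOpenImmersion.isoOfRangeEq m.left j.left hrange).hom
  obtain ⟨b, hb⟩ := (yon S).map_surjective ((yon S).map m ≫ e.hom ≫ w)
  have sqV' : IsPullback t ((yon S).map m ≫ e.hom) (openSubι Y Oset) fst := by
    refine sqV.of_iso (Iso.refl _) (Iso.refl _) e (Iso.refl _) (by simp) (by simp) (by simp) ?_
    simp [g]
  obtain ⟨W₀, ⟨e₀⟩⟩ := hdesc _ _ hι V t b (by
    rw [hb, ← Category.assoc]
    exact sqV'.paste_vert sq)
  obtain ⟨o, ho'⟩ := (range_map_openSubι (X := Y) (W := Oset)).ge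
    (show Points.map fst x ∈ Oset from ⟨⟨z₀, hzL⟩, by
      rw [ofPt_comp_yon, hg]
      congr 1
      show Points.ofPt e.hom z₀ = x
      rw [ofPt_eq_map, show Points.ofScheme G z₀ = Points.map e.inv x from hz₀, ← Points.map_comp,
        e.inv_hom_id, Points.map_id]⟩)
  obtain ⟨v, hv⟩ := (Points.schemeEquiv W₀).surjective (Points.map e₀.inv o)
  refine ⟨W₀, e₀.hom ≫ openSubι Y Oset, repWith_comp (repWith_isIso _) hι, v, ?_⟩
  rw [ofPt_eq_map, Points.map_comp, show Points.ofScheme W₀ v = Points.map e₀.inv o from hv,
    ← Points.map_comp e₀.inv e₀.hom, e₀.inv_hom_id, Points.map_id, ho']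

/-- Representability descends along a finitely presented universal homeomorphism which is flat. -/
theorem isRepresentable_of_flat_univHomeo (hY : IsAlgSpace Y) [IsAffine T.left] [IsAffine T₀.left]
    (sq : IsPullback fst w q ((yon S).map k)) [Flat k.left] [LocallyOfFinitePresentation k.left]
    [UniversallyInjective k.left] [Surjective k.left] (hP : P.obj.IsRepresentable) :
    Y.obj.IsRepresentable := by
  have : UniversallyOpen k.left := inferInstance
  refine isRepresentable_of_univHomeo hY sq hP fun O ι _ W _ a b sq' => ?_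
  obtain ⟨W₀, i, e, -⟩ := exists_affine_desc (ι ≫ q) k sq'
  exact ⟨W₀, ⟨e⟩⟩

end Groth.SpLimit
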