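import Groth.Agent.SpLimit.FieldBase
import Groth.Agent.SpLimit.HomeoDescent
import Groth.Agent.DescentBase.UnivOpenField
import Groth.Agent.AlgSpBasic.DecentFiniteFibre
import Groth.Agent.AlgSpBasic.IntegralCover
import Mathlib.FieldTheory.PurelyInseparable.Basic
import Mathlib.FieldTheory.IsAlgClosed.Basic

/-!
# Spaces over a field which become schemes over an extension
-/

set_option autoImplicit false
set_option backward.isDefEq.respectTransparency false
set_option backward.isDefEq.respectTransparency.types false

universe u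

open CategoryTheory CategoryTheory.Limits AlgebraicGeometry Opposite AlgSp
open Groth.AlgSpBasic

noncomputable section

namespace Groth.SpLimit

variable {k : Type u} [Field k]

theorem universallyInjective_of_insep {K L : Type u} [Field K] [Field L] [Algebra K L]
    [IsPurelyInseparable K L] :
    UniversallyInjective (Spec.map (CommRingCat.ofHom (algebraMap K L))) := by
  refine ((tfae_universallyInjective _).out 0 1).2 ?_
  intro E _ g₁ g₂ hg
  obtain ⟨a, rfl⟩ := Spec.map_surjective g₁
  obtain ⟨b, rfl⟩ := Spec.map_surjective g₂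
  dsimp only at hg
  rw [← Spec.map_comp, ← Spec.map_comp] at hg
  exact congrArg Spec.map (CommRingCat.hom_ext
    (IsPurelyInseparable.injective_comp_algebraMap K L E
      (congrArg CommRingCat.Hom.hom (Spec.map_injective hg))))

theorem surjective_specMap_field {K L : Type u} [Field K] [Field L] (φ : K →+* L) :
    Surjective (Spec.map (CommRingCat.ofHom φ)) :=
  ⟨fun y => ⟨⟨⊥, Ideal.isPrime_bot⟩, Subsingleton.elim (α := PrimeSpectrum K) _ y⟩⟩

instance (K : Type u) [CommRing K] [Algebra k K] : IsAffine (kOver k K).left :=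
  inferInstanceAs (IsAffine (Spec _))

/-- The map of spectra of an extension of extensions. -/
abbrev kOverMap (K L : Type u) [CommRing K] [CommRing L] [Algebra k K] [Algebra k L]
    (i : K →ₐ[k] L) : kOver k L ⟶ kOver k K :=
  Over.homMk (Spec.map (CommRingCat.ofHom i.toRingHom)) (by
    show Spec.map _ ≫ Spec.map _ = Spec.map _
    rw [← Spec.map_comp, ← CommRingCat.ofHom_comp]
    exact congrArg (fun f => Spec.map (CommRingCat.ofHom f)) i.comp_algebraMap)

/-- The projection to the first factor is the base change of the structure map. -/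
theorem isPullback_fst_snd {X : Sp (kSpec k)} (q : X ⟶ (yon _).obj (Over.mk (𝟙 (kSpec k))))
    (K : Over (kSpec k)) :
    IsPullback (prod.fst : X ⨯ (yon _).obj K ⟶ X) prod.snd q
      ((yon _).map (Over.mkIdTerminal.from K)) := by
  let ht : IsTerminal ((yon (kSpec k)).obj (Over.mk (𝟙 (kSpec k)))) :=
    IsTerminal.isTerminalObj (yon _) _ Over.mkIdTerminal
  rw [ht.hom_ext q (ht.from X), ht.hom_ext ((yon _).map _) (ht.from _)]
  exact IsPullback.of_is_product (prodIsProd X _) ht

/-- An open subspace which is affine after an extension of the field is affine. -/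
theorem exists_affine_of_extension' {O : Sp (kSpec k)} (hO : IsAlgSpace O)
    (q : O ⟶ (yon _).obj (Over.mk (𝟙 (kSpec k)))) {T : Over (kSpec k)} [IsAffine T.left]
    [Surjective T.hom] {W : Over (kSpec k)} [IsAffine W.left] {a : (yon _).obj W ⟶ O} {b : W ⟶ T}
    (sq : IsPullback a ((yon _).map b) q ((yon _).map (Over.mkIdTerminal.from T))) :
    ∃ W₀ : Over (kSpec k), IsAffine W₀.left ∧ Nonempty ((yon _).obj W₀ ≅ O) := by
  have hk : Surjective (Over.mkIdTerminal.from T).left := by
    rw [show (Over.mkIdTerminal.from T).left = T.hom from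
      (Category.comp_id _).symm.trans (Over.w _)]
    infer_instance
  have has : RepWith @Surjective a :=
    repWith_of_isPullback sq.flip ((repWith_yon_map_iff _ _).2 hk)
  have hqc : IsQuasiCompactSp O := isQuasiCompactSp_of_surjective
    ((isQuasiCompactSp_yon_iff W).2 inferInstance) (IsAlgSpace.yon_obj W) hO a
    (surjective_map_of_repWith has)
  have hqs : IsQuasiSeparatedSp O := by
    obtain ⟨U, p, hU, hp, hps⟩ := exists_affine_chart hO hqc
    obtain ⟨R, t, s, sqR⟩ := exists_pullback_yon hp.rep p
    obtain ⟨M, mU, mW, sqM⟩ := exists_pullback_yon hp.rep a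
    -- the base change of the chart is affine
    have sqS := sqM.paste_vert sq
    obtain ⟨u, hu⟩ := (yon (kSpec k)).map_surjective (p ≫ q)
    have sqS' : IsPullback mU (mW ≫ b) u (Over.mkIdTerminal.from T) := by
      refine IsPullback.of_map_of_faithful (yon (kSpec k)) ?_
      rw [Functor.map_comp, hu]
      exact sqS
    have : IsAffine (Over.mk (𝟙 (kSpec k))).left := inferInstanceAs (IsAffine (kSpec k))
    have sqF : IsPullback mU.left (mW ≫ b).left u.left (Over.mkIdTerminal.from T).left :=
      sqS'.map (Over.forget (kSpec k))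
    have hMaff : IsAffine M.left := IsAffine.of_isIso sqF.isoPullback.hom
    have : IsAffine (pullback mW.left mW.left) := inferInstance
    let R' : Over (kSpec k) := pullback mW mW
    have sqR' : IsPullback (pullback.fst mW mW).left (pullback.snd mW mW).left mW.left mW.left :=
      (IsPullback.of_hasPullback mW mW).map (Over.forget (kSpec k))
    have hR' : CompactSpace ↥R'.left := sqR'.isoPullback.inv.homeomorph.compactSpace
    -- which maps onto the kernel pair
    have w : (yon _).map (pullback.fst mW mW ≫ mU) ≫ p =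
        (yon _).map (pullback.snd mW mW ≫ mU) ≫ p := by
      rw [Functor.map_comp, Functor.map_comp, Category.assoc, Category.assoc, sqM.w,
        ← Category.assoc, ← Functor.map_comp, pullback.condition, Functor.map_comp, Category.assoc]
    obtain ⟨π, hπ⟩ := (yon (kSpec k)).map_surjective (sqR.lift _ _ w)
    obtain ⟨N, n, m, sqN⟩ := has.rep ((yon _).map t ≫ p)
    have hn : Surjective n.left := has.property _ m n sqN
    obtain ⟨mm, hmm⟩ := (yon (kSpec k)).map_surjective m
    have w₁ : (yon _).map (n ≫ t) ≫ p = (yon _).map mm ≫ a := by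
      rw [Functor.map_comp, Category.assoc, hmm, sqN.w]
    have w₂ : (yon _).map (n ≫ s) ≫ p = (yon _).map mm ≫ a := by
      rw [Functor.map_comp, Category.assoc, ← sqR.w, hmm, sqN.w]
    obtain ⟨l₁, hl₁⟩ := (yon (kSpec k)).map_surjective (sqM.lift _ _ w₁)
    obtain ⟨l₂, hl₂⟩ := (yon (kSpec k)).map_surjective (sqM.lift _ _ w₂)
    have e : ∀ {A B : Over (kSpec k)} {f g : A ⟶ B}, (yon _).map f = (yon _).map g → f = g :=
      fun h => (yon (kSpec k)).map_injective h
    have h₁W : l₁ ≫ mW = mm := e (by rw [Functor.map_comp, hl₁, sqM.lift_snd])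
    have h₂W : l₂ ≫ mW = mm := e (by rw [Functor.map_comp, hl₂, sqM.lift_snd])
    have hl : pullback.lift l₁ l₂ (h₁W.trans h₂W.symm) ≫ π = n := by
      apply e
      apply sqR.hom_ext
      · rw [Functor.map_comp, Category.assoc, hπ, sqR.lift_fst, ← Functor.map_comp,
          ← Functor.map_comp, pullback.lift_fst_assoc, Functor.map_comp, hl₁, sqM.lift_fst]
      · rw [Functor.map_comp, Category.assoc, hπ, sqR.lift_snd, ← Functor.map_comp,
          ← Functor.map_comp, pullback.lift_snd_assoc, Functor.map_comp, hl₂, sqM.lift_fst]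
    have : Function.Surjective π.left := fun r => by
      obtain ⟨x, hx⟩ := hn.surj r
      exact ⟨(pullback.lift l₁ l₂ (h₁W.trans h₂W.symm)).left x, by
        rw [← Scheme.Hom.comp_apply, ← Over.comp_left, hl]; exact hx⟩
    have : CompactSpace ↥R.left := this.compactSpace π.left.continuous
    exact isQuasiSeparatedSp_of_compact_kernel hp hps sqR
  have hT : Nonempty ↥T.left := by
    obtain ⟨x, -⟩ := (inferInstance : Surjective T.hom).surj (default : PrimeSpectrum k)
    exact ⟨x⟩
  obtain ⟨κ, _, _, W', hfin, hW', ⟨e'⟩⟩ := exists_finite_affine hO hqc hqs T hT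
    (sq.isoIsPullback _ _ (isPullback_fst_snd q T))
  let t := Over.mkIdTerminal.from (kOver k κ)
  have htl : t.left = Spec.map (CommRingCat.ofHom (algebraMap k κ)) :=
    (Category.comp_id _).symm.trans (Over.w t)
  have : Flat t.left := by
    rw [htl]
    exact (HasRingHomProperty.Spec_iff (P := @Flat)).2 (RingHom.flat_algebraMap_iff.2 inferInstance)
  have : Surjective t.left := by rw [htl]; exact surjective_specMap_field _
  have : LocallyOfFinitePresentation t.left := by
    rw [htl]
    exact (HasRingHomProperty.Spec_iff (P := @LocallyOfFinitePresentation)).2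
      (RingHom.finitePresentation_algebraMap.2
        (Algebra.FinitePresentation.of_finiteType.1 inferInstance))
  obtain ⟨w, hw⟩ := (yon (kSpec k)).map_surjective (e'.hom ≫ prod.snd)
  have sq' : IsPullback (e'.hom ≫ prod.fst) ((yon _).map w) q ((yon _).map t) :=
    (isPullback_fst_snd q (kOver k κ)).of_iso e'.symm (Iso.refl _) (Iso.refl _) (Iso.refl _)
      (by simp) (by simp [hw]) (by simp) (by simp [t])
  have := hW'
  have : IsAffine (Over.mk (𝟙 (kSpec k))).left := inferInstanceAs (IsAffine (kSpec k))
  obtain ⟨W₀, -, e₀, hW₀, -⟩ := exists_affine_desc q t sq'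
  exact ⟨W₀, hW₀, ⟨e₀⟩⟩

/-- An open subspace which is affine after an extension of the field is a scheme. -/
theorem exists_affine_of_extension {O : Sp (kSpec k)} (hO : IsAlgSpace O)
    (q : O ⟶ (yon _).obj (Over.mk (𝟙 (kSpec k)))) {T : Over (kSpec k)} [IsAffine T.left]
    [Surjective T.hom] {W : Over (kSpec k)} [IsAffine W.left] {a : (yon _).obj W ⟶ O} {b : W ⟶ T}
    (sq : IsPullback a ((yon _).map b) q ((yon _).map (Over.mkIdTerminal.from T))) :
    ∃ W₀ : Over (kSpec k), Nonempty ((yon _).obj W₀ ≅ O) := by
  obtain ⟨W₀, -, h⟩ := exists_affine_of_extension' hO q sq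
  exact ⟨W₀, h⟩

/-- Being a scheme descends along purely inseparable extensions of the ground field. -/
theorem isRepresentable_of_insep {X : Sp (kSpec k)} (hX : IsAlgSpace X) (L : Type u) [Field L]
    [Algebra k L] [IsPurelyInseparable k L]
    (h : (X ⨯ (yon _).obj (kOver k L)).obj.IsRepresentable) : X.obj.IsRepresentable := by
  let ht : IsTerminal ((yon (kSpec k)).obj (Over.mk (𝟙 (kSpec k)))) :=
    IsTerminal.isTerminalObj (yon _) _ Over.mkIdTerminal
  let t := Over.mkIdTerminal.from (kOver k L)
  have htl : t.left = Spec.map (CommRingCat.ofHom (algebraMap k L)) :=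
    (Category.comp_id _).symm.trans (Over.w t)
  have : UniversallyInjective t.left := by rw [htl]; exact universallyInjective_of_insep
  have : Surjective t.left := by rw [htl]; exact surjective_specMap_field _
  have : UniversallyOpen t.left := by
    rw [htl]; exact Groth.DescentBase.universallyOpen_of_field k _
  have : Surjective (kOver k L).hom := surjective_specMap_field _
  refine isRepresentable_of_univHomeo hX (isPullback_fst_snd (ht.from X) (kOver k L)) h
    fun O ι hι W _ a b sq' => ?_
  exact exists_affine_of_extension (isAlgSpace_of_representable hX ι hι.rep) _ sq'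

/-- A qcqs space which is a scheme over an extension is one over a finite separable extension. -/
theorem exists_separable_scheme {X : Sp (kSpec k)} (hX : IsAlgSpace X) (hqc : IsQuasiCompactSp X)
    (hqs : IsQuasiSeparatedSp X) (K : Type u) [Field K] [Algebra k K]
    (h : (X ⨯ (yon _).obj (kOver k K)).obj.IsRepresentable) :
    ∃ (k' : Type u) (_ : Field k') (_ : Algebra k k'), Module.Finite k k' ∧
      Algebra.IsSeparable k k' ∧ (X ⨯ (yon _).obj (kOver k k')).obj.IsRepresentable := by
  obtain ⟨κ, _, _, hfin, hrep⟩ := exists_finite_scheme hX hqc hqs (kOver k K)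
    ⟨(⟨⊥, Ideal.isPrime_bot⟩ : PrimeSpectrum K)⟩ h
  let k' := separableClosure k κ
  have : Module.Finite ↥k' κ := Module.Finite.of_restrictScalars_finite k _ _
  refine ⟨k', inferInstance, inferInstance, inferInstance, inferInstance, ?_⟩
  let f := kOverMap (k := k) k' κ k'.val
  have hfl : f.left = Spec.map (CommRingCat.ofHom (algebraMap k' κ)) := rfl
  have : UniversallyInjective f.left := by rw [hfl]; exact universallyInjective_of_insep
  have : Surjective f.left := by rw [hfl]; exact surjective_specMap_field _
  have : Flat f.left := by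
    rw [hfl]
    exact (HasRingHomProperty.Spec_iff (P := @Flat)).2 (RingHom.flat_algebraMap_iff.2 inferInstance)
  have : LocallyOfFinitePresentation f.left := by
    rw [hfl]
    exact (HasRingHomProperty.Spec_iff (P := @LocallyOfFinitePresentation)).2
      (RingHom.finitePresentation_algebraMap.2
        (Algebra.FinitePresentation.of_finiteType.1 inferInstance))
  exact isRepresentable_of_flat_univHomeo
    (isAlgSpace_of_isPullback (isPullback_fst_snd ((IsTerminal.isTerminalObj (yon _) _
      Over.mkIdTerminal).from X) (kOver k k')) (IsAlgSpace.yon_obj _).diag hX (IsAlgSpace.yon_obj _))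
    (isPullback_prod_map_snd ((yon (kSpec k)).map f) X).flip hrep

/-- A qs space which is a scheme over an extension is one over an algebraically closed field. -/
theorem isRepresentable_algClosed {X : Sp (kSpec k)} (hX : IsAlgSpace X)
    (hqs : IsQuasiSeparatedSp X) (K : Type u) [Field K] [Algebra k K]
    (h : (X ⨯ (yon _).obj (kOver k K)).obj.IsRepresentable)
    (L : Type u) [Field L] [Algebra k L] [IsAlgClosed L] :
    (X ⨯ (yon _).obj (kOver k L)).obj.IsRepresentable := by
  have hXL : IsAlgSpace (X ⨯ (yon _).obj (kOver k L)) :=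
    isAlgSpace_of_isPullback (isPullback_fst_snd ((IsTerminal.isTerminalObj (yon _) _
      Over.mkIdTerminal).from X) (kOver k L)) (IsAlgSpace.yon_obj _).diag hX (IsAlgSpace.yon_obj _)
  refine isRepresentable_of_schematic ⟨_, hXL⟩ fun z => ?_
  obtain ⟨C, hC, hCc, hzC, -⟩ := exists_compact_open_nhd hX (Set.finite_singleton (Points.map prod.fst z))
    isOpen_univ (Set.subset_univ _)
  let O := openSub X C
  let ι : O ⟶ X := openSubι X C
  have hι : RepWith @IsOpenImmersion ι := repWith_openSubι hC
  have hO : IsAlgSpace O := isAlgSpace_openSub hX hC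
  have hOqs : IsQuasiSeparatedSp O := isQuasiSeparatedSp_of_openImmersion hqs hι
  have hOqc : IsQuasiCompactSp O := by
    refine (isQuasiCompactSp_iff_compactSpace hO).2 ?_
    have hι' : RepWith @IsImmersion ι := ⟨hι.rep, fun U V g fst snd sq => by
      have : IsOpenImmersion snd.left := hι.property g fst snd sq
      show IsImmersion snd.left
      infer_instance⟩
    have hemb : Topology.IsInducing (Points.map ι) :=
      (isEmbedding_map_of_immersion hX hι').1.isInducing
    exact ⟨hemb.isCompact_iff.2 (by rw [Set.image_univ, range_map_openSubι (X := X)]; exact hCc)⟩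
  have hK : (O ⨯ (yon _).obj (kOver k K)).obj.IsRepresentable := by
    obtain ⟨G, ⟨eG⟩⟩ := h
    have hi : RepWith @IsOpenImmersion (prod.map ι (𝟙 ((yon _).obj (kOver k K)))) :=
      repWith_of_isPullback (isPullback_prod_map_fst ι _) hι
    obtain ⟨V, _, m, sq⟩ := hi.rep (isoOfRepresentableBy eG).hom
    have : IsIso m := sq.isIso_fst_of_isIso
    exact isRepresentable_of_iso (asIso m)
  obtain ⟨κ, _, _, hfin, hrep⟩ := exists_finite_scheme hO hOqc hOqs (kOver k K)
    ⟨(⟨⊥, Ideal.isPrime_bot⟩ : PrimeSpectrum K)⟩ hK
  obtain ⟨W, ⟨rW⟩⟩ := hrep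
  obtain ⟨W', -, -, -, -, ⟨e'⟩⟩ := exists_prod_yon_iso (isoOfRepresentableBy rW)
    (kOverMap κ L (IsAlgClosed.lift (R := k) (S := κ) (M := L)))
  have hj : RepWith @IsOpenImmersion (prod.map ι (𝟙 ((yon _).obj (kOver k L)))) :=
    repWith_of_isPullback (isPullback_prod_map_fst ι _) hι
  obtain ⟨o, ho⟩ := (range_map_openSubι (X := X) (W := C)).ge (hzC rfl)
  obtain ⟨z', -, hz'⟩ := exists_point_of_isPullback (isPullback_prod_map_fst ι _) o z ho
  obtain ⟨v, hv⟩ := (Points.schemeEquiv W').surjective (Points.map e'.inv z')
  refine ⟨W', e'.hom ≫ prod.map ι (𝟙 _), repWith_comp (repWith_isIso _) hj, v, ?_⟩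
  rw [ofPt_eq_map, Points.map_comp, show Points.ofScheme W' v = Points.map e'.inv z' from hv,
    ← Points.map_comp e'.inv e'.hom, e'.inv_hom_id, Points.map_id, hz']

end Groth.SpLimit
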