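import Groth.Agent.SpLimit.GroupScheme
import Groth.Agent.EGA43Art.Primary

/-!
# Being a scheme descends along geometrically irreducible extensions of the ground field
-/

set_option autoImplicit false
set_option backward.isDefEq.respectTransparency false
set_option backward.isDefEq.respectTransparency.types false

universe u

open CategoryTheory CategoryTheory.Limits AlgebraicGeometry Opposite AlgSp
open Groth.AlgSpBasic TensorProduct

noncomputable section

namespace Groth.SpLimit

variable {k : Type u} [Field k]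

/-- A quasi-separated space which is a scheme over a geometrically irreducible extension of the ground
field is a scheme. -/
theorem isRepresentable_of_primary {X : Sp (kSpec k)} (hX : IsAlgSpace X) (hqs : IsQuasiSeparatedSp X)
    (Ω : Type u) [Field Ω] [Algebra k Ω] (hnil : (nilradical (AlgebraicClosure k ⊗[k] Ω)).IsPrime)
    (h : (X ⨯ (yon (kSpec k)).obj (kOver k Ω)).obj.IsRepresentable) : X.obj.IsRepresentable := by
  refine isRepresentable_of_schematic ⟨X, hX⟩ fun (y : Points X) => ?_
  obtain ⟨T, g, t, rfl⟩ := exists_ofPt y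
  obtain ⟨C, _, _, p, hp⟩ := exists_residue_pt T t
  let ptC : ↥(kOver k C).left := (⟨⊥, Ideal.isPrime_bot⟩ : PrimeSpectrum C)
  rw [← hp ptC, ← ofPt_comp_yon]
  generalize (yon (kSpec k)).map p ≫ g = b
  -- some common extension of the two fields
  let fΩ := Over.mkIdTerminal.from (kOver k Ω)
  let fC := Over.mkIdTerminal.from (kOver k C)
  obtain ⟨c, -⟩ := Scheme.Pullback.exists_preimage_pullback (f := fΩ.left) (g := fC.left)
    (⟨⊥, Ideal.isPrime_bot⟩ : PrimeSpectrum Ω) (⟨⊥, Ideal.isPrime_bot⟩ : PrimeSpectrum C)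
    (Subsingleton.elim (α := PrimeSpectrum k) _ _)
  have sq : IsPullback (pullback.fst fΩ fC).left (pullback.snd fΩ fC).left fΩ.left fC.left :=
    (IsPullback.of_hasPullback fΩ fC).map (Over.forget _)
  obtain ⟨L, _, _, l, -⟩ := exists_residue_pt (pullback fΩ fC) (sq.isoPullback.inv c)
  let pt : ↥(kOver k L).left := (⟨⊥, Ideal.isPrime_bot⟩ : PrimeSpectrum L)
  obtain ⟨K₀, hKo, hKc, hKy, -⟩ := exists_compact_open_nhd hX
    (Set.finite_singleton (Points.ofPt b ptC)) isOpen_univ (Set.subset_univ _)
  let Z := openSub X K₀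
  let jK : Z ⟶ X := openSubι X K₀
  have hjK : RepWith @IsOpenImmersion jK := repWith_openSubι hKo
  have hZ : IsAlgSpace Z := isAlgSpace_openSub hX hKo
  have hZqs : IsQuasiSeparatedSp Z := isQuasiSeparatedSp_of_openImmersion hqs hjK
  have hZqc : IsQuasiCompactSp Z := (isQuasiCompactSp_iff_compactSpace hZ).2
    ⟨((isEmbedding_map_of_immersion hX (repWith_mono
      (fun _ _ g (_ : IsOpenImmersion g) => (inferInstance : IsImmersion g)) hjK)).1).isCompact_iff.2
        (by rw [Set.image_univ, range_map_openSubι]; exact hKc)⟩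
  obtain ⟨bZ, hbZ⟩ := (openSub_exists_lift_iff X K₀ b).2 fun t => by
    rw [Subsingleton.elim (α := PrimeSpectrum C) t ptC]
    exact hKy rfl
  have hbZ' : bZ ≫ jK = b := hbZ
  let iC := l ≫ pullback.snd fΩ fC
  let iΩ := l ≫ pullback.fst fΩ fC
  have hlift : IsSchematicPt (Z ⨯ (yon _).obj (kOver k Ω))
      (Points.ofPt (prod.lift ((yon _).map iC ≫ bZ) ((yon _).map iΩ)) pt) := by
    refine isSchematicPt_of_rep (f := prod.map jK (𝟙 _))
      (repWith_of_isPullback (isPullback_prod_map_fst jK _) hjK).rep ?_
    obtain ⟨W, ⟨r⟩⟩ := h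
    let e := isoOfRepresentableBy r
    obtain ⟨w, hw⟩ := (Points.schemeEquiv W).surjective (Points.map e.inv
      (Points.map (prod.map jK (𝟙 _))
        (Points.ofPt (prod.lift ((yon _).map iC ≫ bZ) ((yon _).map iΩ)) pt)))
    refine ⟨W, e.hom, repWith_isIso _, w, ?_⟩
    rw [ofPt_eq_map, show Points.ofScheme W w = _ from hw, ← Points.map_comp e.inv e.hom,
      e.inv_hom_id, Points.map_id]
  have := isSchematicPt_map hjK
    (isSchematicPt_of_primary hZ hZqc hZqs hnil bZ iC iΩ ptC pt hlift)
  rwa [Points.map_ofPt, hbZ'] at this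

/-- The base change to the algebraic closure of a purely transcendental extension is irreducible. -/
theorem isPrime_nilradical_fractionRing (ι : Type u) :
    (nilradical (AlgebraicClosure k ⊗[k] FractionRing (MvPolynomial ι k))).IsPrime := by
  have := Groth.EGA43Art.isDomain_fractionRing_tensor (k := k) (AlgebraicClosure k) ι
  have : IsDomain (AlgebraicClosure k ⊗[k] FractionRing (MvPolynomial ι k)) :=
    (Algebra.TensorProduct.comm k (AlgebraicClosure k) (FractionRing (MvPolynomial ι k))).injective.isDomain
      (Algebra.TensorProduct.comm k (AlgebraicClosure k) (FractionRing (MvPolynomial ι k))).toRingEquiv.toRingHom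
  rw [nilradical_eq_zero]
  exact Ideal.isPrime_bot

end Groth.SpLimit
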