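import Groth.Agent.SpLimit.GenericFinite
import Groth.Agent.PropsBasic2.SchTop
import Groth.Agent.AlgSpBasic.QComp

/-!
# Generic finiteness of the preimage of an affine open

A separated or quasi-compact dominant morphism of integral spaces with a single point over the
generic point is finite over some nonempty affine open of the target.
-/

set_option autoImplicit false
set_option backward.isDefEq.respectTransparency false
set_option backward.isDefEq.respectTransparency.types false

universe u

open CategoryTheory CategoryTheory.Limits AlgebraicGeometry Opposite AlgSp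
open Groth.AlgSpBasic Groth.AlgSp3 Groth.AlgSp2.QfCodim

noncomputable section

namespace Groth.SpLimit.GenericFinite

variable {S : Scheme.{u}}

theorem repWith_etale_of_openImm {F G : Sp S} {a : F ⟶ G} (ha : RepWith @IsOpenImmersion a) :
    RepWith @Etale a :=
  repWith_mono (fun _ _ g (_ : IsOpenImmersion g) => (inferInstance : Etale g)) ha

variable {X Y : AlgSp.Space S} {f : X ⟶ Y}

section Square

variable {U V : Over S} {a : (yon S).obj U ⟶ X.obj} {b : (yon S).obj V ⟶ Y.obj} {g : U ⟶ V}

/-- If an open piece contains the whole preimage of an open, it gives the preimage. -/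
theorem isPullback_of_range (ha : RepWith @IsOpenImmersion a) (hb : RepWith @IsOpenImmersion b)
    (comm : a ≫ f.hom = (yon S).map g ≫ b)
    (h : ∀ x' : Points X.obj, Points.map f.hom x' ∈ Set.range (Points.ofPt b) →
      x' ∈ Set.range (Points.ofPt a)) :
    IsPullback a ((yon S).map g) f.hom b := by
  have : Mono a := mono_of_repWith (fun _ _ g (_ : IsOpenImmersion g) => inferInstance) ha
  have : Mono b := mono_of_repWith (fun _ _ g (_ : IsOpenImmersion g) => inferInstance) hb
  let P := pullback f.hom b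
  have hP : IsAlgSpace P := isAlgSpace_of_isPullback (IsPullback.of_hasPullback f.hom b)
    Y.property.diag X.property (IsAlgSpace.yon_obj V)
  obtain ⟨l, hl⟩ := exists_lift_of_range_openImmersion hP ha (pullback.fst f.hom b) (by
    rintro _ ⟨p, rfl⟩
    obtain ⟨t, ht⟩ := h (Points.map (pullback.fst f.hom b) p) (by
      obtain ⟨t, ht⟩ := (Points.schemeHomeo V).surjective (Points.map (pullback.snd f.hom b) p)
      exact ⟨t, by rw [ofPt_eq_map, ← Points.map_comp, pullback.condition, Points.map_comp, ← ht]; rfl⟩)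
    exact ⟨Points.schemeHomeo U t, by rw [← ht, ofPt_eq_map]; rfl⟩)
  let j : (yon S).obj U ⟶ P := pullback.lift a ((yon S).map g) comm
  have h₁ : j ≫ l = 𝟙 _ := by
    rw [← cancel_mono a, Category.assoc, hl, pullback.lift_fst, Category.id_comp]
  have h₂ : l ≫ j = 𝟙 _ := by
    apply pullback.hom_ext
    · rw [Category.assoc, pullback.lift_fst, hl, Category.id_comp]
    · rw [Category.assoc, pullback.lift_snd, Category.id_comp, ← cancel_mono b, Category.assoc,
        ← comm, ← Category.assoc, hl, pullback.condition]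
  exact IsPullback.of_iso_pullback ⟨comm⟩ ⟨j, l, h₁, h₂⟩ (pullback.lift_fst _ _ _)
    (pullback.lift_snd _ _ _)

/-- Over a neighbourhood avoiding the image of the rest, the preimage lies in the piece. -/
theorem exists_affine_preimage (ha : RepWith @IsOpenImmersion a) (hb : RepWith @IsOpenImmersion b)
    (comm : a ≫ f.hom = (yon S).map g ≫ b) [IsFinite g.left] {T : Over S}
    {c : (yon S).obj T ⟶ X.obj} {k : T ⟶ V} (hk : c ≫ f.hom = (yon S).map k ≫ b)
    (hcov : ∀ x' : Points X.obj, Points.map f.hom x' ∈ Set.range (Points.ofPt b) →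
      x' ∈ Set.range (Points.ofPt c))
    {v : ↥V.left} (hv : v ∉ closure (k.left '' (Points.ofPt c ⁻¹' (Set.range (Points.ofPt a))ᶜ))) :
    ∃ (V' : Over S) (b' : (yon S).obj V' ⟶ Y.obj) (U' : Over S) (g' : U' ⟶ V')
      (a' : (yon S).obj U' ⟶ X.obj), IsAffine V'.left ∧ Nonempty ↥V'.left ∧
        RepWith @IsOpenImmersion b' ∧ IsPullback a' ((yon S).map g') f.hom b' ∧
          IsAffine U'.left ∧ IsFinite g'.left := by
  obtain ⟨D, hD, hvD, hDO⟩ := exists_isAffineOpen_mem_and_subset (X := V.left) (x := v)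
    (U := ⟨(closure (k.left '' (Points.ofPt c ⁻¹' (Set.range (Points.ofPt a))ᶜ)))ᶜ,
      isClosed_closure.isOpen_compl⟩) hv
  let VD : Over S := Over.mk (D.ι ≫ V.hom)
  let UD : Over S := Over.mk ((g.left ⁻¹ᵁ D).ι ≫ U.hom)
  let jV : VD ⟶ V := Over.homMk D.ι rfl
  let jU : UD ⟶ U := Over.homMk (g.left ⁻¹ᵁ D).ι rfl
  let gD : UD ⟶ VD := Over.homMk (g.left ∣_ D) (by
    show g.left ∣_ D ≫ D.ι ≫ V.hom = (g.left ⁻¹ᵁ D).ι ≫ U.hom
    rw [morphismRestrict_ι_assoc, Over.w g])
  have : IsAffine VD.left := hD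
  have : IsFinite gD.left := IsZariskiLocalAtTarget.restrict (P := @IsFinite) ‹_› D
  have hbD : RepWith @IsOpenImmersion ((yon S).map jV ≫ b) :=
    repWith_comp ((repWith_yon_map_iff _ jV).2 (inferInstanceAs (IsOpenImmersion D.ι))) hb
  have haD : RepWith @IsOpenImmersion ((yon S).map jU ≫ a) :=
    repWith_comp ((repWith_yon_map_iff _ jU).2 (inferInstanceAs (IsOpenImmersion (g.left ⁻¹ᵁ D).ι))) ha
  refine ⟨VD, (yon S).map jV ≫ b, UD, gD, (yon S).map jU ≫ a, hD, ⟨⟨v, hvD⟩⟩, hbD, ?_,
    isAffine_of_isAffineHom gD.left, inferInstance⟩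
  refine isPullback_of_range haD hbD ?_ fun x' ⟨d, hd⟩ => ?_
  · rw [Category.assoc, comm, ← Category.assoc, ← Category.assoc, ← Functor.map_comp,
      ← Functor.map_comp]
    congr 2
    exact Over.OverMorphism.ext (morphismRestrict_ι g.left D).symm
  · rw [ofPt_comp_yon] at hd
    obtain ⟨t, rfl⟩ := hcov x' ⟨_, hd⟩
    have ht : k.left t = jV.left d := injective_ofPt_openImm Y.property hb (by
      rw [hd, Points.map_ofPt, hk, ofPt_comp_yon])
    obtain ⟨s, hs⟩ : Points.ofPt c t ∈ Set.range (Points.ofPt a) := by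
      by_contra hn
      exact hDO (show jV.left d ∈ D from d.2) (subset_closure ⟨t, hn, ht⟩)
    have hsD : g.left s = jV.left d := injective_ofPt_openImm Y.property hb (by
      rw [hd, ← hs, Points.map_ofPt, comm, ofPt_comp_yon])
    refine ⟨(⟨s, show g.left s ∈ D from hsD ▸ d.2⟩ : ↥(g.left ⁻¹ᵁ D)), ?_⟩
    rw [ofPt_comp_yon]
    exact hs

end Square

variable (hXi : IsIntegralSp X.obj) (hYi : IsIntegralSp Y.obj)
  {x : Points X.obj} (hx : IsGenericPoint x (Set.univ : Set (Points X.obj)))
  {y : Points Y.obj} (hy : IsGenericPoint y (Set.univ : Set (Points Y.obj)))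

include hXi hx in
theorem range_eq_of_separated (hsep : IsSeparatedMor f.hom) {U V T : Over S}
    {a : (yon S).obj U ⟶ X.obj} {b : (yon S).obj V ⟶ Y.obj} {g : U ⟶ V}
    (ha : RepWith @IsOpenImmersion a) (hb : RepWith @IsOpenImmersion b)
    (comm : a ≫ f.hom = (yon S).map g ≫ b) [IsFinite g.left] {c : (yon S).obj T ⟶ X.obj}
    (hc : RepWith @Etale c) {k : T ⟶ V} (hk : c ≫ f.hom = (yon S).map k ≫ b)
    (hxU : x ∈ Set.range (Points.ofPt a)) (t : ↥T.left) :
    Points.ofPt c t ∈ Set.range (Points.ofPt a) := by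
  have : Mono b := mono_of_repWith (fun _ _ g (_ : IsOpenImmersion g) => inferInstance) hb
  have sqY : IsPullback ((yon S).map (pullback.fst g k)) ((yon S).map (pullback.snd g k))
      (a ≫ f.hom) (c ≫ f.hom) := by
    rw [comm, hk]
    exact isPullback_comp_mono b ((IsPullback.of_hasPullback g k).map (yon S))
  let m := pullback.map (a ≫ f.hom) (c ≫ f.hom) f.hom f.hom a c (𝟙 Y.obj) (Category.comp_id _)
    (Category.comp_id _)
  let e := sqY.isoPullback
  obtain ⟨W, w, q, sqW⟩ := hsep.rep (e.hom ≫ m)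
  have hw : IsClosedImmersion w.left := hsep.property (e.hom ≫ m) q w sqW
  have sqD : IsPullback (pullback.fst a c ≫ a)
      (pullback.map a c (a ≫ f.hom) (c ≫ f.hom) (𝟙 _) (𝟙 _) f.hom (Category.id_comp _).symm
        (Category.id_comp _).symm ≫ e.inv) (pullback.diagonal f.hom) (e.hom ≫ m) :=
    (pullback_map_diagonal_isPullback a c f.hom).of_iso (Iso.refl _) (Iso.refl _) e.symm
      (Iso.refl _) (by simp) (by simp) (by simp) (by simp [m])
  let iW : pullback a c ≅ (yon S).obj W := sqD.isoIsPullback _ _ sqW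
  have : IsFinite (pullback.snd g k).left :=
    MorphismProperty.of_isPullback (P := @IsFinite)
      ((IsPullback.of_hasPullback g k).map (Over.forget S)) ‹_›
  have hcl : IsClosed (Set.range ((w ≫ pullback.snd g k).left)) := by
    rw [Over.comp_left]
    have : IsFinite (w.left ≫ (pullback.snd g k).left) := inferInstance
    exact (w.left ≫ (pullback.snd g k).left).isClosedMap.isClosed_range
  have hrange : Points.ofPt c ⁻¹' Set.range (Points.ofPt a) = Set.range ((w ≫ pullback.snd g k).left) := by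
    have e : (yon S).map (w ≫ pullback.snd g k) = iW.inv ≫ pullback.snd a c := by
      have hw' : (yon S).map w = iW.inv ≫ pullback.map a c (a ≫ f.hom) (c ≫ f.hom) (𝟙 _) (𝟙 _) f.hom
          (Category.id_comp _).symm (Category.id_comp _).symm ≫ e.inv := by
        rw [Iso.eq_inv_comp]
        exact IsPullback.isoIsPullback_hom_snd _ _ _ sqW
      rw [Functor.map_comp, hw', Category.assoc, Category.assoc, sqY.isoPullback_inv_snd,
        pullback.lift_snd, Category.comp_id]
    have sq : IsPullback (iW.inv ≫ pullback.fst a c) ((yon S).map (w ≫ pullback.snd g k)) a c := by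
      rw [e]
      exact (IsPullback.of_hasPullback a c).of_iso iW (Iso.refl _) (Iso.refl _) (Iso.refl _)
        (by simp) (by simp) (by simp) (by simp)
    ext t
    constructor
    · rintro ⟨s, hs⟩
      obtain ⟨z, -, hz⟩ := (map_eq_ofPt_iff sq (Points.schemeHomeo U s) t).1
        (by rw [← hs, ofPt_eq_map]; rfl)
      exact ⟨z, hz⟩
    · rintro ⟨z, rfl⟩
      have := (map_eq_ofPt_iff sq _ ((w ≫ pullback.snd g k).left z)).2 ⟨z, rfl, rfl⟩
      obtain ⟨s, hs⟩ := (Points.schemeHomeo U).surjective
        (Points.ofPt (iW.inv ≫ pullback.fst a c) z)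
      exact ⟨s, by rw [ofPt_eq_map, ← this, ← hs]; rfl⟩
  obtain ⟨t', ht', hxt⟩ := exists_specializes_of_finiteAt (finiteAt_of_isDecent hXi.2.1 x) hc
    (hx.specializes (Set.mem_univ (Points.ofPt c t)))
  by_contra hn
  have hO : IsOpen (Points.ofPt c ⁻¹' Set.range (Points.ofPt a))ᶜ := by
    rw [hrange]; exact hcl.isOpen_compl
  exact ht'.mem_open hO hn (by rw [Set.mem_preimage, hxt]; exact hxU)

include hXi hYi hx hy in
theorem exists_affine_open_finite_preimage (hft : LocP @LocallyOfFiniteType f.hom)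
    (hd : IsDominantMor f.hom) (h : ∀ x', Points.map f.hom x' = y → x' = x)
    (hsq : IsSeparatedMor f.hom ∨ IsQuasiCompactMor f.hom) :
    ∃ (V : Over S) (b : (yon S).obj V ⟶ Y.obj) (U : Over S) (g : U ⟶ V) (a : (yon S).obj U ⟶ X.obj),
      IsAffine V.left ∧ Nonempty ↥V.left ∧ RepWith @IsOpenImmersion b ∧
        IsPullback a ((yon S).map g) f.hom b ∧ IsAffine U.left ∧ IsFinite g.left := by
  obtain ⟨U, V, a, b, g, hU, hV, ⟨u⟩, ha, hb, comm, hg⟩ :=
    exists_finite_affine_opens hXi hYi hx hy hft hd h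
  have hxU : x ∈ Set.range (Points.ofPt a) := generic_mem_of_nonempty hx
    (isOpenMap_ofPt_of_repWith (fun _ _ φ (_ : IsOpenImmersion φ) => φ.isOpenEmbedding.isOpenMap)
      ha).isOpen_range ⟨_, u, rfl⟩
  obtain ⟨u₀, hu₀⟩ := hxU
  have hv : Points.ofPt b (g.left u₀) = y := by
    rw [← map_generic hYi hx hy hd, ← hu₀, Points.map_ofPt, comm, ofPt_comp_yon]
  let P := pullback f.hom b
  have sqP : IsPullback (pullback.fst f.hom b) (pullback.snd f.hom b) f.hom b :=
    IsPullback.of_hasPullback _ _
  have hP : IsAlgSpace P := isAlgSpace_of_isPullback sqP Y.property.diag X.property (IsAlgSpace.yon_obj V)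
  have hpr : RepWith @Etale (pullback.fst f.hom b) :=
    repWith_etale_of_openImm (repWith_of_isPullback sqP.flip hb)
  have mkData : ∀ {T : Over S} (q : (yon S).obj T ⟶ P), RepWith @Surjective q →
      ∃ k : T ⟶ V, (q ≫ pullback.fst f.hom b) ≫ f.hom = (yon S).map k ≫ b ∧
        ∀ x' : Points X.obj, Points.map f.hom x' ∈ Set.range (Points.ofPt b) →
          x' ∈ Set.range (Points.ofPt (q ≫ pullback.fst f.hom b)) := by
    intro T q hq
    obtain ⟨k, hk⟩ := (yon S).map_surjective (q ≫ pullback.snd f.hom b)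
    refine ⟨k, by rw [Category.assoc, pullback.condition, ← Category.assoc, hk], ?_⟩
    rintro x' ⟨s, hs⟩
    obtain ⟨z, hz, -⟩ := exists_point_of_isPullback sqP x' (Points.schemeHomeo V s)
      (by rw [← hs, ofPt_eq_map]; rfl)
    obtain ⟨t, rfl⟩ := surjective_ofPt_of_repWith hq z
    exact ⟨t, by rw [← hz, Points.map_ofPt]⟩
  rcases hsq with hsep | hqc
  · obtain ⟨T, q, hq, hqs⟩ := hP.atlas
    obtain ⟨k, hk, hcov⟩ := mkData q hqs
    refine exists_affine_preimage ha hb comm hk hcov (v := g.left u₀) ?_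
    rw [show Points.ofPt (q ≫ pullback.fst f.hom b) ⁻¹' (Set.range (Points.ofPt a))ᶜ = ∅ from
      Set.eq_empty_iff_forall_notMem.2 fun t ht => ht
        (range_eq_of_separated hXi hx hsep ha hb comm (repWith_comp hq hpr) hk ⟨u₀, hu₀⟩ t),
      Set.image_empty, closure_empty]
    exact Set.notMem_empty _
  · have : CompactSpace ↥V.left := inferInstance
    obtain ⟨T, q, hq, hqs, hT⟩ := hqc (IsAlgSpace.yon_obj V) ((isQuasiCompactSp_yon_iff V).2 ‹_›)
      b _ _ sqP
    obtain ⟨k, hk, hcov⟩ := mkData q hqs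
    refine exists_affine_preimage ha hb comm hk hcov (v := g.left u₀) ?_
    let Z : TopologicalSpace.Closeds ↥T.left :=
      ⟨Points.ofPt (q ≫ pullback.fst f.hom b) ⁻¹' (Set.range (Points.ofPt a))ᶜ,
        ((isOpenMap_ofPt_of_repWith (fun _ _ φ (_ : IsOpenImmersion φ) => φ.isOpenEmbedding.isOpenMap)
          ha).isOpen_range.isClosed_compl).preimage (Points.continuous_ofPt _)⟩
    let I := Scheme.IdealSheafData.vanishingIdeal Z
    intro hcl
    have hI : Set.range I.subschemeι = (Z : Set ↥T.left) := by rw [I.range_subschemeι]; rfl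
    have : QuasiCompact k.left := by
      have : CompactSpace ↥T.left := hT
      exact quasiCompact_of_compactSpace k.left
    obtain ⟨z, hz⟩ := Groth.PropsBasic2.exists_specializes_of_mem_closure_range (I.subschemeι ≫ k.left)
      (y := g.left u₀) (by
        rw [show Set.range (I.subschemeι ≫ k.left) = k.left '' (Z : Set ↥T.left) by
          rw [← hI, ← Set.range_comp]; rfl]
        exact hcl)
    have hmax := eq_of_specializes_of_ringKrullDim_eq_zero
      ((hasAt_iff_forall etaleInvariant_ringKrullDim Y.property _ _).1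
        (codimZero_of_generic hYi.2.1 hy) V b _ (repWith_etale_of_openImm hb) hv) _ hz
    have hzZ : I.subschemeι z ∈ (Z : Set ↥T.left) := hI ▸ ⟨z, rfl⟩
    refine hzZ ?_
    have hzx : Points.ofPt (q ≫ pullback.fst f.hom b) (I.subschemeι z) = x := h _ (by
      rw [Points.map_ofPt, hk, ofPt_comp_yon]
      show Points.ofPt b ((I.subschemeι ≫ k.left) z) = y
      rw [hmax, hv])
    rw [hzx]
    exact ⟨u₀, hu₀⟩

end Groth.SpLimit.GenericFinite
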