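import Groth.Agent.SpLimit.SchemeLimit
import Groth.Agent.SpLimit.AffineEventual
import Groth.Agent.SpLimit.OpenDescent
import Groth.Agent.AlgSpBasic.MonoDiscrete
import Groth.Agent.AlgSpBasic.DecentFiniteFibre

/-!
# An affine open of a limit of algebraic spaces comes from an affine open at a stage
-/

set_option autoImplicit false
set_option backward.isDefEq.respectTransparency false
set_option backward.isDefEq.respectTransparency.types false

universe u

open CategoryTheory CategoryTheory.Limits AlgebraicGeometry Opposite AlgSp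
open Groth.AlgSpBasic

noncomputable section

namespace Groth.SpLimit

variable {S : Scheme.{u}}

variable [QuasiSeparatedSpace S] {I : Type u} [SmallCategory I] [IsCofiltered I]
  {D : I ⥤ Sp S} {c : Cone D} (hD : ∀ i, IsAlgSpace (D.obj i))
  (hDa : ∀ (i j : I) (φ : i ⟶ j), IsAffineMor (D.map φ)) (hc : IsLimit c)
  (hqc : ∀ i, IsQuasiCompactSp (D.obj i)) (hqs : ∀ i, IsQuasiSeparatedSp (D.obj i))

include hD hDa hc hqc hqs in
/-- An affine open subspace of the limit lands in an affine open at a stage. -/
theorem exists_affine_open_stage {V : Over S} [IsAffine V.left] (j : (yon S).obj V ⟶ c.pt)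
    (hj : RepWith @IsOpenImmersion j) :
    ∃ (k : I) (T' : Over S) (a : (yon S).obj T' ⟶ D.obj k), IsAffine T'.left ∧
      RepWith @IsOpenImmersion a ∧
      ∀ v, Points.map (c.π.app k) (Points.ofPt j v) ∈ Set.range (Points.ofPt a) := by
  obtain ⟨i, Ui, ji, q, hji, hUc, sq⟩ := exists_openSub_stage hD hDa hc hqc hqs j hj
    ((isQuasiCompactSp_yon_iff _).2 inferInstance)
  have hUa : IsAlgSpace Ui := isAlgSpace_of_representable (hD i) _ hji.rep
  have : Mono ji := mono_of_repWith (fun _ _ g (_ : IsOpenImmersion g) => (inferInstance : Mono g)) hji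
  have hUqs : IsQuasiSeparatedSp Ui := isQuasiSeparatedSp_of_openImmersion (hqs i) hji
  let t : Over.forget i ⋙ D ⟶ (Functor.const (Over i)).obj (D.obj i) :=
    { app := fun k => D.map k.hom
      naturality := fun k l m => by
        show D.map m.left ≫ D.map l.hom = D.map k.hom ≫ 𝟙 _
        rw [Category.comp_id, ← D.map_comp, Over.w m] }
  have := IsCofiltered.isConnected (C := Over i)
  obtain ⟨hc'⟩ := nonempty_isLimit_bcCone t ji (c := c.whisker (Over.forget i)) (g := c.π.app i)
    (fun k => c.w k.hom) ((Functor.Initial.isLimitWhiskerEquiv (Over.forget i) c).symm hc)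
  have hF := fun k => isAlgSpace_bcSys (fun k : Over i => hD k.left) (hD i) hUa t ji k
  obtain ⟨k, T', hT', ⟨e⟩⟩ := exists_affine_of_limit (D := bcSys t ji) hF
    (fun k l m => isAffineMor_iff_repWith.2 (repWith_of_isPullback (isPullback_bcSys_map t ji m)
      (isAffineMor_iff_repWith.1 (hDa _ _ m.left))))
    hc' (fun k => isQuasiCompactSp_of_affine hUc (IsPullback.of_hasPullback (t.app k) ji)
      (hDa _ _ k.hom))
    (fun k => isQuasiSeparatedSp_of_isPullback (hF k) (hqs k.left) (hqs i) hUqs
      (IsPullback.of_hasPullback (t.app k) ji))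
    V sq.isoPullback
  refine ⟨k.left, T', e.hom ≫ pullback.fst (t.app k) ji, hT', repWith_comp (repWith_isIso _)
    (repWith_of_isPullback (IsPullback.of_hasPullback (t.app k) ji).flip hji), fun v => ?_⟩
  obtain ⟨lv, hlv⟩ : ∃ lv : (yon S).obj V ⟶ (bcSys t ji).obj k,
      lv ≫ pullback.fst (t.app k) ji = j ≫ c.π.app k.left :=
    ⟨pullback.lift (j ≫ c.π.app k.left) q (by rw [Category.assoc]; erw [c.w k.hom]; exact sq.w),
      pullback.lift_fst _ _ _⟩
  obtain ⟨v', hv'⟩ := (yon S).map_surjective (lv ≫ e.inv)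
  refine ⟨v'.left v, ?_⟩
  rw [← ofPt_comp_yon, hv', Points.map_ofPt, ← hlv]
  simp

end Groth.SpLimit
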