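import Groth.Agent.SpLimit.FieldStage
import Groth.Agent.SpLimit.AffineOpenStage
import Groth.Agent.GitQuot.FiniteAffine

/-!
# Affine opens over an algebraic extension come from a finite extension up to finite sets of points
-/

set_option autoImplicit false
set_option backward.isDefEq.respectTransparency false
set_option backward.isDefEq.respectTransparency.types false

universe u

open CategoryTheory CategoryTheory.Limits AlgebraicGeometry Opposite AlgSp
open Groth.AlgSpBasic

noncomputable section

namespace Groth.SpLimit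

variable {k : Type u} [Field k]

set_option maxHeartbeats 800000 in
/-- Finitely many points in an affine open over an algebraic extension go, over some finite extension,
into an affine open. -/
theorem exists_finite_affine_open {W : Sp (kSpec k)} (hW : IsAlgSpace W) (hqc : IsQuasiCompactSp W)
    (hqs : IsQuasiSeparatedSp W) (Ω : Type u) [Field Ω] [Algebra k Ω] [Algebra.IsAlgebraic k Ω]
    {V : Over (kSpec k)} [IsAffine V.left] (a : (yon (kSpec k)).obj V ⟶ W ⨯ (yon _).obj (kOver k Ω))
    (ha : RepWith @IsOpenImmersion a) :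
    ∃ (κ : Type u) (_ : Field κ) (_ : Algebra k κ) (ι : κ →ₐ[k] Ω), Module.Finite k κ ∧
      ∀ F : Set (Points (W ⨯ (yon _).obj (kOver k κ))), F.Finite →
        F ⊆ Points.map (prod.map (𝟙 W) ((yon _).map (kOverMap κ Ω ι))) '' Set.range (Points.ofPt a) →
        ∃ (U : Over (kSpec k)) (u : (yon _).obj U ⟶ W ⨯ (yon _).obj (kOver k κ)),
          IsAffine U.left ∧ RepWith @IsOpenImmersion u ∧ F ⊆ Set.range (Points.ofPt u) := by
  let T := kOver k Ω
  let pt : ↥T.left := (⟨⊥, Ideal.isPrime_bot⟩ : PrimeSpectrum Ω)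
  obtain ⟨J, _, _, E, π, ⟨lE⟩, hEa, -, hEc, hEp, hEs⟩ := exists_affine_fp_system T
  have := IsCofiltered.isConnected (C := J)
  let Y := (yon (kSpec k)).obj (Over.mk (𝟙 (kSpec k)))
  let ht : IsTerminal Y := IsTerminal.isTerminalObj (yon _) _ Over.mkIdTerminal
  let q : W ⟶ Y := ht.from W
  let t : E ⋙ yon (kSpec k) ⟶ (Functor.const J).obj Y :=
    { app := fun j => ht.from _
      naturality := fun i j φ => ht.hom_ext _ _ }
  have lc' : IsLimit (Cone.mk T π) := isLimitOfReflects (Over.forget (kSpec k)) lE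
  obtain ⟨lc⟩ := nonempty_isLimit_bcCone t q (c := (yon (kSpec k)).mapCone (Cone.mk T π))
    (g := ht.from _) (fun j => ht.hom_ext _ _) (isLimitOfPreserves (yon (kSpec k)) lc')
  have hY : IsAlgSpace Y := IsAlgSpace.yon_obj _
  have hYqs : IsQuasiSeparatedSp Y :=
    have : QuasiSeparated (Over.mk (𝟙 (kSpec k))).hom := inferInstanceAs (QuasiSeparated (𝟙 _))
    isQuasiSeparatedSp_yon_of_hom _
  have hD : ∀ j, IsAlgSpace ((bcSys t q).obj j) := fun j =>
    isAlgSpace_of_isPullback (IsPullback.of_hasPullback (t.app j) q) hY.diag (IsAlgSpace.yon_obj _) hW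
  have hDa : ∀ i j (φ : i ⟶ j), IsAffineMor ((bcSys t q).map φ) := fun i j φ =>
    isAffineMor_iff_repWith.2 (repWith_of_isPullback (isPullback_bcSys_map t q φ)
      ((repWith_yon_map_iff _ _).2 (hEa i j φ)))
  have hDc : ∀ j, IsQuasiCompactSp ((bcSys t q).obj j) := fun j =>
    isQuasiCompactSp_of_qc hqc (IsPullback.of_hasPullback (t.app j) q)
      (by
        rw [show t.app j = (yon (kSpec k)).map (Over.mkIdTerminal.from (E.obj j)) from ht.hom_ext _ _]
        refine (repWith_yon_map_iff _ _).2 ?_
        rw [show (Over.mkIdTerminal.from (E.obj j)).left = (E.obj j).hom from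
          (Category.comp_id _).symm.trans (Over.w _)]
        have : IsAffine (kSpec k) := inferInstanceAs (IsAffine (Spec _))
        exact (quasiCompact_iff_compactSpace (E.obj j).hom).2 (hEc j))
  have hDs : ∀ j, IsQuasiSeparatedSp ((bcSys t q).obj j) := fun j => by
    have : QuasiSeparated (E.obj j).hom := hEs j
    exact isQuasiSeparatedSp_of_isPullback (hD j) (isQuasiSeparatedSp_yon_of_hom (E.obj j)) hYqs
      hqs (IsPullback.of_hasPullback (t.app j) q)
  -- the identification with products
  let α : W ⨯ (yon (kSpec k)).obj T ⟶ pullback (ht.from ((yon (kSpec k)).obj T)) q :=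
    pullback.lift prod.snd prod.fst (ht.hom_ext _ _)
  have : IsIso α := ⟨prod.lift (pullback.snd _ _) (pullback.fst _ _), by
    apply prod.hom_ext <;> simp [α], by apply pullback.hom_ext <;> simp [α]⟩
  obtain ⟨j, T₁, a₁, hT₁, ha₁, hj⟩ := exists_affine_open_stage hD hDa lc hDc hDs (a ≫ α)
    (repWith_comp ha (repWith_isIso _))
  let β : (bcSys t q).obj j ⟶ W ⨯ (yon (kSpec k)).obj (E.obj j) :=
    prod.lift (pullback.snd _ _) (pullback.fst _ _)
  have : IsIso β := ⟨pullback.lift prod.snd prod.fst (ht.hom_ext _ _),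
    by apply pullback.hom_ext <;> simp [β], by apply prod.hom_ext <;> simp [β]⟩
  have hαβ : α ≫ (bcCone t q (c := (yon (kSpec k)).mapCone (Cone.mk T π)) (g := ht.from _)
      (fun j => ht.hom_ext _ _)).π.app j ≫ β = prod.map (𝟙 W) ((yon _).map (π.app j)) := by
    apply prod.hom_ext <;> simp [α, β, bcCone]
  have hrange : ∀ v, Points.ofPt (a ≫ prod.map (𝟙 W) ((yon _).map (π.app j))) v ∈
      Set.range (Points.ofPt (a₁ ≫ β)) := fun v => by
    obtain ⟨v₁, hv₁⟩ := hj v
    refine ⟨v₁, ?_⟩
    rw [← Points.map_ofPt, hv₁, ← hαβ, Points.map_ofPt, Points.map_ofPt, Category.assoc,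
      Category.assoc]
  -- the closure of the point in an affine open of the stage
  obtain ⟨_, ⟨(U : (E.obj j).left.Opens), hU, rfl⟩, hξ, -⟩ :=
    (E.obj j).left.isBasis_affineOpens.exists_subset_of_mem_open
      (Set.mem_univ ((π.app j).left pt)) isOpen_univ
  let πU : T.left ⟶ (U : Scheme) := IsOpenImmersion.lift U.ι (π.app j).left (by
    rintro _ ⟨p, rfl⟩
    rw [Scheme.Opens.range_ι, Subsingleton.elim (α := PrimeSpectrum Ω) p pt]
    exact hξ)
  have : IsAffine (U : Scheme) := hU
  let B := Γ((U : Scheme), ⊤)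
  obtain ⟨χ, hχ⟩ := Spec.map_surjective (R := CommRingCat.of k)
    ((U : Scheme).isoSpec.inv ≫ U.ι ≫ (E.obj j).hom)
  let _ : Algebra k B := χ.hom.toAlgebra
  have : Algebra.FiniteType k B := by
    have : LocallyOfFinitePresentation (E.obj j).hom := hEp j
    have h' : LocallyOfFiniteType (Spec.map χ) := by rw [hχ]; infer_instance
    exact (HasRingHomProperty.Spec_iff (P := @LocallyOfFiniteType)).1 h'
  let eU : kOver k B ⟶ E.obj j := Over.homMk ((U : Scheme).isoSpec.inv ≫ U.ι) (by
    rw [Category.assoc]; exact hχ.symm)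
  let dU : T ⟶ kOver k B := Over.homMk (πU ≫ (U : Scheme).isoSpec.hom) (by
    show (πU ≫ (U : Scheme).isoSpec.hom) ≫ Spec.map χ = _
    rw [hχ, Category.assoc, Iso.hom_inv_id_assoc, IsOpenImmersion.lift_fac_assoc]
    exact Over.w (π.app j))
  obtain ⟨ψ, hψ⟩ := exists_algHom dU
  let A := ψ.range
  have hd : dU ≫ eU = π.app j := Over.OverMorphism.ext (by
    simp [dU, eU, πU])
  have : Algebra.FiniteType k A :=
    Algebra.FiniteType.of_surjective ψ.rangeRestrict ψ.rangeRestrict_surjective
  let cl : kOver k A ⟶ kOver k B := kOverMap (k := k) B A ψ.rangeRestrict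
  have : IsClosedImmersion cl.left :=
    IsClosedImmersion.spec_of_surjective _ ψ.rangeRestrict_surjective
  let em : kOver k A ⟶ E.obj j := cl ≫ eU
  have : Algebra.IsAlgebraic k A :=
    ⟨fun x => (isAlgebraic_algHom_iff A.val Subtype.val_injective).1 (Algebra.IsAlgebraic.isAlgebraic x.1)⟩
  have hAf : IsField A := isField_of_isIntegral_of_isField' (R := k) (Field.toIsField k)
  let _ := hAf.toField
  have : Module.Finite k A := Algebra.IsIntegral.finite
  have hfac : kOverMap A Ω A.val ≫ em = π.app j := by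
    rw [← hd, ← hψ, ← Category.assoc]
    congr 1
    ext : 1
    show Spec.map _ ≫ Spec.map _ = Spec.map _
    rw [← Spec.map_comp]
    rfl
  refine ⟨A, inferInstance, inferInstance, A.val, inferInstance, fun F hF hFa => ?_⟩
  have hpe : Representable (prod.map (𝟙 W) ((yon _).map em)) :=
    MorphismProperty.of_isPullback (P := Representable) (isPullback_prod_map_snd _ W)
      (representable_yon_map em)
  have hb : RepWith @IsOpenImmersion (a₁ ≫ β) := repWith_comp ha₁ (repWith_isIso _)
  obtain ⟨V', snd, fst, sqV⟩ := hpe (a₁ ≫ β)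
  -- the projection to the affine open is separated, quasi-finite and of finite type
  have hem : ∀ (P : MorphismProperty Scheme.{u}) [P.IsStableUnderBaseChange], P em.left → P snd.left :=
    fun P _ hP => (repWith_of_isPullback (isPullback_prod_map_snd ((yon (kSpec k)).map em) W)
      ((repWith_yon_map_iff P em).2 hP)).property _ fst snd sqV
  have hAff : LocallyQuasiFinite (kOver k A).hom ∧ LocallyOfFiniteType (kOver k A).hom := by
    have : IsFinite (kOver k A).hom :=
      (IsFinite.SpecMap_iff _).2 (RingHom.finite_algebraMap.2 inferInstance)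
    exact ⟨inferInstance, inferInstance⟩
  have := hAff.1
  have := hAff.2
  have : IsSeparated em.left := by
    have : IsSeparated (em.left ≫ (E.obj j).hom) := by
      rw [Over.w em]; infer_instance
    exact IsSeparated.of_comp em.left (E.obj j).hom
  have : LocallyOfFiniteType em.left := by
    have : LocallyOfFiniteType (em.left ≫ (E.obj j).hom) := by
      rw [Over.w em]; infer_instance
    exact locallyOfFiniteType_of_comp em.left (E.obj j).hom
  have : LocallyQuasiFinite em.left := by
    have : LocallyQuasiFinite (em.left ≫ (E.obj j).hom) := by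
      rw [Over.w em]; infer_instance
    exact LocallyQuasiFinite.of_comp em.left (E.obj j).hom
  have := hem @IsSeparated ‹_›
  have := hem @LocallyOfFiniteType ‹_›
  have := hem @LocallyQuasiFinite ‹_›
  have := hT₁
  have hfst : RepWith @IsOpenImmersion fst := repWith_of_isPullback sqV.flip hb
  have hF' : F ⊆ Set.range (Points.ofPt fst) := by
    intro x hx
    obtain ⟨_, ⟨v, rfl⟩, rfl⟩ := hFa hx
    obtain ⟨v₁, hv₁⟩ := hrange v
    have h₁ : Points.map (prod.map (𝟙 W) ((yon _).map em))
        (Points.map (prod.map (𝟙 W) ((yon _).map (kOverMap A Ω A.val))) (Points.ofPt a v)) =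
          Points.ofPt (a₁ ≫ β) v₁ := by
      rw [Points.map_ofPt, Points.map_ofPt, Category.assoc, prod.map_map, Category.id_comp,
        ← Functor.map_comp, hfac, hv₁]
    obtain ⟨w, hw, -⟩ := (map_eq_ofPt_iff sqV _ v₁).1 h₁
    exact ⟨w, hw⟩
  have hinj : Function.Injective (Points.ofPt fst) := fun w w' h => by
    have : Mono fst := mono_of_repWith (fun _ _ g (_ : IsOpenImmersion g) => (inferInstance : Mono g)) hfst
    obtain ⟨R, p₁, p₂, sqR⟩ := exists_pullback_yon hfst.rep fst
    obtain ⟨r, hr₁, hr₂⟩ := (ofPt_eq_ofPt_iff sqR w w').1 h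
    have : p₁ = p₂ := (yon (kSpec k)).map_injective ((cancel_mono fst).1 sqR.w)
    rw [← hr₁, ← hr₂, this]
  obtain ⟨U₀, hU₀, hFU⟩ := Groth.GitQuot.exists_affineOpen_of_finite snd.left
    (Points.ofPt fst ⁻¹' F) (hF.preimage hinj.injOn)
  let U₁ : Over (kSpec k) := Over.mk (U₀.ι ≫ V'.hom)
  let jU : U₁ ⟶ V' := Over.homMk U₀.ι rfl
  refine ⟨U₁, (yon _).map jU ≫ fst, hU₀, repWith_comp ((repWith_yon_map_iff _ jU).2
    (inferInstanceAs (IsOpenImmersion U₀.ι))) hfst, fun x hx => ?_⟩
  obtain ⟨w, rfl⟩ := hF' hx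
  exact ⟨⟨w, hFU hx⟩, by rw [ofPt_comp_yon]; rfl⟩

end Groth.SpLimit
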