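import Groth.Agent.SpLimit.GroupScheme
import Groth.Agent.SpLimit.AffineFiniteStage
import Groth.Agent.AlgSpBasic.DecentTop
import Groth.Agent.AlgSp2.FieldPts

/-!
# Decent spaces locally of finite type over a field which are schemes over the algebraic closure
-/

set_option autoImplicit false
set_option backward.isDefEq.respectTransparency false
set_option backward.isDefEq.respectTransparency.types false

universe u

open CategoryTheory CategoryTheory.Limits AlgebraicGeometry Opposite AlgSp TensorProduct
open Groth.AlgSpBasic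

noncomputable section

namespace Groth.SpLimit

variable {k : Type u} [Field k]

/-- Algebraic elements of an extension of an algebraically closed field lie in it. -/
theorem mem_range_of_isAlgebraic {K L : Type u} [Field K] [IsAlgClosed K] [Field L] [Algebra k K]
    [Algebra k L] (f : K →ₐ[k] L) (x : L) (hx : IsAlgebraic k x) : x ∈ Set.range f := by
  let _ := f.toRingHom.toAlgebra
  have : IsScalarTower k K L := IsScalarTower.of_algebraMap_eq fun t => (f.commutes t).symm
  have hi : IsIntegral K x := (isAlgebraic_iff_isIntegral.1 hx).tower_top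
  exact minpoly.mem_range_of_degree_eq_one K x
    (IsAlgClosed.degree_eq_one_of_irreducible K (minpoly.irreducible hi))

/-- A finite extension of the ground field, composed with a residue field, lands in the algebraic
closure. -/
theorem exists_factor {C K L : Type u} [Field C] [Algebra k C] [Algebra.IsAlgebraic k C] [Field K]
    [IsAlgClosed K] [Field L] [Algebra k K] [Algebra k L] (g : C →ₐ[k] L) (f : K →ₐ[k] L) :
    ∃ τ : C →ₐ[k] K, f.comp τ = g := by
  have h : ∀ c, g c ∈ f.range := fun c =>
    mem_range_of_isAlgebraic f _ ((Algebra.IsAlgebraic.isAlgebraic c).algHom g)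
  refine ⟨(AlgEquiv.ofInjective f f.toRingHom.injective).symm.toAlgHom.comp (g.codRestrict f.range h),
    AlgHom.ext fun c => ?_⟩
  exact congrArg Subtype.val
    ((AlgEquiv.ofInjective f f.toRingHom.injective).apply_symm_apply (g.codRestrict f.range h c))

/-- A scheme which receives an open surjection from a scheme locally of finite type over a field is
quasi-separated. -/
theorem quasiSeparatedSpace_of_surjective {P T : Scheme.{u}} [IsLocallyNoetherian P] (f : P ⟶ T)
    (ho : IsOpenMap f) (hs : Function.Surjective f) : QuasiSeparatedSpace T := by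
  refine ⟨fun U V hU hUc hV hVc => ?_⟩
  obtain ⟨K, hKU, hKo, hKc, hK⟩ : ∃ K : Set P, f '' K = U ∧ IsOpen K ∧ IsCompact K ∧
      TopologicalSpace.NoetherianSpace K := by
    choose a ha using hs
    have hb : ∀ t : ↥U, ∃ A : P.Opens, IsAffineOpen A ∧ a t ∈ A ∧ (A : Set P) ⊆ f ⁻¹' U := fun t => by
      obtain ⟨_, ⟨A, hA, rfl⟩, h₁, h₂⟩ := P.isBasis_affineOpens.exists_subset_of_mem_open
        (show a t ∈ f ⁻¹' U by show f (a t) ∈ U; rw [ha]; exact t.2) (hU.preimage f.continuous)
      exact ⟨A, hA, h₁, h₂⟩
    choose A hA hAa hAU using hb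
    obtain ⟨s, hs⟩ := hUc.elim_finite_subcover (fun t => f '' (A t : Set P))
      (fun t => ho _ (A t).isOpen) (fun t ht => Set.mem_iUnion.2 ⟨⟨t, ht⟩, a t, hAa ⟨t, ht⟩, ha t⟩)
    refine ⟨⋃ t ∈ s, (A t : Set P), ?_, isOpen_biUnion fun t _ => (A t).isOpen,
      s.isCompact_biUnion fun t _ => (hA t).isCompact, ?_⟩
    · refine le_antisymm ?_ (hs.trans ?_)
      · rintro _ ⟨p, hp, rfl⟩
        obtain ⟨t, -, hpt⟩ := Set.mem_iUnion₂.1 hp
        exact hAU t hpt
      · rw [Set.image_iUnion₂]
    · have hn : ∀ t, TopologicalSpace.NoetherianSpace (A t : Set P) := fun t => by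
        have : IsNoetherianRing Γ(P, A t) := IsLocallyNoetherian.component_noetherian ⟨A t, hA t⟩
        exact noetherianSpace_of_isAffineOpen (A t) (hA t)
      rw [TopologicalSpace.noetherianSpace_set_iff]
      intro S hS
      have : S = ⋃ t ∈ s, S ∩ (A t : Set P) := by
        rw [← Set.inter_iUnion₂]; exact (Set.inter_eq_left.2 hS).symm
      rw [this]
      exact s.isCompact_biUnion fun t _ =>
        (TopologicalSpace.noetherianSpace_set_iff _).1 (hn t) _ Set.inter_subset_right
  rw [← hKU, ← Set.image_inter_preimage]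
  exact ((TopologicalSpace.noetherianSpace_set_iff _).1 hK _ Set.inter_subset_left).image f.continuous

variable {X : Sp (kSpec k)}

theorem locallyOfFiniteType_chart {q : X ⟶ (yon (kSpec k)).obj (Over.mk (𝟙 (kSpec k)))}
    (hq : LocP @LocallyOfFiniteType q) {U : Over (kSpec k)} {p : (yon (kSpec k)).obj U ⟶ X}
    (hp : RepWith @Etale p) : LocallyOfFiniteType U.hom := by
  have h := hq p (𝟙 _) (Over.mkIdTerminal.from U) hp (repWith_id _ _)
    (IsTerminal.hom_ext (IsTerminal.isTerminalObj (yon _) _ Over.mkIdTerminal) _ _)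
  rwa [show (Over.mkIdTerminal.from U).left = U.hom from
    (Category.comp_id _).symm.trans (Over.w _)] at h

set_option maxHeartbeats 1000000 in
/-- A decent space locally of finite type over a field which becomes, over the algebraic closure, a
scheme in which finite sets of rational points lie in affine opens, is a scheme. -/
theorem isRepresentable_of_algClosure (hX : IsAlgSpace X) (hd : IsDecent X)
    {q : X ⟶ (yon (kSpec k)).obj (Over.mk (𝟙 (kSpec k)))} (hq : LocP @LocallyOfFiniteType q)
    (K : Type u) [Field K] [Algebra k K] [IsAlgClosure k K] (T : Over (kSpec k))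
    (e : (yon (kSpec k)).obj T ≅ X ⨯ (yon (kSpec k)).obj (kOver k K)) (π : T ⟶ kOver k K)
    (hπ : (yon (kSpec k)).map π = e.hom ≫ prod.snd)
    (h3 : ∀ s : Finset ↥T.left,
      (∀ t ∈ s, ∃ σ : Spec (CommRingCat.of K) ⟶ T.left, σ ≫ π.left = 𝟙 _ ∧
        σ (IsLocalRing.closedPoint K) = t) →
        ∃ W : T.left.Opens, IsAffineOpen W ∧ ∀ t ∈ s, t ∈ W) :
    X.obj.IsRepresentable := by
  have : IsAlgClosed K := IsAlgClosure.isAlgClosed k
  have : Algebra.IsAlgebraic k K := IsAlgClosure.isAlgebraic
  let TK := kOver k K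
  let hT := IsTerminal.isTerminalObj (yon (kSpec k)) _ Over.mkIdTerminal
  let tK := Over.mkIdTerminal.from TK
  have htl : tK.left = Spec.map (CommRingCat.ofHom (algebraMap k K)) :=
    (Category.comp_id _).symm.trans (Over.w _)
  have sqK := isPullback_fst_snd (hT.from X) TK
  -- the scheme over the closure is quasi-separated
  obtain ⟨U₀, p₀, hp₀, hps₀⟩ := hX.atlas
  have : LocallyOfFiniteType U₀.hom := locallyOfFiniteType_chart hq hp₀
  obtain ⟨P₀, m₀, n₀, sqP₀⟩ := exists_pullback_yon hp₀.rep (e.hom ≫ prod.fst)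
  have hn₀ : Etale n₀.left := (repWith_yon_map_iff _ _).1 (repWith_of_isPullback sqP₀ hp₀)
  have hns₀ : Surjective n₀.left := (repWith_yon_map_iff _ _).1 (repWith_of_isPullback sqP₀ hps₀)
  have sqT : IsPullback (e.hom ≫ prod.fst) ((yon _).map π) (hT.from X) ((yon _).map tK) :=
    sqK.of_iso e.symm (Iso.refl _) (Iso.refl _) (Iso.refl _) (by simp; rfl) (by simp [hπ]; rfl)
      (by simp) (by simp; rfl)
  have : IsLocallyNoetherian P₀.left := by
    have h₂ : IsPullback ((yon _).map m₀) ((yon _).map (n₀ ≫ π)) ((yon (kSpec k)).map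
        (Over.mkIdTerminal.from U₀)) ((yon _).map tK) := by
      have h := sqP₀.paste_vert sqT
      rw [← Functor.map_comp, show p₀ ≫ hT.from X = (yon (kSpec k)).map (Over.mkIdTerminal.from U₀)
        from hT.hom_ext _ _] at h
      exact h
    have h₃ := (IsPullback.of_map_of_faithful (yon (kSpec k)) h₂).map (Over.forget (kSpec k))
    have : LocallyOfFiniteType (Over.mkIdTerminal.from U₀).left := by
      rw [show (Over.mkIdTerminal.from U₀).left = U₀.hom from
        (Category.comp_id _).symm.trans (Over.w _)]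
      infer_instance
    have hlft : LocallyOfFiniteType (n₀ ≫ π).left :=
      MorphismProperty.of_isPullback h₃ ‹LocallyOfFiniteType (Over.mkIdTerminal.from U₀).left›
    exact LocallyOfFiniteType.isLocallyNoetherian (show P₀.left ⟶ Spec (.of K) from (n₀ ≫ π).left)
  have hTqs : QuasiSeparatedSpace T.left :=
    quasiSeparatedSpace_of_surjective n₀.left n₀.left.isOpenMap n₀.left.surjective
  refine isRepresentable_of_schematic ⟨X, hX⟩ fun (y : Points X) => ?_
  obtain ⟨C₀, hCo, hCc, hCy, -⟩ := exists_compact_open_nhd hX (Set.finite_singleton y)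
    isOpen_univ (Set.subset_univ _)
  let W := openSub X C₀
  let jW : W ⟶ X := openSubι X C₀
  have hjW : RepWith @IsOpenImmersion jW := repWith_openSubι hCo
  have hW : IsAlgSpace W := isAlgSpace_openSub hX hCo
  have hWqc : IsQuasiCompactSp W := (isQuasiCompactSp_iff_compactSpace hW).2
    ⟨((isEmbedding_map_of_immersion hX (repWith_mono
      (fun _ _ g (_ : IsOpenImmersion g) => (inferInstance : IsImmersion g)) hjW)).1).isCompact_iff.2
        (by rw [Set.image_univ, range_map_openSubι]; exact hCc)⟩
  have : Mono jW := mono_of_repWith (fun _ _ g (_ : IsOpenImmersion g) => (inferInstance : Mono g)) hjW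
  -- the open is quasi-separated
  have hjK : RepWith @IsOpenImmersion (prod.map jW (𝟙 ((yon (kSpec k)).obj TK))) :=
    repWith_of_isPullback (isPullback_prod_map_fst jW _) hjW
  have hWqs : IsQuasiSeparatedSp W := by
    obtain ⟨U, p, hU, hp, hps⟩ := exists_affine_chart hW hWqc
    obtain ⟨R, t, s, sqR⟩ := exists_pullback_yon hp.rep p
    have : IsAffine (Over.mk (𝟙 (kSpec k))).left := inferInstanceAs (IsAffine (kSpec k))
    let uK := pullback (Over.mkIdTerminal.from U) tK
    let rK := pullback (Over.mkIdTerminal.from R) tK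
    have hUK : IsAffine uK.left := by
      have : IsAffine TK.left := inferInstanceAs (IsAffine (Spec _))
      have : IsAffine (kSpec k) := inferInstanceAs (IsAffine (Spec _))
      have := hU
      have h := (IsPullback.of_hasPullback (Over.mkIdTerminal.from U) tK).map (Over.forget _)
      simp only [Over.forget_map] at h
      have : IsAffineHom tK.left := by rw [htl]; infer_instance
      have : IsAffine (pullback (Over.mkIdTerminal.from U).left tK.left) :=
        isAffine_of_isAffineHom (pullback.fst (Over.mkIdTerminal.from U).left tK.left)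
      exact IsAffine.of_isIso h.isoPullback.hom
    obtain ⟨g, hg⟩ := (yon (kSpec k)).map_surjective
      (prod.lift ((yon _).map (pullback.fst (Over.mkIdTerminal.from U) tK) ≫ p ≫ jW)
        ((yon _).map (pullback.snd (Over.mkIdTerminal.from U) tK)) ≫ e.inv)
    have hcR : CompactSpace ↥(pullback g g).left := by
      have h := (IsPullback.of_hasPullback g g).map (Over.forget _)
      simp only [Over.forget_map] at h
      have : QuasiSeparatedSpace T.left := hTqs
      have : CompactSpace ↥uK.left := inferInstance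
      have : QuasiCompact g.left := by
        have : QuasiSeparatedSpace T.left := hTqs
        exact QuasiCompact.of_comp g.left T.hom
      have : CompactSpace ↥(pullback g.left g.left) :=
        QuasiCompact.compactSpace_of_compactSpace (pullback.fst g.left g.left)
      exact h.isoPullback.inv.homeomorph.compactSpace
    -- it maps onto the kernel pair
    let a₁ := pullback.fst g g ≫ pullback.fst (Over.mkIdTerminal.from U) tK
    let a₂ := pullback.snd g g ≫ pullback.fst (Over.mkIdTerminal.from U) tK
    have hgfst : ∀ {Z : Over (kSpec k)} (f : Z ⟶ uK),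
        (yon _).map (f ≫ g) ≫ e.hom ≫ prod.fst =
          (yon _).map (f ≫ pullback.fst (Over.mkIdTerminal.from U) tK) ≫ p ≫ jW := fun f => by
      rw [Functor.map_comp, Category.assoc, hg, Category.assoc, e.inv_hom_id_assoc, prod.lift_fst,
        Functor.map_comp, Category.assoc]
    have hw : (yon _).map a₁ ≫ p = (yon _).map a₂ ≫ p := by
      rw [← cancel_mono jW, Category.assoc, Category.assoc, ← hgfst, ← hgfst, pullback.condition]
    obtain ⟨m, hm⟩ := (yon (kSpec k)).map_surjective (sqR.lift _ _ hw)
    have hsurj : Function.Surjective m.left := by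
      have hts : (yon (kSpec k)).map t ≫ p = (yon _).map s ≫ p := sqR.w
      let l₁ : rK ⟶ uK := pullback.lift (pullback.fst _ _ ≫ t) (pullback.snd _ _)
        (Over.mkIdTerminal.hom_ext _ _)
      let l₂ : rK ⟶ uK := pullback.lift (pullback.fst _ _ ≫ s) (pullback.snd _ _)
        (Over.mkIdTerminal.hom_ext _ _)
      have hl : l₁ ≫ g = l₂ ≫ g := (yon (kSpec k)).map_injective (by
        rw [← cancel_mono e.hom]
        apply prod.hom_ext
        · rw [Category.assoc, Category.assoc, hgfst, hgfst, pullback.lift_fst, pullback.lift_fst,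
            Functor.map_comp, Functor.map_comp, Category.assoc, Category.assoc, reassoc_of% hts]
        · rw [Functor.map_comp, Functor.map_comp, hg]
          simp only [Category.assoc, e.inv_hom_id_assoc, prod.lift_snd, ← Functor.map_comp, l₁, l₂,
            pullback.lift_snd])
      have hc : pullback.lift l₁ l₂ hl ≫ m = pullback.fst (Over.mkIdTerminal.from R) tK := by
        apply (yon (kSpec k)).map_injective
        apply sqR.hom_ext
        · rw [Functor.map_comp, Category.assoc, hm, sqR.lift_fst, ← Functor.map_comp,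
            ← Functor.map_comp]
          simp [a₁, l₁]
        · rw [Functor.map_comp, Category.assoc, hm, sqR.lift_snd, ← Functor.map_comp,
            ← Functor.map_comp]
          simp [a₂, l₂]
      have : Surjective (pullback.fst (Over.mkIdTerminal.from R) tK).left := by
        have h := (IsPullback.of_hasPullback (Over.mkIdTerminal.from R) tK).map (Over.forget _)
        have : Surjective tK.left := by rw [htl]; exact surjective_specMap_field _
        exact MorphismProperty.of_isPullback h.flip ‹Surjective tK.left›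
      intro r
      obtain ⟨x, hx⟩ := (pullback.fst (Over.mkIdTerminal.from R) tK).left.surjective r
      exact ⟨(pullback.lift l₁ l₂ hl).left x, by
        rw [← Scheme.Hom.comp_apply, ← Over.comp_left, hc]; exact hx⟩
    have : CompactSpace ↥R.left := hsurj.compactSpace m.left.continuous
    exact isQuasiSeparatedSp_of_compact_kernel hp hps sqR
  -- a closed point of the open below the given one
  obtain ⟨yW, hyW⟩ := (range_map_openSubι (X := X) (W := C₀)).ge (hCy rfl)
  have : T0Space (Points W) := t0Space_of_isDecent hW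
    (Groth.AlgSp2.isDecent_of_representable hjW.rep hd)
  have : CompactSpace (Points W) := (isQuasiCompactSp_iff_compactSpace hW).1 hWqc
  obtain ⟨z, hzy, hzcl⟩ := IsClosed.exists_closed_singleton
    (isClosed_closure (s := ({yW} : Set (Points W)))) ⟨yW, subset_closure rfl⟩
  suffices hz : IsSchematicPt W z by
    have : IsSchematicPt W yW :=
      (specializes_iff_mem_closure.2 hzy).mem_open (isOpen_setOf_isSchematicPt W) hz
    exact hyW ▸ isSchematicPt_map hjW this
  -- a finite field of definition of the closed point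
  obtain ⟨U, p, hU, hp, hps⟩ := exists_affine_chart hW hWqc
  have hUlft : LocallyOfFiniteType U.hom :=
    locallyOfFiniteType_chart hq (repWith_comp hp (repWith_mono
      (fun _ _ g (_ : IsOpenImmersion g) => (inferInstance : Etale g)) hjW))
  obtain ⟨u₀, hu₀⟩ := surjective_ofPt_of_repWith hps z
  obtain ⟨u, hu, hucl⟩ := IsClosed.exists_closed_singleton
    (hzcl.preimage (Points.continuous_ofPt p)) ⟨u₀, hu₀⟩
  replace hu : Points.ofPt p u = z := hu
  obtain ⟨φ, hφ⟩ := Spec.map_surjective (R := CommRingCat.of k)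
    (U.left.fromSpecResidueField u ≫ U.hom)
  let C := U.left.residueField u
  let _ : Algebra k C := φ.hom.toAlgebra
  have : Module.Finite k C := by
    have : IsClosedImmersion (U.left.fromSpecResidueField u) :=
      { toSurjectiveOnStalks := inferInstance
        isClosedEmbedding := ⟨(U.left.fromSpecResidueField u).isEmbedding, by
          rw [Scheme.range_fromSpecResidueField]; exact hucl⟩ }
    have : LocallyOfFiniteType (Spec.map φ) := by rw [hφ]; infer_instance
    have hft : φ.hom.FiniteType := (HasRingHomProperty.Spec_iff (P := @LocallyOfFiniteType)).1 this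
    have : Algebra.FiniteType k C := hft
    exact finite_of_finite_type_of_isJacobsonRing k C
  let pU : kOver k C ⟶ U := Over.homMk (U.left.fromSpecResidueField u) hφ.symm
  let b : (yon (kSpec k)).obj (kOver k C) ⟶ W := (yon _).map pU ≫ p
  let ptC : ↥(kOver k C).left := (⟨⊥, Ideal.isPrime_bot⟩ : PrimeSpectrum C)
  let ptK : ↥TK.left := (⟨⊥, Ideal.isPrime_bot⟩ : PrimeSpectrum K)
  have hbz : Points.ofPt b ptC = z := by
    rw [ofPt_comp_yon]
    show Points.ofPt p (U.left.fromSpecResidueField u ptC) = z
    rw [Scheme.fromSpecResidueField_apply, hu]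
  -- its finitely many lifts are rational, hence lie in an affine open
  let lift₀ : (C →ₐ[k] K) → ((yon (kSpec k)).obj TK ⟶ W ⨯ (yon _).obj TK) := fun τ =>
    prod.lift ((yon _).map (kOverMap C K τ) ≫ b) (𝟙 _)
  have hsec : ∀ τ, ∃ σ : TK ⟶ T, (yon _).map σ = lift₀ τ ≫ prod.map jW (𝟙 _) ≫ e.inv ∧
      σ ≫ π = 𝟙 _ := fun τ => by
    obtain ⟨σ, hσ⟩ := (yon (kSpec k)).map_surjective (lift₀ τ ≫ prod.map jW (𝟙 _) ≫ e.inv)
    refine ⟨σ, hσ, (yon (kSpec k)).map_injective ?_⟩
    rw [Functor.map_comp, hσ, hπ]
    simp only [Category.assoc, e.inv_hom_id_assoc, prod.map_snd, Category.comp_id, lift₀,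
      prod.lift_snd, CategoryTheory.Functor.map_id]
    exact prod.lift_snd _ _
  choose σ hσ hσπ using hsec
  classical
  obtain ⟨A, hA, hAσ⟩ := h3 (Finset.univ.image fun τ => (σ τ).left ptK) (fun t ht => by
    obtain ⟨τ, -, rfl⟩ := Finset.mem_image.1 ht
    exact ⟨(σ τ).left, congrArg CommaMorphism.left (hσπ τ),
      congrArg (σ τ).left (Subsingleton.elim (α := PrimeSpectrum K) _ _)⟩)
  -- inside an affine open of the base change of the open subspace
  let jA : Over.mk (A.ι ≫ T.hom) ⟶ T := Over.homMk A.ι rfl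
  have : IsAffine (Over.mk (A.ι ≫ T.hom)).left := hA
  let gA : (yon (kSpec k)).obj (Over.mk (A.ι ≫ T.hom)) ⟶ X ⨯ (yon _).obj TK := (yon _).map jA ≫ e.hom
  have hgA : RepWith @IsOpenImmersion gA := repWith_comp
    ((repWith_yon_map_iff _ jA).2 (inferInstanceAs (IsOpenImmersion A.ι))) (repWith_isIso _)
  obtain ⟨V₂, snd₂, fst₂, sq₂⟩ := hjK.rep gA
  have : IsOpenImmersion snd₂.left := hjK.property _ fst₂ snd₂ sq₂
  have hfst₂ : RepWith @IsOpenImmersion fst₂ := repWith_of_isPullback sq₂.flip hgA
  have hmem : ∀ τ, ∃ v : ↥V₂.left, Points.ofPt fst₂ v = Points.ofPt (lift₀ τ) ptK := fun τ => by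
    have ht : (σ τ).left ptK ∈ A := hAσ _ (Finset.mem_image.2 ⟨τ, Finset.mem_univ _, rfl⟩)
    have h : Points.map (prod.map jW (𝟙 _)) (Points.ofPt (lift₀ τ) ptK) =
        Points.ofPt gA ⟨(σ τ).left ptK, ht⟩ := by
      rw [Points.map_ofPt, ofPt_comp_yon]
      show _ = Points.ofPt e.hom ((σ τ).left ptK)
      rw [← ofPt_comp_yon, hσ, Category.assoc, Category.assoc, e.inv_hom_id, Category.comp_id]
    obtain ⟨v, hv, -⟩ := (map_eq_ofPt_iff sq₂ _ _).1 h
    exact ⟨v, hv⟩
  choose vτ hvτ using hmem
  obtain ⟨A₃, hA₃, hA₃τ⟩ := Groth.GitQuot.exists_affineOpen_of_finite snd₂.left (Set.range vτ)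
    (Set.finite_range vτ)
  let j₃ : Over.mk (A₃.ι ≫ V₂.hom) ⟶ V₂ := Over.homMk A₃.ι rfl
  have : IsAffine (Over.mk (A₃.ι ≫ V₂.hom)).left := hA₃
  let a₃ : (yon (kSpec k)).obj (Over.mk (A₃.ι ≫ V₂.hom)) ⟶ W ⨯ (yon _).obj TK :=
    (yon _).map j₃ ≫ fst₂
  obtain ⟨κ, _, _, iota, hfin, hκ⟩ := exists_finite_affine_open hW hWqc hWqs K a₃
    (repWith_comp ((repWith_yon_map_iff _ j₃).2 (inferInstanceAs (IsOpenImmersion A₃.ι))) hfst₂)
  let ρ : W ⨯ (yon (kSpec k)).obj TK ⟶ W ⨯ (yon _).obj (kOver k κ) :=
    prod.map (𝟙 W) ((yon _).map (kOverMap κ K iota))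
  have hρ : RepWith @Surjective ρ := repWith_of_isPullback
    (isPullback_prod_map_snd ((yon (kSpec k)).map (kOverMap κ K iota)) W)
    ((repWith_yon_map_iff _ _).2 (surjective_specMap_field _))
  -- all the points over the closed point
  have key : ∀ x : Points (W ⨯ (yon (kSpec k)).obj TK), Points.map prod.fst x = z →
      ∃ τ, x = Points.ofPt (lift₀ τ) ptK := by
    intro x hx
    let fC := Over.mkIdTerminal.from (kOver k C)
    have sqB : IsPullback (prod.lift ((yon _).map (pullback.fst fC tK) ≫ b)
        ((yon _).map (pullback.snd fC tK))) ((yon _).map (pullback.fst fC tK)) prod.fst b := by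
      refine IsPullback.of_right ?_ (prod.lift_fst _ _) (isPullback_fst_snd (hT.from W) TK).flip
      rw [prod.lift_snd, show b ≫ hT.from W = (yon _).map fC from hT.hom_ext _ _]
      exact ((IsPullback.of_hasPullback fC tK).map (yon (kSpec k))).flip
    obtain ⟨w, hw, -⟩ := (map_eq_ofPt_iff sqB x ptC).1 (hx.trans hbz.symm)
    obtain ⟨L, _, _, l, hl⟩ := exists_residue_pt _ w
    obtain ⟨dC, hdC⟩ := exists_algHom (l ≫ pullback.fst fC tK)
    obtain ⟨dK, hdK⟩ := exists_algHom (l ≫ pullback.snd fC tK)
    obtain ⟨τ, hτ⟩ := exists_factor dC dK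
    let ptL : ↥(kOver k L).left := (⟨⊥, Ideal.isPrime_bot⟩ : PrimeSpectrum L)
    refine ⟨τ, ?_⟩
    rw [← hw, ← hl ptL, ← ofPt_comp_yon, ← Subsingleton.elim (α := PrimeSpectrum K)
      ((kOverMap K L dK).left ptL) ptK, ← ofPt_comp_yon]
    congr 1
    have hc : kOverMap K L dK ≫ kOverMap C K τ = kOverMap C L dC := by
      ext : 1
      show Spec.map _ ≫ Spec.map _ = Spec.map _
      rw [← Spec.map_comp, ← hτ]
      rfl
    apply prod.hom_ext
    · simp only [lift₀, Category.assoc, prod.lift_fst, ← Functor.map_comp_assoc, hc, hdC]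
    · simp only [lift₀, Category.assoc, prod.lift_snd, ← Functor.map_comp, hdK, Category.comp_id]
  let F : Set (Points (W ⨯ (yon (kSpec k)).obj (kOver k κ))) := {x | Points.map prod.fst x = z}
  have hF : ∀ x ∈ F, ∃ τ, x = Points.map ρ (Points.ofPt (lift₀ τ) ptK) := fun x hx => by
    obtain ⟨x', rfl⟩ := surjective_map_of_repWith hρ x
    have hx' : Points.map (ρ ≫ prod.fst) x' = z := by rw [Points.map_comp]; exact hx
    rw [show ρ ≫ prod.fst = prod.fst from (prod.map_fst _ _).trans (Category.comp_id _)] at hx'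
    obtain ⟨τ, hτ⟩ := key x' hx'
    exact ⟨τ, congrArg (Points.map ρ) hτ⟩
  obtain ⟨U₁, u₁, hU₁, hu₁, hFu⟩ := hκ F
    ((Set.finite_range fun τ => Points.map ρ (Points.ofPt (lift₀ τ) ptK)).subset fun x hx => by
      obtain ⟨τ, hτ⟩ := hF x hx
      exact ⟨τ, hτ.symm⟩)
    (fun x hx => by
      obtain ⟨τ, hτ⟩ := hF x hx
      refine ⟨_, ⟨⟨vτ τ, hA₃τ ⟨τ, rfl⟩⟩, rfl⟩, ?_⟩
      rw [hτ, ← hvτ τ, ofPt_comp_yon]
      rfl)
  have sqf := isPullback_fst_snd (hT.from W) (kOver k κ)
  have hff : RepWith finLocFree (prod.fst : W ⨯ (yon _).obj (kOver k κ) ⟶ W) := by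
    refine repWith_of_isPullback sqf.flip ((repWith_yon_map_iff _ _).2 ?_)
    rw [kFrom_left]
    exact ⟨(IsFinite.SpecMap_iff _).2 (RingHom.finite_algebraMap.2 inferInstance),
      (HasRingHomProperty.Spec_iff (P := @Flat)).2 (RingHom.flat_algebraMap_iff.2 inferInstance),
      (HasRingHomProperty.Spec_iff (P := @LocallyOfFinitePresentation)).2
        (RingHom.finitePresentation_algebraMap.2
          (Algebra.FinitePresentation.of_finiteType.1 inferInstance))⟩
  have hfs : RepWith @Surjective (prod.fst : W ⨯ (yon _).obj (kOver k κ) ⟶ W) := by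
    refine repWith_of_isPullback sqf.flip ((repWith_yon_map_iff _ _).2 ?_)
    rw [kFrom_left]
    exact surjective_specMap_field _
  have := hU₁
  exact Groth.AlgSp2.SchematicFinLocFree.isSchematicPt_of_affine hff hfs hu₁ hFu

end Groth.SpLimit
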