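import Groth.Agent.SpLimit.FieldRows
import Mathlib.AlgebraicGeometry.AlgClosed.Basic

/-!
# Schematic points over an algebraically closed field can be detected after any extension
-/

set_option autoImplicit false
set_option backward.isDefEq.respectTransparency false
set_option backward.isDefEq.respectTransparency.types false

universe u

open CategoryTheory CategoryTheory.Limits AlgebraicGeometry Opposite AlgSp
open Groth.AlgSpBasic

noncomputable section

namespace Groth.SpLimit

section

variable {S : Scheme.{u}}

/-- A point over a schematic point along a representable map is schematic. -/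
theorem isSchematicPt_of_rep {X Y : Sp S} {f : X ⟶ Y} (hf : Representable f) {x : Points X}
    (hx : IsSchematicPt Y (Points.map f x)) : IsSchematicPt X x := by
  obtain ⟨G, g, hg, z, hz⟩ := hx
  obtain ⟨M, m, t, sq⟩ := hf g
  obtain ⟨v, hv, -⟩ := (map_eq_ofPt_iff sq x z).1 hz.symm
  exact ⟨M, t, repWith_of_isPullback sq.flip hg, v, hv⟩

/-- The base change of a quasi-compact space along a quasi-compact map of schemes. -/
theorem isQuasiCompactSp_of_qc {P A X B : Sp S} (hX : IsQuasiCompactSp X) {fst : P ⟶ A}
    {snd : P ⟶ X} {f : A ⟶ B} {g : X ⟶ B} (sq : IsPullback fst snd f g)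
    (hf : RepWith @QuasiCompact f) : IsQuasiCompactSp P := by
  obtain ⟨U, a, hae, has, hU⟩ := hX
  have hs : RepWith @QuasiCompact snd := repWith_of_isPullback sq hf
  obtain ⟨M, m, t, sqM⟩ := hs.rep a
  have : QuasiCompact m.left := hs.property _ _ _ sqM
  have : CompactSpace U.left := hU
  have : CompactSpace M.left := QuasiCompact.compactSpace_of_compactSpace m.left
  exact ⟨M, t, repWith_of_isPullback sqM.flip hae, repWith_of_isPullback sqM.flip has, inferInstance⟩

end

variable {k : Type u} [Field k]

/-- A rational point over a nonempty open of a base change. -/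
theorem exists_rational_point {K L : Type u} [Field K] [IsAlgClosed K] [Field L] [Algebra K L]
    {E : Scheme.{u}} (f : E ⟶ Spec (.of K)) [LocallyOfFiniteType f]
    (O : (pullback f (Spec.map (CommRingCat.ofHom (algebraMap K L)))).Opens)
    (hO : ∃ x, x ∈ O) :
    ∃ e : Spec (.of K) ⟶ E, e ≫ f = 𝟙 _ ∧
      ∀ σ : Spec (.of L) ⟶ pullback f (Spec.map (CommRingCat.ofHom (algebraMap K L))),
        σ ≫ pullback.fst _ _ = Spec.map (CommRingCat.ofHom (algebraMap K L)) ≫ e →
          σ ≫ pullback.snd _ _ = 𝟙 _ → ∀ p, σ p ∈ O := by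
  let i := Spec.map (CommRingCat.ofHom (algebraMap K L))
  have : UniversallyOpen i := Groth.DescentBase.universallyOpen_of_field K _
  have hop : IsOpen (pullback.fst f i '' (O : Set _)) := (pullback.fst f i).isOpenMap _ O.isOpen
  have hO' : (O : Set ↥(pullback f i)).Nonempty := hO
  have : JacobsonSpace E := LocallyOfFiniteType.jacobsonSpace f
  obtain ⟨x, ⟨w, hwO, hw⟩, hx⟩ := nonempty_inter_closedPoints (hO'.image _) hop.isLocallyClosed
  have hx' : IsClosed ({x} : Set E) := hx
  refine ⟨pointOfClosedPoint f x hx', pointOfClosedPoint_comp f x hx', fun σ h₁ h₂ p => ?_⟩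
  let e := pointOfClosedPoint f x hx'
  -- the fibre over the rational point is a single point
  have sq : IsPullback σ i (pullback.fst f i) e := by
    have big : IsPullback (σ ≫ pullback.snd f i) i i (e ≫ f) := by
      rw [h₂, pointOfClosedPoint_comp f x hx']
      exact IsPullback.of_horiz_isIso ⟨by simp [i]⟩
    exact IsPullback.of_right big h₁ (IsPullback.of_hasPullback f i).flip
  obtain ⟨z, hz, -⟩ := Scheme.Pullback.exists_preimage_pullback (f := pullback.fst f i) (g := e) w
    (IsLocalRing.closedPoint K) (hw.trans (pointOfClosedPoint_apply f x hx' _).symm)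
  obtain ⟨y, hy⟩ := sq.isoPullback.hom.homeomorph.surjective z
  have hy' : σ y = w := by
    rw [← hz, ← hy, Scheme.Hom.homeomorph_apply, ← Scheme.Hom.comp_apply,
      sq.isoPullback_hom_fst]
  rw [Subsingleton.elim (α := PrimeSpectrum L) p y, hy']
  exact hwO

variable {K L : Type u} [Field K] [Algebra k K] [IsAlgClosed K] [Field L] [Algebra k L]
  [Algebra K L] [IsScalarTower k K L]

/-- Over an algebraically closed field a point which becomes schematic over some extension, at a
point defined by that extension, is schematic. -/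
theorem isSchematicPt_of_extension {Z : Sp (kSpec k)} (hZ : IsAlgSpace Z) (hqc : IsQuasiCompactSp Z)
    (hqs : IsQuasiSeparatedSp Z) (u : Z ⟶ (yon _).obj (kOver k K))
    (a : (yon _).obj (kOver k L) ⟶ Z)
    (ha : a ≫ u = (yon _).map (kOverMap K L (IsScalarTower.toAlgHom k K L)))
    {P : Sp (kSpec k)} {fst : P ⟶ Z} {snd : P ⟶ (yon _).obj (kOver k L)}
    (sq : IsPullback fst snd u ((yon _).map (kOverMap K L (IsScalarTower.toAlgHom k K L))))
    (l : (yon _).obj (kOver k L) ⟶ P) (hl₁ : l ≫ fst = a) (hl₂ : l ≫ snd = 𝟙 _)
    (pt : ↥(kOver k L).left) (hsch : IsSchematicPt P (Points.ofPt l pt)) :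
    IsSchematicPt Z (Points.ofPt a pt) := by
  let v : Spec (.of K) ⟶ kSpec k := Spec.map (CommRingCat.ofHom (algebraMap k K))
  let i : Spec (.of L) ⟶ Spec (.of K) := Spec.map (CommRingCat.ofHom (algebraMap K L))
  let TK := kOver k K
  let TL := kOver k L
  let iL : TL ⟶ TK := kOverMap K L (IsScalarTower.toAlgHom k K L)
  let Y := (yon (kSpec k)).obj TK
  -- the finite type stages over the big field
  obtain ⟨J, _, _, E, π, ⟨lE⟩, hEa, -, hEc, hEp, hEs⟩ :=
    exists_affine_fp_system (S := Spec (.of K)) (Over.mk i)
  have := IsCofiltered.isConnected (C := J)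
  let EK : J ⥤ Over (kSpec k) := E ⋙ Over.map v
  let πK : Cone EK :=
    { pt := TL
      π :=
        { app := fun j => Over.homMk (π.app j).left (by
            show (π.app j).left ≫ (E.obj j).hom ≫ v = TL.hom
            rw [← Category.assoc, Over.w (π.app j)]
            exact Over.w iL)
          naturality := fun x y m => by
            ext : 1
            simpa [EK] using congrArg CommaMorphism.left (π.naturality m) } }
  have lK : IsLimit πK := by
    have h : IsLimit ((Over.forget (kSpec k)).mapCone πK) :=
      IsLimit.ofIsoLimit lE (Cone.ext (Iso.refl _) (fun j => by simp [πK]))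
    exact isLimitOfReflects (Over.forget (kSpec k)) h
  let str : ∀ j, EK.obj j ⟶ TK := fun j => Over.homMk (E.obj j).hom rfl
  let t : EK ⋙ yon (kSpec k) ⟶ (Functor.const J).obj Y :=
    { app := fun j => (yon _).map (str j)
      naturality := fun x y m => by
        show (yon _).map (EK.map m) ≫ (yon _).map (str y) = (yon _).map (str x) ≫ 𝟙 _
        rw [Category.comp_id, ← Functor.map_comp]
        congr 1
        ext : 1
        exact Over.w (E.map m) }
  have hg : ∀ j, ((yon (kSpec k)).mapCone πK).π.app j ≫ t.app j = (yon _).map iL := fun j => by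
    show (yon _).map (πK.π.app j) ≫ (yon _).map (str j) = _
    rw [← Functor.map_comp]
    congr 1
    ext : 1
    exact Over.w (π.app j)
  obtain ⟨lc⟩ := nonempty_isLimit_bcCone t u (c := (yon (kSpec k)).mapCone πK) hg
    (isLimitOfPreserves (yon (kSpec k)) lK)
  have hY : IsAlgSpace Y := IsAlgSpace.yon_obj _
  have hD : ∀ j, IsAlgSpace ((bcSys t u).obj j) := fun j =>
    isAlgSpace_of_isPullback (IsPullback.of_hasPullback (t.app j) u) hY.diag (IsAlgSpace.yon_obj _) hZ
  have hDa : ∀ x y (m : x ⟶ y), IsAffineMor ((bcSys t u).map m) := fun x y m =>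
    isAffineMor_iff_repWith.2 (repWith_of_isPullback (isPullback_bcSys_map t u m)
      ((repWith_yon_map_iff _ _).2 (hEa x y m)))
  have hDc : ∀ j, IsQuasiCompactSp ((bcSys t u).obj j) := fun j =>
    isQuasiCompactSp_of_qc hqc (IsPullback.of_hasPullback (t.app j) u) ((repWith_yon_map_iff _ _).2
      (show QuasiCompact (E.obj j).hom from by
        have : CompactSpace (E.obj j).left := hEc j
        infer_instance))
  have hDs : ∀ j, IsQuasiSeparatedSp ((bcSys t u).obj j) := fun j => by
    have : QuasiSeparated (EK.obj j).hom := by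
      have : QuasiSeparated (E.obj j).hom := hEs j
      show QuasiSeparated ((E.obj j).hom ≫ v)
      infer_instance
    exact isQuasiSeparatedSp_of_isPullback (hD j) (isQuasiSeparatedSp_yon_of_hom (EK.obj j))
      (isQuasiSeparatedSp_yon_affine TK) hqs (IsPullback.of_hasPullback (t.app j) u)
  -- an affine open of the limit around the point
  let eP : P ≅ pullback ((yon _).map iL) u := sq.flip.isoPullback
  obtain ⟨G, g, hg', z, hz⟩ := hsch
  obtain ⟨_, ⟨(A : G.left.Opens), hA, rfl⟩, hzA, -⟩ :=
    G.left.isBasis_affineOpens.exists_subset_of_mem_open (Set.mem_univ z) isOpen_univ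
  let V : Over (kSpec k) := Over.mk (A.ι ≫ G.hom)
  let jA : V ⟶ G := Over.homMk A.ι rfl
  have : IsAffine V.left := hA
  obtain ⟨j, hj⟩ := exists_isSchematicPt_stage hD hDa lc hDc hDs ((yon _).map jA ≫ g ≫ eP.hom)
    (repWith_comp ((repWith_yon_map_iff _ jA).2 (inferInstanceAs (IsOpenImmersion A.ι)))
      (repWith_comp hg' (repWith_isIso _)))
  let π_j : TL ⟶ EK.obj j := πK.π.app j
  -- the curve of points of the stage over the point
  let EL : Over (kSpec k) := pullback (str j) iL
  let aE : (yon _).obj EL ⟶ (bcSys t u).obj j :=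
    pullback.lift ((yon _).map (pullback.fst (str j) iL)) ((yon _).map (pullback.snd (str j) iL) ≫ a)
      (by
        show (yon _).map _ ≫ (yon _).map (str j) = _
        rw [Category.assoc, ha, ← Functor.map_comp, ← Functor.map_comp, pullback.condition])
  let d : TL ⟶ EL := pullback.lift π_j (𝟙 _) (by
    ext : 1
    exact (Over.w (π.app j)).trans (Category.id_comp _).symm)
  have hd : Points.ofPt aE (d.left pt) ∈ {x | IsSchematicPt ((bcSys t u).obj j) x} := by
    have e₁ : (yon _).map d ≫ aE = l ≫ eP.hom ≫ (bcCone t u hg).π.app j := by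
      apply pullback.hom_ext
      · simp only [aE, bcCone, eP, Category.assoc, pullback.lift_fst, pullback.lift_fst_assoc,
          ← Functor.map_comp, d]
        erw [IsPullback.isoPullback_hom_fst_assoc, reassoc_of% hl₂]
        rfl
      · simp only [aE, bcCone, eP, Category.assoc, pullback.lift_snd,
          ← Functor.map_comp_assoc, d]
        erw [IsPullback.isoPullback_hom_snd, hl₁]
        simp
    show IsSchematicPt _ _
    rw [← ofPt_comp_yon, e₁, ← Points.map_ofPt, ← hz, Points.map_ofPt]
    have := hj ⟨z, hzA⟩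
    rw [Points.map_ofPt, Category.assoc, Category.assoc, ofPt_comp_yon] at this
    exact this
  -- a rational point near it
  have sqEL : IsPullback (pullback.fst (str j) iL).left (pullback.snd (str j) iL).left
      (E.obj j).hom i := (IsPullback.of_hasPullback (str j) iL).map (Over.forget _)
  let εL := sqEL.isoPullback
  let O₀ : EL.left.Opens := ⟨Points.ofPt aE ⁻¹' {x | IsSchematicPt ((bcSys t u).obj j) x},
    (isOpen_setOf_isSchematicPt _).preimage (Points.continuous_ofPt _)⟩
  have : LocallyOfFinitePresentation (E.obj j).hom := hEp j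
  obtain ⟨e₀, he₀, hσ⟩ := exists_rational_point (K := K) (L := L) (E.obj j).hom (εL.inv ⁻¹ᵁ O₀)
    ⟨εL.hom (d.left pt), by
      show εL.inv (εL.hom (d.left pt)) ∈ O₀
      rw [← Scheme.Hom.comp_apply, εL.hom_inv_id]
      exact hd⟩
  let e : TK ⟶ EK.obj j := Over.homMk e₀ (by
    show e₀ ≫ (E.obj j).hom ≫ v = TK.hom
    rw [reassoc_of% he₀]; rfl)
  have hes : e ≫ str j = 𝟙 TK := Over.OverMorphism.ext he₀
  let σ : TL ⟶ EL := pullback.lift (iL ≫ e) (𝟙 _) (by rw [Category.assoc, hes]; simp)
  have hσO : IsSchematicPt _ (Points.ofPt aE (σ.left pt)) := by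
    have h := hσ (σ.left ≫ εL.hom) (by
        rw [Category.assoc, sqEL.isoPullback_hom_fst, ← Over.comp_left, pullback.lift_fst]; rfl)
      (by rw [Category.assoc, sqEL.isoPullback_hom_snd, ← Over.comp_left, pullback.lift_snd]; rfl) pt
    have h' : εL.inv ((σ.left ≫ εL.hom) pt) ∈ O₀ := h
    rwa [← Scheme.Hom.comp_apply, Category.assoc, εL.hom_inv_id, Category.comp_id] at h'
  -- which pulls back to the point
  let se : Z ⟶ (bcSys t u).obj j := pullback.lift (u ≫ (yon _).map e) (𝟙 Z) (by
    show (u ≫ _) ≫ (yon _).map (str j) = _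
    rw [Category.assoc, ← Functor.map_comp, hes, CategoryTheory.Functor.map_id, Category.comp_id,
      Category.id_comp])
  have hse : (yon _).map σ ≫ aE = a ≫ se := by
    apply pullback.hom_ext
    · simp only [aE, se, Category.assoc, pullback.lift_fst, ← Functor.map_comp, σ, reassoc_of% ha]
      rfl
    · simp only [aE, se, Category.assoc, pullback.lift_snd, ← Functor.map_comp_assoc, σ]
      simp
  rw [← ofPt_comp_yon, hse, ← Points.map_ofPt] at hσO
  have sqse : IsPullback se u (pullback.fst (t.app j) u) ((yon (kSpec k)).map e) := by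
    refine IsPullback.of_right ?_ (pullback.lift_fst _ _ _) (IsPullback.of_hasPullback (t.app j) u).flip
    rw [pullback.lift_snd]
    have : (yon (kSpec k)).map e ≫ t.app j = 𝟙 _ := by
      show (yon _).map e ≫ (yon _).map (str j) = _
      rw [← Functor.map_comp, hes, CategoryTheory.Functor.map_id]
    rw [this]
    exact IsPullback.of_horiz_isIso ⟨(Category.id_comp u).trans (Category.comp_id u).symm⟩
  exact isSchematicPt_of_rep (MorphismProperty.of_isPullback (P := Representable) sqse.flip
    (representable_yon_map e)) hσO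

end Groth.SpLimit
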