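import Groth.Agent.SpLimit.MonoEventual
import Groth.Agent.Limits.SmoothDescent
import Groth.Agent.Calg2.DescendProps

/-!
# Affine charts for descending properties of morphisms along limits
-/

set_option autoImplicit false
set_option backward.isDefEq.respectTransparency false
set_option backward.isDefEq.respectTransparency.types false

universe u

open CategoryTheory CategoryTheory.Limits AlgebraicGeometry Opposite AlgSp
open Groth.AlgSpBasic

noncomputable section

namespace Groth.SpLimit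

variable {S : Scheme.{u}}

/-- An affine chart of a morphism of qcqs spaces, covering the fibre product with an atlas of the
target. -/
structure MorChart {X₀ Y₀ : Sp S} (f₀ : X₀ ⟶ Y₀) where
  /-- The chart of the target. -/
  T : Over S
  /-- The chart of the source. -/
  U : Over S
  /-- The atlas of the target. -/
  b : (yon S).obj T ⟶ Y₀
  /-- The map of charts. -/
  h : U ⟶ T
  /-- The map onto the fibre product. -/
  κ : (yon S).obj U ⟶ pullback f₀ b
  affT : IsAffine T.left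
  affU : IsAffine U.left
  etale_b : RepWith @Etale b
  surj_b : RepWith @Surjective b
  etale_κ : RepWith @Etale κ
  surj_κ : RepWith @Surjective κ
  κ_snd : κ ≫ pullback.snd f₀ b = (yon S).map h

instance {X₀ Y₀ : Sp S} {f₀ : X₀ ⟶ Y₀} (M : MorChart f₀) : IsAffine M.T.left := M.affT
instance {X₀ Y₀ : Sp S} {f₀ : X₀ ⟶ Y₀} (M : MorChart f₀) : IsAffine M.U.left := M.affU

theorem nonempty_morChart [QuasiSeparatedSpace S] {X₀ Y₀ : Sp S} (hX : IsAlgSpace X₀) (hY : IsAlgSpace Y₀)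
    (hXqc : IsQuasiCompactSp X₀) (hYqc : IsQuasiCompactSp Y₀) (hYqs : IsQuasiSeparatedSp Y₀)
    (f₀ : X₀ ⟶ Y₀) : Nonempty (MorChart f₀) := by
  obtain ⟨T, b, hT, hb, hbs⟩ := exists_affine_chart hY hYqc
  obtain ⟨V, a, hV, ha, has⟩ := exists_affine_chart hX hXqc
  obtain ⟨R, r₁, r₂, hR⟩ := exists_pullback_of_diag hY.diag (a ≫ f₀) b
  have : CompactSpace R.left := compactSpace_pullback_of_qs hYqs hR
  let sqP : IsPullback (pullback.fst f₀ b) (pullback.snd f₀ b) f₀ b := IsPullback.of_hasPullback f₀ b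
  let r := sqP.lift ((yon S).map r₁ ≫ a) ((yon S).map r₂) (by rw [Category.assoc]; exact hR.w)
  have sqR : IsPullback ((yon S).map r₁) r a (pullback.fst f₀ b) := by
    refine IsPullback.of_bot ?_ (sqP.lift_fst _ _ _).symm sqP
    rw [sqP.lift_snd]
    exact hR
  obtain ⟨U, φ, hφs, hφe, hU⟩ := R.left.exists_hom_isAffine_of_isZariskiLocalAtSource @Etale
  let j : Over.mk (φ ≫ R.hom) ⟶ R := Over.homMk φ
  have hj : RepWith @Etale ((yon S).map j) := (repWith_yon_map_iff _ j).2 hφe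
  have hjs : RepWith @Surjective ((yon S).map j) := (repWith_yon_map_iff _ j).2 hφs
  exact ⟨{
    T := T, U := Over.mk (φ ≫ R.hom), b := b, h := j ≫ r₂, κ := (yon S).map j ≫ r
    affT := hT, affU := hU, etale_b := hb, surj_b := hbs
    etale_κ := repWith_comp hj (repWith_of_isPullback sqR ha)
    surj_κ := repWith_comp hjs (repWith_of_isPullback sqR has)
    κ_snd := by rw [Category.assoc, sqP.lift_snd, ← Functor.map_comp] }⟩

variable {X₀ Y₀ Z₀ : Sp S} {f₀ : X₀ ⟶ Y₀} {b₀ : Y₀ ⟶ Z₀} (M : MorChart f₀)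

/-- The chart of `MorChart` pulled back to a base change. -/
structure BCChart {X' Y' : Sp S} (f' : X' ⟶ Y') {E : Over S} (q : E ⟶ M.T) where
  /-- The chart of the source. -/
  W : Over S
  /-- The map of charts. -/
  w : W ⟶ E
  /-- The projection to the original chart. -/
  r : W ⟶ M.U
  sq : IsPullback r w M.h q
  /-- The atlas of the target. -/
  b' : (yon S).obj E ⟶ Y'
  etale_b : RepWith @Etale b'
  surj_b : RepWith @Surjective b'
  /-- The atlas of the source. -/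
  a' : (yon S).obj W ⟶ X'
  etale_a : RepWith @Etale a'
  surj_a : RepWith @Surjective a'
  comm : a' ≫ f' = (yon S).map w ≫ b'
  /-- The map of fibre products. -/
  μ : pullback f' b' ⟶ pullback f₀ M.b
  sqμ : IsPullback μ (pullback.snd f' b') (pullback.snd f₀ M.b) ((yon S).map q)
  /-- The chart of the fibre product. -/
  κ' : (yon S).obj W ⟶ pullback f' b'
  etale_κ' : RepWith @Etale κ'
  surj_κ' : RepWith @Surjective κ'
  κ'_μ : κ' ≫ μ = (yon S).map r ≫ M.κ
  κ'_snd : κ' ≫ pullback.snd f' b' = (yon S).map w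
  surj_pair : IsSurjectiveMor f' → Surjective w.left

/-- Base change of a chart. -/
theorem nonempty_bcChart {Z : Sp S} {ψ : Z ⟶ Z₀} {E : Over S} {p : (yon S).obj E ⟶ Z} {q : E ⟶ M.T}
    (sq : IsPullback p ((yon S).map q) ψ (M.b ≫ b₀)) {X' Y' : Sp S} {f' : X' ⟶ Y'} {pY : Y' ⟶ Y₀}
    {qY : Y' ⟶ Z} (hY' : IsPullback pY qY b₀ ψ) {pX : X' ⟶ X₀} (hX' : IsPullback pX f' f₀ pY) :
    Nonempty (BCChart M f' q) := by
  let b' : (yon S).obj E ⟶ Y' := hY'.lift ((yon S).map q ≫ M.b) p (by rw [Category.assoc]; exact sq.w.symm)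
  have hb' : IsPullback b' ((yon S).map q) pY M.b :=
    IsPullback.of_right (by rw [hY'.lift_snd]; exact sq) (hY'.lift_fst _ _ _) hY'.flip
  obtain ⟨W, r, w, hW⟩ : ∃ (W : Over S) (r : W ⟶ M.U) (w : W ⟶ E), IsPullback r w M.h q :=
    ⟨_, _, _, IsPullback.of_hasPullback M.h q⟩
  -- the fibre product of `X'` with the chart of the target
  let P' := pullback f' b'
  let sqP : IsPullback (pullback.fst f₀ M.b) (pullback.snd f₀ M.b) f₀ M.b := IsPullback.of_hasPullback f₀ M.b
  let sqP' : IsPullback (pullback.fst f' b') (pullback.snd f' b') f' b' := IsPullback.of_hasPullback f' b'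
  let μ : P' ⟶ pullback f₀ M.b := sqP.lift (pullback.fst f' b' ≫ pX) (pullback.snd f' b' ≫ (yon S).map q) (by
    rw [Category.assoc, hX'.w, reassoc_of% sqP'.w, hb'.w, Category.assoc])
  have hμ : IsPullback μ (pullback.snd f' b') (pullback.snd f₀ M.b) ((yon S).map q) := by
    refine IsPullback.of_right ?_ (sqP.lift_snd _ _ _) sqP
    rw [sqP.lift_fst, ← hb'.w]
    exact sqP'.paste_horiz hX'
  let κ' : (yon S).obj W ⟶ P' := hμ.lift ((yon S).map r ≫ M.κ) ((yon S).map w) (by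
    rw [Category.assoc, M.κ_snd, ← Functor.map_comp, ← Functor.map_comp, hW.w])
  have hκ : IsPullback ((yon S).map r) κ' M.κ μ := by
    refine IsPullback.of_bot ?_ (hμ.lift_fst _ _ _).symm hμ
    rw [hμ.lift_snd, M.κ_snd]
    exact hW.map (yon S)
  exact ⟨{
    W := W, w := w, r := r, sq := hW, b' := b'
    etale_b := repWith_of_isPullback hb'.flip M.etale_b
    surj_b := repWith_of_isPullback hb'.flip M.surj_b
    a' := κ' ≫ pullback.fst f' b'
    etale_a := repWith_comp (repWith_of_isPullback hκ M.etale_κ)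
      (repWith_of_isPullback sqP'.flip (repWith_of_isPullback hb'.flip M.etale_b))
    surj_a := repWith_comp (repWith_of_isPullback hκ M.surj_κ)
      (repWith_of_isPullback sqP'.flip (repWith_of_isPullback hb'.flip M.surj_b))
    comm := by rw [Category.assoc, sqP'.w, ← Category.assoc, hμ.lift_snd]
    μ := μ, sqμ := hμ, κ' := κ'
    etale_κ' := repWith_of_isPullback hκ M.etale_κ
    surj_κ' := repWith_of_isPullback hκ M.surj_κ
    κ'_μ := hμ.lift_fst _ _ _
    κ'_snd := hμ.lift_snd _ _ _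
    surj_pair := fun hs => ⟨fun t => by
      obtain ⟨x, hx⟩ := hs (Points.ofPt b' t)
      rw [ofPt_eq_map] at hx
      obtain ⟨z, -, hz⟩ := exists_point_of_isPullback sqP' x _ hx
      obtain ⟨v, rfl⟩ := surjective_map_of_repWith (repWith_of_isPullback hκ M.surj_κ) z
      obtain ⟨v, rfl⟩ := (Points.schemeEquiv W).surjective v
      refine ⟨v, (Points.schemeEquiv E).injective ?_⟩
      rw [← Points.map_comp, hμ.lift_snd] at hz
      exact (Points.map_yon_map_apply w v).symm.trans hz⟩ }⟩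

/-- Cancelling a monomorphism in a fibre product. -/
theorem isPullback_of_mono {C : Type*} [Category C] {P A B D D' : C} {a : P ⟶ A} {b : P ⟶ B}
    {f : A ⟶ D} {g : B ⟶ D} {f' : A ⟶ D'} {g' : B ⟶ D'} (m : D ⟶ D') [Mono m] (hf : f ≫ m = f')
    (hg : g ≫ m = g') (h : IsPullback a b f' g') : IsPullback a b f g := by
  subst hf hg
  exact ⟨⟨by rw [← cancel_mono m, Category.assoc, Category.assoc]; exact h.w⟩,
    ⟨PullbackCone.IsLimit.mk _ (fun s => h.lift s.fst s.snd (by rw [← Category.assoc, s.condition, Category.assoc]))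
      (fun s => h.lift_fst _ _ _) (fun s => h.lift_snd _ _ _)
      (fun s m' h₁ h₂ => h.hom_ext (by rw [h₁, h.lift_fst]) (by rw [h₂, h.lift_snd]))⟩⟩

variable {I : Type u} [SmallCategory I] [IsCofiltered I] {D : I ⥤ Sp S} {c : Cone D} {i₀ : I}
  {T U : Over S} {g : (yon S).obj T ⟶ D.obj i₀} (P : PullSys c i₀ g)

omit [IsCofiltered I] in
theorem PullSys.isIso_q : IsIso (P.q (Over.mk (𝟙 i₀))).left := by
  have : IsIso ((yon S).map (P.q (Over.mk (𝟙 i₀)))) := by
    have : IsIso (D.map (Over.mk (𝟙 i₀)).hom) := by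
      exact inferInstanceAs (IsIso (D.map (𝟙 i₀)))
    exact (P.sq (Over.mk (𝟙 i₀))).isIso_snd_of_isIso
  have := isIso_of_fully_faithful (yon S) (P.q (Over.mk (𝟙 i₀)))
  exact inferInstanceAs (IsIso ((Over.forget S).map (P.q (Over.mk (𝟙 i₀)))))

/-- A property of the base change of a map of affine schemes to the limit holds at a stage. -/
theorem PullSys.exists_stage (h : U ⟶ T)
    (Q : MorphismProperty Scheme.{u}) [Q.RespectsIso]
    (desc : ∀ (x₀ : U.left ⟶ ((P.E ⋙ Over.forget S).obj (Over.mk (𝟙 i₀)))),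
      x₀ ≫ (P.q (Over.mk (𝟙 i₀))).left = h.left →
      Q (pullback.snd x₀ (((Over.forget S).mapCone P.L).π.app (Over.mk (𝟙 i₀)))) →
      ∃ (j : Over i₀) (m : j ⟶ Over.mk (𝟙 i₀)), Q (pullback.snd x₀ ((P.E ⋙ Over.forget S).map m)))
    {W : Over S} {r : W ⟶ U} {w : W ⟶ P.L.pt} (sq : IsPullback r w h P.bot) (hw : Q w.left) :
    ∃ k : Over i₀, ∀ {W' : Over S} (r' : W' ⟶ U) (w' : W' ⟶ P.E.obj k),
      IsPullback r' w' h (P.q k) → Q w'.left := by
  have := P.isIso_q
  let k₀ : Over i₀ := Over.mk (𝟙 i₀)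
  let x₀ : U.left ⟶ (P.E.obj k₀).left := h.left ≫ CategoryTheory.inv (P.q k₀).left
  have hx : x₀ ≫ (P.q k₀).left = h.left := by simp [x₀]
  have key : ∀ {A W' : Over S} {r' : W' ⟶ U} {w' : W' ⟶ A} (e : A ⟶ P.E.obj k₀) {q' : A ⟶ T},
      e ≫ P.q k₀ = q' → IsPullback r' w' h q' → (Q (pullback.snd x₀ e.left) ↔ Q w'.left) := by
    intro A W' r' w' e q' he sq'
    have h₁ : IsPullback r'.left w'.left x₀ e.left :=
      isPullback_of_mono (P.q k₀).left hx (by rw [← Over.comp_left, he]) (isPullback_left sq')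
    rw [← h₁.isoPullback_inv_snd, Q.cancel_left_of_respectsIso]
  obtain ⟨j, m, hj⟩ := desc x₀ hx ((key (P.L.π.app k₀) (P.π_q k₀) sq).2 hw)
  exact ⟨j, fun r' w' sq' => (key (P.E.map m) (P.map_q m) sq').1 hj⟩

variable {X₀ Y₀ : Sp S} {f₀ : X₀ ⟶ Y₀} {b₀ : Y₀ ⟶ D.obj i₀} (M : MorChart f₀)
  (P : PullSys c i₀ (M.b ≫ b₀))

/-- Descent of a chart condition: at some stage all base changes have charts satisfying it. -/
theorem exists_stage_chart (Q : MorphismProperty Scheme.{u}) [Q.RespectsIso]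
    (desc : ∀ (x₀ : M.U.left ⟶ ((P.E ⋙ Over.forget S).obj (Over.mk (𝟙 i₀)))),
      x₀ ≫ (P.q (Over.mk (𝟙 i₀))).left = M.h.left →
      Q (pullback.snd x₀ (((Over.forget S).mapCone P.L).π.app (Over.mk (𝟙 i₀)))) →
      ∃ (j : Over i₀) (m : j ⟶ Over.mk (𝟙 i₀)), Q (pullback.snd x₀ ((P.E ⋙ Over.forget S).map m)))
    {X Y : Sp S} {f : X ⟶ Y} {pY : Y ⟶ Y₀} {qY : Y ⟶ c.pt} (hY : IsPullback pY qY b₀ (c.π.app i₀))
    {pX : X ⟶ X₀} (hX : IsPullback pX f f₀ pY) (hQ : ∀ C : BCChart M f P.bot, Q C.w.left) :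
    ∃ (i : I) (φ : i ⟶ i₀), ∀ (Xi Yi : Sp S) (fi : Xi ⟶ Yi) (pYi : Yi ⟶ Y₀) (qYi : Yi ⟶ D.obj i)
      (_ : IsPullback pYi qYi b₀ (D.map φ)) (pXi : Xi ⟶ X₀) (_ : IsPullback pXi fi f₀ pYi),
      ∃ (E : Over S) (q : E ⟶ M.T) (C : BCChart M fi q), Q C.w.left := by
  obtain ⟨C⟩ := nonempty_bcChart M P.sqTop hY hX
  obtain ⟨k, hk⟩ := P.exists_stage M.h Q desc C.sq (hQ C)
  refine ⟨k.left, k.hom, fun Xi Yi fi pYi qYi hYi pXi hXi => ?_⟩
  obtain ⟨C'⟩ := nonempty_bcChart M (P.sq k) hYi hXi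
  exact ⟨_, _, C', hk C'.r C'.w C'.sq⟩

end Groth.SpLimit
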