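import Groth.Agent.SpLimit.DescentRows
import Groth.Agent.AlgSpBasic.SepLocal

/-!
# Descending properties of diagonals along limits
-/

set_option autoImplicit false
set_option backward.isDefEq.respectTransparency false
set_option backward.isDefEq.respectTransparency.types false

universe u

open CategoryTheory CategoryTheory.Limits AlgebraicGeometry Opposite AlgSp
open Groth.AlgSpBasic

noncomputable section

namespace Groth.SpLimit

variable {S : Scheme.{u}} {X₀ Y₀ : Sp S} {f₀ : X₀ ⟶ Y₀}

/-- The scheme of pairs of points of the chart with the same image in the fibre product. -/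
theorem exists_kernelChart (hX₀ : IsAlgSpace X₀) (hY₀ : IsAlgSpace Y₀) (M : MorChart f₀) :
    ∃ (R : Over S) (ρ : R ⟶ pullback M.h M.h),
      IsPullback ((yon S).map (ρ ≫ pullback.fst M.h M.h)) ((yon S).map (ρ ≫ pullback.snd M.h M.h)) M.κ M.κ := by
  have hP := isAlgSpace_of_isPullback (IsPullback.of_hasPullback f₀ M.b) hY₀.diag hX₀ (IsAlgSpace.yon_obj M.T)
  obtain ⟨R, r₁, r₂, hR⟩ := exists_pullback_of_diag hP.diag M.κ M.κ
  refine ⟨R, pullback.lift r₁ r₂ ((yon S).map_injective ?_), ?_⟩
  · rw [Functor.map_comp, Functor.map_comp, ← M.κ_snd, reassoc_of% hR.w]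
  · rw [pullback.lift_fst, pullback.lift_snd]
    exact hR

variable {M : MorChart f₀} {X' Y' : Sp S} {f' : X' ⟶ Y'} {E : Over S} {q : E ⟶ M.T} (C : BCChart M f' q)

/-- The projection of pairs in a base changed chart to pairs in the chart. -/
def BCChart.pairs : pullback C.w C.w ⟶ pullback M.h M.h :=
  pullback.map _ _ _ _ C.r C.r q C.sq.w.symm C.sq.w.symm

theorem BCChart.isPullback_pairs :
    IsPullback C.pairs (pullback.fst C.w C.w ≫ C.w) (pullback.fst M.h M.h ≫ M.h) q := by
  refine ⟨⟨by rw [BCChart.pairs, pullback.map, pullback.lift_fst_assoc, Category.assoc, Category.assoc, C.sq.w]⟩,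
    ⟨PullbackCone.IsLimit.mk _ (fun s => pullback.lift
      (C.sq.lift (s.fst ≫ pullback.fst M.h M.h) s.snd ?_)
      (C.sq.lift (s.fst ≫ pullback.snd M.h M.h) s.snd ?_) ?_) (fun s => ?_) (fun s => ?_) (fun s m h₁ h₂ => ?_)⟩⟩
  · rw [Category.assoc]; exact s.condition
  · rw [Category.assoc, ← pullback.condition]; exact s.condition
  · rw [C.sq.lift_snd, C.sq.lift_snd]
  · apply pullback.hom_ext
    · rw [Category.assoc, BCChart.pairs, pullback.map, pullback.lift_fst, pullback.lift_fst_assoc, C.sq.lift_fst]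
    · rw [Category.assoc, BCChart.pairs, pullback.map, pullback.lift_snd, pullback.lift_snd_assoc, C.sq.lift_fst]
  · rw [pullback.lift_fst_assoc, C.sq.lift_snd]
  · apply pullback.hom_ext <;> apply C.sq.hom_ext
    · rw [pullback.lift_fst, C.sq.lift_fst, ← h₁, Category.assoc, Category.assoc, BCChart.pairs, pullback.map, pullback.lift_fst]
    · rw [pullback.lift_fst, C.sq.lift_snd, ← h₂, Category.assoc]
    · rw [pullback.lift_snd, C.sq.lift_fst, ← h₁, Category.assoc, Category.assoc, BCChart.pairs, pullback.map, pullback.lift_snd]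
    · rw [pullback.lift_snd, C.sq.lift_snd, ← h₂, Category.assoc]
      exact congrArg (m ≫ ·) pullback.condition.symm

variable {R : Over S} {ρ : R ⟶ pullback M.h M.h}
  (hR : IsPullback ((yon S).map (ρ ≫ pullback.fst M.h M.h)) ((yon S).map (ρ ≫ pullback.snd M.h M.h)) M.κ M.κ)
  {R' : Over S} {r' : R' ⟶ R} {ρ' : R' ⟶ pullback C.w C.w} (hR' : IsPullback r' ρ' ρ C.pairs)

include hR hR' in
theorem BCChart.isPullback_kernel :
    IsPullback ((yon S).map (ρ' ≫ pullback.fst C.w C.w)) ((yon S).map (ρ' ≫ pullback.snd C.w C.w)) C.κ' C.κ' := by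
  have hQ := (IsPullback.of_hasPullback C.w C.w).map (yon S)
  have hY := hR'.map (yon S)
  have e₁ : ρ' ≫ pullback.fst C.w C.w ≫ C.r = r' ≫ ρ ≫ pullback.fst M.h M.h := by
    rw [reassoc_of% hR'.w, BCChart.pairs, pullback.map, pullback.lift_fst]
  have e₂ : ρ' ≫ pullback.snd C.w C.w ≫ C.r = r' ≫ ρ ≫ pullback.snd M.h M.h := by
    rw [reassoc_of% hR'.w, BCChart.pairs, pullback.map, pullback.lift_snd]
  have hcond : ∀ s : PullbackCone C.κ' C.κ', s.fst ≫ (yon S).map C.w = s.snd ≫ (yon S).map C.w := fun s => by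
    rw [← C.κ'_snd, reassoc_of% s.condition]
  have hcond' : ∀ s : PullbackCone C.κ' C.κ',
      (s.fst ≫ (yon S).map C.r) ≫ M.κ = (s.snd ≫ (yon S).map C.r) ≫ M.κ := fun s => by
    rw [Category.assoc, Category.assoc, ← C.κ'_μ, reassoc_of% s.condition]
  have hlift : ∀ s : PullbackCone C.κ' C.κ', hR.lift _ _ (hcond' s) ≫ (yon S).map ρ =
      hQ.lift _ _ (hcond s) ≫ (yon S).map C.pairs := fun s => by
    apply ((IsPullback.of_hasPullback M.h M.h).map (yon S)).hom_ext
    · rw [Category.assoc, ← Functor.map_comp, hR.lift_fst, Category.assoc, ← Functor.map_comp,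
        BCChart.pairs, pullback.map, pullback.lift_fst, Functor.map_comp, hQ.lift_fst_assoc]
    · rw [Category.assoc, ← Functor.map_comp, hR.lift_snd, Category.assoc, ← Functor.map_comp,
        BCChart.pairs, pullback.map, pullback.lift_snd, Functor.map_comp, hQ.lift_snd_assoc]
  refine ⟨⟨?_⟩, ⟨PullbackCone.IsLimit.mk _ (fun s => hY.lift _ _ (hlift s)) (fun s => ?_) (fun s => ?_)
    (fun s m h₁ h₂ => ?_)⟩⟩
  · apply C.sqμ.hom_ext
    · rw [Category.assoc, Category.assoc, C.κ'_μ, ← Functor.map_comp_assoc, ← Functor.map_comp_assoc,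
        Category.assoc, e₁, Category.assoc, e₂, Functor.map_comp (yon S) r', Functor.map_comp (yon S) r',
        Category.assoc, Category.assoc]
      exact congrArg ((yon S).map r' ≫ ·) hR.w
    · rw [Category.assoc, Category.assoc, C.κ'_snd, ← Functor.map_comp, ← Functor.map_comp, Category.assoc,
        Category.assoc, pullback.condition]
  · exact (congrArg (_ ≫ ·) ((yon S).map_comp _ _)).trans (by rw [hY.lift_snd_assoc, hQ.lift_fst])
  · exact (congrArg (_ ≫ ·) ((yon S).map_comp _ _)).trans (by rw [hY.lift_snd_assoc, hQ.lift_snd])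
  · apply hY.hom_ext
    · rw [hY.lift_fst]
      apply hR.hom_ext
      · rw [hR.lift_fst, Category.assoc, ← Functor.map_comp, ← e₁, ← h₁, Category.assoc, ← Functor.map_comp, Category.assoc]
      · rw [hR.lift_snd, Category.assoc, ← Functor.map_comp, ← e₂, ← h₂, Category.assoc, ← Functor.map_comp, Category.assoc]
    · rw [hY.lift_snd]
      apply hQ.hom_ext
      · rw [hQ.lift_fst, ← h₁, Category.assoc, ← Functor.map_comp]
      · rw [hQ.lift_snd, ← h₂, Category.assoc, ← Functor.map_comp]

include hR hR' in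
/-- Properties of the diagonal of a base change are read on the pairs of a chart. -/
theorem BCChart.repWith_diagonal_iff (hX' : IsAlgSpace X') (hY' : IsAlgSpace Y')
    (Q : MorphismProperty Scheme.{u}) [Q.IsStableUnderBaseChange]
    [Q.IsLocalAtTarget Scheme.fppfPrecoverage] :
    RepWith Q (pullback.diagonal f') ↔ Q ρ'.left := by
  let sqP := IsPullback.of_hasPullback f' C.b'
  have hP := isAlgSpace_of_isPullback sqP hY'.diag hX' (IsAlgSpace.yon_obj E)
  have hk := C.isPullback_kernel hR hR'
  have hQ := (IsPullback.of_hasPullback C.w C.w).map (yon S)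
  let s' := pullback.snd f' C.b'
  let ν : (yon S).obj (pullback C.w C.w) ⟶ pullback s' s' :=
    pullback.lift ((yon S).map (pullback.fst C.w C.w) ≫ C.κ') ((yon S).map (pullback.snd C.w C.w) ≫ C.κ')
      (by simp only [s', Category.assoc, C.κ'_snd, ← Functor.map_comp, pullback.condition])
  have hν : ∀ (T : MorphismProperty Scheme.{u}) [T.IsStableUnderBaseChange] [T.IsStableUnderComposition]
      [T.RespectsIso] [T.ContainsIdentities], RepWith T C.κ' → RepWith T ν := fun T _ _ _ _ hκ => by
    have : ν = hQ.isoPullback.hom ≫ pullback.map _ _ s' s' C.κ' C.κ' (𝟙 _)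
        ((Category.comp_id _).trans C.κ'_snd.symm) ((Category.comp_id _).trans C.κ'_snd.symm) := by
      apply pullback.hom_ext <;> simp [ν, pullback.map]
    rw [this]
    exact repWith_comp (repWith_isIso _) (MorphismProperty.pullbackMap hκ hκ C.κ'_snd.symm C.κ'_snd.symm)
  have sq : IsPullback ((yon S).map (ρ' ≫ pullback.fst C.w C.w) ≫ C.κ') ((yon S).map ρ')
      (pullback.diagonal s') ν := by
    refine ⟨⟨?_⟩, ⟨PullbackCone.IsLimit.mk _
      (fun z => hk.lift (z.snd ≫ (yon S).map (pullback.fst C.w C.w)) (z.snd ≫ (yon S).map (pullback.snd C.w C.w)) ?_)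
      (fun z => ?_) (fun z => ?_) (fun z m h₁ h₂ => ?_)⟩⟩
    · apply pullback.hom_ext
      · simp [ν, Category.assoc]
      · simp only [ν, Category.assoc, pullback.diagonal_snd, Category.comp_id, pullback.lift_snd]
        rw [hk.w, Functor.map_comp, Category.assoc]
    · have c₁ := z.condition =≫ pullback.fst s' s'
      have c₂ := z.condition =≫ pullback.snd s' s'
      simp only [ν, Category.assoc, pullback.diagonal_fst, pullback.diagonal_snd, Category.comp_id,
        pullback.lift_fst, pullback.lift_snd] at c₁ c₂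
      rw [Category.assoc, Category.assoc]
      exact c₁.symm.trans c₂
    · have c₁ := z.condition =≫ pullback.fst s' s'
      simp only [ν, Category.assoc, pullback.diagonal_fst, Category.comp_id, pullback.lift_fst] at c₁
      rw [hk.lift_fst_assoc, Category.assoc]
      exact c₁.symm
    · apply hQ.hom_ext
      · exact (Category.assoc _ _ _).trans ((congrArg (_ ≫ ·) ((yon S).map_comp _ _).symm).trans
          (hk.lift_fst _ _ _))
      · exact (Category.assoc _ _ _).trans ((congrArg (_ ≫ ·) ((yon S).map_comp _ _).symm).trans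
          (hk.lift_snd _ _ _))
    · apply hk.hom_ext
      · rw [hk.lift_fst, Functor.map_comp, ← h₂, Category.assoc]
      · rw [hk.lift_snd, Functor.map_comp, ← h₂, Category.assoc]
  constructor
  · intro h
    exact (repWith_of_isPullback (isPullback_diagonal_baseChange sqP) h).property _ _ _ sq
  · intro h
    refine repWith_diagonal_of_cover Q hX' hY' C.etale_b C.surj_b sqP ?_
    have := isLocallySurjective_of_etale ν (hν @Etale C.etale_κ') (hν @Surjective C.surj_κ')
    exact repWith_of_isLocallySurjective _ (monoLFT_diagonal hP s').rep ν _ _ sq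
      ((repWith_yon_map_iff Q ρ').2 h)

end Groth.SpLimit
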