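import Groth.Agent.SpLimit.DiagCharts

/-!
# Descending conditions on relative diagonals along limits
-/

set_option autoImplicit false
set_option backward.isDefEq.respectTransparency false
set_option backward.isDefEq.respectTransparency.types false

universe u

open CategoryTheory CategoryTheory.Limits AlgebraicGeometry Opposite AlgSp
open Groth.AlgSpBasic

noncomputable section

namespace Groth.SpLimit

/-- `Q` descends to stages of systems of affine schemes, for qcqs maps satisfying `K`. -/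
def AffineDesc (K Q : MorphismProperty Scheme.{u}) : Prop :=
  ∀ {J : Type u} [SmallCategory J] [IsCofiltered J] (E : J ⥤ Scheme.{u}) (c : Cone E) (_ : IsLimit c)
    [∀ (i j : J) (a : i ⟶ j), IsAffineHom (E.map a)] [∀ j, IsAffine (E.obj j)] {i : J} {X : Scheme.{u}}
    [CompactSpace X] [QuasiSeparatedSpace X] (x : X ⟶ E.obj i),
    K x → Q (pullback.snd x (c.π.app i)) → ∃ (j : J) (φ : j ⟶ i), Q (pullback.snd x (E.map φ))

theorem affineDesc_of_baseDesc {Q : MorphismProperty Scheme.{u}} (h : Groth.Calg2.DescendProps.BaseDesc Q) :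
    AffineDesc @LocallyOfFinitePresentation Q := by
  intro J _ _ E c hc _ _ i X _ _ x hx hQ
  exact h E c hc x hQ

theorem affineDesc_surjective : AffineDesc.{u} @LocallyOfFinitePresentation @Surjective :=
  affineDesc_of_baseDesc Groth.Calg2.DescendProps.baseDesc_surjective

theorem affineDesc_isIso :
    AffineDesc.{u} @LocallyOfFinitePresentation (MorphismProperty.isomorphisms Scheme.{u}) := by
  intro J _ _ E c hc _ _ i X _ _ x hx (hQ : IsIso (pullback.snd x (c.π.app i)))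
  obtain ⟨j₁, φ₁, h₁⟩ := Groth.Calg2.DescendProps.baseDesc_isOpenImmersion E c hc x
    (inferInstance : IsOpenImmersion (pullback.snd x (c.π.app i)))
  obtain ⟨j₂, φ₂, h₂⟩ := Groth.Calg2.DescendProps.baseDesc_surjective E c hc x
    (inferInstance : Surjective (pullback.snd x (c.π.app i)))
  obtain ⟨k, a, b, w⟩ := IsCofiltered.cospan φ₁ φ₂
  refine ⟨k, a ≫ φ₁, ?_⟩
  have h₁' : IsOpenImmersion (pullback.snd x (E.map (a ≫ φ₁))) :=
    Groth.Limits.prop_snd_comp @IsOpenImmersion x (E.map a) (E.map φ₁) _ (E.map_comp a φ₁).symm h₁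
  have h₂' : Surjective (pullback.snd x (E.map (a ≫ φ₁))) :=
    Groth.Limits.prop_snd_comp @Surjective x (E.map b) (E.map φ₂) _ (by rw [← E.map_comp, w]) h₂
  have : Epi (pullback.snd x (E.map (a ≫ φ₁))).base :=
    (TopCat.epi_iff_surjective _).2 h₂'.surj
  exact IsOpenImmersion.isIso (pullback.snd x (E.map (a ≫ φ₁)))

theorem affineDesc_isClosedImmersion :
    AffineDesc.{u} @LocallyOfFiniteType @IsClosedImmersion := by
  intro J _ _ E c hc _ _ i X _ _ x hx hQ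
  have : LocallyOfFiniteType x := hx
  have : IsClosedImmersion (pullback.snd x (c.π.app i)) := hQ
  obtain ⟨j, hj⟩ := Groth.Limits.exists_isClosedImmersion_stage (g₀ := 𝟙 (E.obj i)) (f₀ := x)
    (g := 𝟙 c.pt) (qY := c.π.app i) hc (IsPullback.of_vert_isIso ⟨by simp⟩)
    (IsPullback.of_hasPullback x (c.π.app i))
  refine ⟨j.left, j.hom, ?_⟩
  exact Groth.Limits.prop_snd_comp @IsClosedImmersion x
    (pullback.lift (𝟙 _) (E.map j.hom) (by simp)) _ _ (pullback.lift_snd _ _ _) hj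

variable {S : Scheme.{u}} {I : Type u} [SmallCategory I] [IsCofiltered I] {D : I ⥤ Sp S} {c : Cone D}
  {i₀ : I} {X₀ Y₀ : Sp S} {f₀ : X₀ ⟶ Y₀} {b₀ : Y₀ ⟶ D.obj i₀}

variable [QuasiSeparatedSpace S] (hD : ∀ i, IsAlgSpace (D.obj i))
  (hDa : ∀ (i j : I) (φ : i ⟶ j), IsAffineMor (D.map φ)) (hc : IsLimit c)
  (hX₀ : IsAlgSpace X₀) (hY₀ : IsAlgSpace Y₀) (hXqc : IsQuasiCompactSp X₀) (hYqc : IsQuasiCompactSp Y₀)
  (hXqs : IsQuasiSeparatedSp X₀) (hYqs : IsQuasiSeparatedSp Y₀)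
  {X Y : Sp S} {f : X ⟶ Y} {pY : Y ⟶ Y₀} {qY : Y ⟶ c.pt} (hY : IsPullback pY qY b₀ (c.π.app i₀))
  {pX : X ⟶ X₀} (hX : IsPullback pX f f₀ pY)

include hD hDa hc hX₀ hY₀ hXqc hYqc hXqs hYqs hY hX

theorem exists_diag_stage (K Q : MorphismProperty Scheme.{u}) [Q.IsStableUnderBaseChange]
    [Q.IsLocalAtTarget Scheme.fppfPrecoverage] [K.RespectsIso] (desc : AffineDesc K Q)
    (hK : ∀ (M : MorChart f₀) {R : Over S} (ρ : R ⟶ pullback M.h M.h),
      Etale (ρ ≫ pullback.fst M.h M.h).left → K ρ.left)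
    (hf : RepWith Q (pullback.diagonal f)) :
    ∃ (i : I) (φ : i ⟶ i₀), ∀ (Xi Yi : Sp S) (fi : Xi ⟶ Yi) (pYi : Yi ⟶ Y₀) (qYi : Yi ⟶ D.obj i)
      (_ : IsPullback pYi qYi b₀ (D.map φ)) (pXi : Xi ⟶ X₀) (_ : IsPullback pXi fi f₀ pYi),
      RepWith Q (pullback.diagonal fi) := by
  obtain ⟨M⟩ := nonempty_morChart hX₀ hY₀ hXqc hYqc hYqs f₀
  obtain ⟨R, ρ, hR⟩ := exists_kernelChart hX₀ hY₀ M
  let T₂ := pullback M.h M.h
  have hT₂ : IsAffine T₂.left := by
    have : IsAffineHom (pullback.fst M.h M.h).left :=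
      MorphismProperty.of_isPullback (P := @IsAffineHom)
        (isPullback_left (IsPullback.of_hasPullback M.h M.h)).flip (inferInstance : IsAffineHom M.h.left)
    exact isAffine_of_isAffineHom (pullback.fst M.h M.h).left
  have hρe : Etale (ρ ≫ pullback.fst M.h M.h).left :=
    repWith_fst_of_isPullback hR.flip M.etale_κ
  have hTqs : IsQuasiSeparatedSp ((yon S).obj M.T) :=
    (repWith_diag_yon_iff _ M.T).2 (QuasiSeparated.quasiCompact_diagonal : QuasiCompact (pullback.diagonal M.T.hom))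
  have : CompactSpace R.left := compactSpace_pullback_of_qs
    (isQuasiSeparatedSp_of_isPullback
      (isAlgSpace_of_isPullback (IsPullback.of_hasPullback f₀ M.b) hY₀.diag hX₀ (IsAlgSpace.yon_obj M.T))
      hXqs hYqs hTqs (IsPullback.of_hasPullback f₀ M.b)) hR
  have : QuasiSeparatedSpace R.left := by
    have : Mono ((yon S).map ρ) := ⟨fun a b hab => hR.hom_ext
      (by rw [Functor.map_comp, reassoc_of% hab]) (by rw [Functor.map_comp, reassoc_of% hab])⟩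
    have : Mono ρ := (yon S).mono_of_mono_map this
    have : Mono ρ.left := inferInstanceAs (Mono ((Over.forget S).map ρ))
    exact quasiSeparatedSpace_of_quasiSeparated ρ.left
  let hT := pullback.fst M.h M.h ≫ M.h
  let g₂ := (yon S).map hT ≫ M.b ≫ b₀
  obtain ⟨P⟩ := nonempty_pullSys D hDa hc i₀ (M.b ≫ b₀)
  obtain ⟨P₂⟩ := nonempty_pullSys D hDa hc i₀ g₂
  have htr : ∀ {Z : Sp S} {ψ : Z ⟶ D.obj i₀} {E E₂ : Over S} {p : (yon S).obj E ⟶ Z} {q : E ⟶ M.T}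
      (_ : IsPullback p ((yon S).map q) ψ (M.b ≫ b₀)) {p₂ : (yon S).obj E₂ ⟶ Z} {q₂ : E₂ ⟶ T₂}
      (_ : IsPullback p₂ ((yon S).map q₂) ψ g₂) {X' Y' : Sp S} {f' : X' ⟶ Y'} (C : BCChart M f' q)
      {R₂ : Over S} {r₂ : R₂ ⟶ R} {ρ₂ : R₂ ⟶ E₂} (_ : IsPullback r₂ ρ₂ ρ q₂),
      ∃ (R' : Over S) (r' : R' ⟶ R) (ρ' : R' ⟶ pullback C.w C.w),
        IsPullback r' ρ' ρ C.pairs ∧ (Q ρ₂.left ↔ Q ρ'.left) := by
    intro Z ψ E E₂ p q sq p₂ q₂ sq₂ X' Y' f' C R₂ r₂ ρ₂ sqR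
    have sqC : IsPullback ((yon S).map (pullback.fst C.w C.w ≫ C.w) ≫ p) ((yon S).map C.pairs) ψ g₂ :=
      ((C.isPullback_pairs.map (yon S)).flip.paste_horiz sq)
    let e : (yon S).obj (pullback C.w C.w) ≅ (yon S).obj E₂ := sqC.isoIsPullback _ _ sq₂
    let e₀ : pullback C.w C.w ≅ E₂ := (yon S).preimageIso e
    have he : e₀.hom ≫ q₂ = C.pairs := (yon S).map_injective (by
      rw [Functor.map_comp, show (yon S).map e₀.hom = e.hom from (yon S).map_preimage _]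
      exact sqC.isoIsPullback_hom_snd _ _ sq₂)
    refine ⟨R₂, r₂, ρ₂ ≫ e₀.inv, sqR.of_iso (Iso.refl _) (Iso.refl _) e₀.symm (Iso.refl _)
      (by simp) (by simp) (by simp) (by simp [← he]), ?_⟩
    rw [Over.comp_left]
    exact (Q.cancel_right_of_respectsIso ρ₂.left ((Over.forget S).mapIso e₀.symm).hom).symm
  obtain ⟨W₂, r₂, w₂, hW₂⟩ : ∃ (W₂ : Over S) (r₂ : W₂ ⟶ R) (w₂ : W₂ ⟶ P₂.L.pt),
      IsPullback r₂ w₂ ρ P₂.bot := ⟨_, _, _, IsPullback.of_hasPullback ρ P₂.bot⟩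
  have hlim : Q w₂.left := by
    obtain ⟨C⟩ := nonempty_bcChart M P.sqTop hY hX
    obtain ⟨R', r', ρ', hR', hiff⟩ := htr P.sqTop P₂.sqTop C hW₂
    have hYa := isAlgSpace_of_isPullback hY (hD i₀).diag hY₀ (isAlgSpace_pt D hDa hc hD)
    exact hiff.2 ((C.repWith_diagonal_iff hR hR' (isAlgSpace_of_isPullback hX hY₀.diag hX₀ hYa) hYa Q).1 hf)
  obtain ⟨k, hk⟩ := P₂.exists_stage ρ Q (fun x₀ hx hQ => by
      refine desc (P₂.E ⋙ Over.forget S) _ P₂.isLimit x₀ ?_ hQ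
      have := P₂.isIso_q
      rw [(IsIso.eq_comp_inv _).2 hx, K.cancel_right_of_respectsIso]
      exact hK M ρ hρe) hW₂ hlim
  refine ⟨k.left, k.hom, fun Xi Yi fi pYi qYi hYi pXi hXi => ?_⟩
  obtain ⟨C⟩ := nonempty_bcChart M (P.sq k) hYi hXi
  obtain ⟨R', r', ρ', hR', hiff⟩ := htr (P.sq k) (P₂.sq k) C (IsPullback.of_hasPullback ρ (P₂.q k))
  obtain ⟨h₁, h₂⟩ := isAlgSpace_bc hD hX₀ hY₀ hYi hXi
  exact (C.repWith_diagonal_iff hR hR' h₁ h₂ Q).2 (hiff.1 (hk _ _ (IsPullback.of_hasPullback ρ (P₂.q k))))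

end Groth.SpLimit
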