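import Groth.Agent.SpLimit.SchemeLimit
import Groth.Agent.SpLimit.ModelStage
import Groth.Agent.AlgSpBasic.DiagProps

/-!
# Extensions of a ground field: passing to finite extensions
-/

set_option autoImplicit false
set_option backward.isDefEq.respectTransparency false
set_option backward.isDefEq.respectTransparency.types false

universe u

open CategoryTheory CategoryTheory.Limits AlgebraicGeometry Opposite AlgSp
open Groth.AlgSpBasic

noncomputable section

namespace Groth.SpLimit

variable {k : Type u} [Field k]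

/-- The spectrum of a field. -/
abbrev kSpec (k : Type u) [Field k] : Scheme.{u} := Spec (CommRingCat.of k)

/-- The spectrum of an algebra over the ground field. -/
abbrev kOver (k : Type u) [Field k] (K : Type u) [CommRing K] [Algebra k K] : Over (kSpec k) :=
  Over.mk (Spec.map (CommRingCat.ofHom (algebraMap k K)))

/-- A scheme of finite type over a field has a point in a finite extension, given by an affine map. -/
theorem exists_finite_point {E : Over (kSpec k)} [CompactSpace ↥E.left] (hne : Nonempty ↥E.left)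
    [LocallyOfFiniteType E.hom] :
    ∃ (κ : Type u) (_ : Field κ) (_ : Algebra k κ), Module.Finite k κ ∧
      ∃ f : kOver k κ ⟶ E, IsAffineHom f.left := by
  obtain ⟨x, -, hx⟩ := IsClosed.exists_closed_singleton (isClosed_univ (X := ↥E.left))
    Set.univ_nonempty
  let κ : Type u := E.left.residueField x
  let f₀ := E.left.fromSpecResidueField x
  have : IsClosedImmersion f₀ :=
    { toSurjectiveOnStalks := inferInstance
      isClosedEmbedding := ⟨f₀.isEmbedding, by
        rw [Scheme.range_fromSpecResidueField]; exact hx⟩ }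
  obtain ⟨φ, hφ⟩ : ∃ φ, Spec.map φ = f₀ ≫ E.hom := ⟨_, Spec.map_preimage _⟩
  algebraize [φ.hom]
  have e : Spec.map (CommRingCat.ofHom (algebraMap k κ)) = f₀ ≫ E.hom := hφ
  have : LocallyOfFiniteType (Spec.map φ) := by rw [hφ]; infer_instance
  have hft : φ.hom.FiniteType := (HasRingHomProperty.Spec_iff (P := @LocallyOfFiniteType)).1 this
  have : Algebra.FiniteType k κ := hft
  exact ⟨κ, inferInstance, inferInstance, finite_of_finite_type_of_isJacobsonRing k κ,
    Over.homMk f₀ e.symm, inferInstanceAs (IsAffineHom f₀)⟩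

variable {X : Sp (kSpec k)}

/-- The product with a scheme as a fibre product over the point. -/
theorem nonempty_pullback_terminal_iso {S : Scheme.{u}} {X : Sp S} {A : Sp S}
    (a : A ⟶ (yon S).obj (Over.mk (𝟙 S))) (q : X ⟶ (yon S).obj (Over.mk (𝟙 S))) :
    Nonempty (pullback a q ≅ X ⨯ A) := by
  let ht : IsTerminal ((yon S).obj (Over.mk (𝟙 S))) :=
    IsTerminal.isTerminalObj (yon S) _ Over.mkIdTerminal
  obtain rfl : a = ht.from A := ht.hom_ext _ _
  obtain rfl : q = ht.from X := ht.hom_ext _ _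
  exact ⟨((IsPullback.of_is_product' (prodIsProd X A) ht).flip.isoPullback).symm⟩

/-- Base change of a scheme along a map of the base. -/
theorem exists_prod_yon_iso {S : Scheme.{u}} {X : Sp S} {E Z W : Over S}
    (e : (yon S).obj W ≅ X ⨯ (yon S).obj E) (f : Z ⟶ E) :
    ∃ (W' : Over S) (w : W ⟶ E) (a : W' ⟶ W) (b : W' ⟶ Z), IsPullback a b w f ∧
      Nonempty ((yon S).obj W' ≅ X ⨯ (yon S).obj Z) := by
  obtain ⟨w, hw⟩ := (yon S).map_surjective (e.hom ≫ prod.snd)
  have sq₁ := (isPullback_prod_map_snd ((yon S).map f) X).flip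
  have sq₂ : IsPullback (prod.map (𝟙 X) ((yon S).map f) ≫ e.inv) prod.snd ((yon S).map w)
      ((yon S).map f) :=
    sq₁.of_iso (Iso.refl _) e.symm (Iso.refl _) (Iso.refl _) (by simp) (by simp)
      (by simp [hw]) (by simp)
  have sq₃ : IsPullback ((yon S).map (pullback.fst w f)) ((yon S).map (pullback.snd w f))
      ((yon S).map w) ((yon S).map f) := (IsPullback.of_hasPullback w f).map (yon S)
  exact ⟨pullback w f, w, pullback.fst w f, pullback.snd w f, IsPullback.of_hasPullback w f,
    ⟨sq₃.isoIsPullback _ _ sq₂⟩⟩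

variable (hX : IsAlgSpace X) (hqc : IsQuasiCompactSp X) (hqs : IsQuasiSeparatedSp X)

include hX hqc hqs in
/-- The finite-type stages of an affine base with their properties. -/
theorem exists_base_system (T : Over (kSpec k)) [IsAffine T.left] (hT : Nonempty ↥T.left) :
    ∃ (J : Type u) (_ : SmallCategory J) (_ : IsCofiltered J) (D : J ⥤ Sp (kSpec k)) (c : Cone D)
      (_ : IsLimit c), (∀ j, IsAlgSpace (D.obj j)) ∧
      (∀ i j (φ : i ⟶ j), IsAffineMor (D.map φ)) ∧ (∀ j, IsQuasiCompactSp (D.obj j)) ∧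
      (∀ j, IsQuasiSeparatedSp (D.obj j)) ∧ Nonempty (c.pt ≅ X ⨯ (yon (kSpec k)).obj T) ∧
      ∀ j, ∃ (κ : Type u) (_ : Field κ) (_ : Algebra k κ), Module.Finite k κ ∧
        ∃ (E : Over (kSpec k)) (f : kOver k κ ⟶ E), IsAffineHom f.left ∧
          Nonempty (D.obj j ≅ X ⨯ (yon (kSpec k)).obj E) := by
  obtain ⟨J, _, _, E, π, ⟨l⟩, hEa, -, hEc, hEp, hEs⟩ := exists_affine_fp_system T
  have hne : ∀ j, Nonempty ↥(E.obj j).left := fun j => hT.map (π.app j).left
  have := IsCofiltered.isConnected (C := J)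
  let Y := (yon (kSpec k)).obj (Over.mk (𝟙 (kSpec k)))
  let ht : IsTerminal Y := IsTerminal.isTerminalObj (yon _) _ Over.mkIdTerminal
  let q : X ⟶ Y := ht.from X
  let t : E ⋙ yon (kSpec k) ⟶ (Functor.const J).obj Y :=
    { app := fun j => ht.from _
      naturality := fun i j φ => ht.hom_ext _ _ }
  have lE : IsLimit (Cone.mk T π) := isLimitOfReflects (Over.forget (kSpec k)) l
  obtain ⟨lc⟩ := nonempty_isLimit_bcCone t q (c := (yon (kSpec k)).mapCone (Cone.mk T π))
    (g := ht.from _) (fun j => ht.hom_ext _ _) (isLimitOfPreserves (yon (kSpec k)) lE)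
  have hY : IsAlgSpace Y := IsAlgSpace.yon_obj _
  have hYqs : IsQuasiSeparatedSp Y :=
    have : QuasiSeparated (Over.mk (𝟙 (kSpec k))).hom := inferInstanceAs (QuasiSeparated (𝟙 _))
    isQuasiSeparatedSp_yon_of_hom _
  have hD : ∀ j, IsAlgSpace ((bcSys t q).obj j) := fun j =>
    isAlgSpace_of_isPullback (IsPullback.of_hasPullback (t.app j) q) hY.diag (IsAlgSpace.yon_obj _) hX
  refine ⟨J, inferInstance, inferInstance, bcSys t q, _, lc, hD, fun i j φ => ?_, fun j => ?_,
    fun j => ?_, nonempty_pullback_terminal_iso _ _, fun j => ?_⟩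
  · exact isAffineMor_iff_repWith.2 (repWith_of_isPullback (isPullback_bcSys_map t q φ)
      ((repWith_yon_map_iff _ _).2 (hEa i j φ)))
  · obtain ⟨U, p, hU, hp, hps⟩ := exists_affine_chart hX hqc
    have sq := IsPullback.of_hasPullback (pullback.snd (t.app j) q) p
    have sqP : IsPullback (pullback.fst (pullback.snd (t.app j) q) p ≫ pullback.fst (t.app j) q)
        (pullback.snd (pullback.snd (t.app j) q) p) (t.app j) (p ≫ q) :=
      (sq.flip.paste_vert (IsPullback.of_hasPullback (t.app j) q).flip).flip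
    let n : E.obj j ⟶ Over.mk (𝟙 (kSpec k)) := Over.mkIdTerminal.from _
    let m : U ⟶ Over.mk (𝟙 (kSpec k)) := Over.mkIdTerminal.from _
    have sqS := (IsPullback.of_hasPullback n m).map (yon (kSpec k))
    rw [show (yon (kSpec k)).map n = t.app j from ht.hom_ext _ _,
      show (yon (kSpec k)).map m = p ≫ q from ht.hom_ext _ _] at sqS
    refine isQuasiCompactSp_of_surjective ?_
      (isAlgSpace_of_isPullback sq hX.diag (hD j) (IsAlgSpace.yon_obj U)) (hD j) _
      (surjective_map_of_repWith (repWith_of_isPullback sq.flip hps))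
    refine isQuasiCompactSp_of_iso (sqS.isoIsPullback _ _ sqP) ((isQuasiCompactSp_yon_iff _).2 ?_)
    have : CompactSpace ↥(E.obj j).left := hEc j
    have : QuasiCompact U.hom := inferInstance
    have : CompactSpace ↥(pullback (E.obj j).hom U.hom) :=
      QuasiCompact.compactSpace_of_compactSpace (pullback.fst _ _)
    have sqF : IsPullback (pullback.fst n m).left (pullback.snd n m).left (E.obj j).hom U.hom := by
      have h := (IsPullback.of_hasPullback n m).map (Over.forget (kSpec k))
      simp only [Over.forget_map] at h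
      rwa [show n.left = (E.obj j).hom from (Category.comp_id _).symm.trans (Over.w n),
        show m.left = U.hom from (Category.comp_id _).symm.trans (Over.w m)] at h
    exact sqF.isoPullback.inv.homeomorph.compactSpace
  · have : QuasiSeparated (E.obj j).hom := hEs j
    exact isQuasiSeparatedSp_of_isPullback (hD j) (isQuasiSeparatedSp_yon_of_hom (E.obj j)) hYqs
      hqs (IsPullback.of_hasPullback (t.app j) q)
  · have : CompactSpace ↥(E.obj j).left := hEc j
    have : LocallyOfFinitePresentation (E.obj j).hom := hEp j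
    obtain ⟨κ, _, _, hκ, f, hf⟩ := exists_finite_point (hne j)
    exact ⟨κ, inferInstance, inferInstance, hκ, E.obj j, f, hf, nonempty_pullback_terminal_iso _ _⟩

include hX hqc hqs in
/-- A space which is a scheme over some affine base is a scheme over a finite extension. -/
theorem exists_finite_scheme (T : Over (kSpec k)) [IsAffine T.left] (hT : Nonempty ↥T.left)
    (h : (X ⨯ (yon (kSpec k)).obj T).obj.IsRepresentable) :
    ∃ (κ : Type u) (_ : Field κ) (_ : Algebra k κ), Module.Finite k κ ∧
      (X ⨯ (yon (kSpec k)).obj (kOver k κ)).obj.IsRepresentable := by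
  obtain ⟨J, _, _, D, c, lc, hD, hDa, hDc, hDs, ⟨e⟩, hκ⟩ := exists_base_system hX hqc hqs T hT
  obtain ⟨W, ⟨r⟩⟩ := h
  obtain ⟨j, hj⟩ := exists_scheme_of_limit hD hDa lc hDc hDs (isoOfRepresentableBy r ≪≫ e.symm)
  obtain ⟨κ, _, _, hfin, E, f, -, ⟨ej⟩⟩ := hκ j
  obtain ⟨Wj, ⟨rj⟩⟩ := hj
  obtain ⟨W', -, -, -, -, ⟨e'⟩⟩ := exists_prod_yon_iso (isoOfRepresentableBy rj ≪≫ ej) f
  exact ⟨κ, inferInstance, inferInstance, hfin, isRepresentable_of_iso e'⟩

include hX hqc hqs in
/-- A space which is affine over some affine base is affine over a finite extension. -/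
theorem exists_finite_affine (T : Over (kSpec k)) [IsAffine T.left] (hT : Nonempty ↥T.left)
    {W : Over (kSpec k)} [IsAffine W.left]
    (e₀ : (yon (kSpec k)).obj W ≅ X ⨯ (yon (kSpec k)).obj T) :
    ∃ (κ : Type u) (_ : Field κ) (_ : Algebra k κ) (W' : Over (kSpec k)), Module.Finite k κ ∧
      IsAffine W'.left ∧ Nonempty ((yon (kSpec k)).obj W' ≅ X ⨯ (yon (kSpec k)).obj (kOver k κ)) := by
  obtain ⟨J, _, _, D, c, lc, hD, hDa, hDc, hDs, ⟨e⟩, hκ⟩ := exists_base_system hX hqc hqs T hT
  obtain ⟨j, Wj, hWj, ⟨rj⟩⟩ := exists_affine_of_limit hD hDa lc hDc hDs W (e₀ ≪≫ e.symm)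
  obtain ⟨κ, _, _, hfin, E, f, hf, ⟨ej⟩⟩ := hκ j
  obtain ⟨W', w, a, b, sq, he'⟩ := exists_prod_yon_iso (rj ≪≫ ej) f
  refine ⟨κ, inferInstance, inferInstance, W', hfin, ?_, he'⟩
  have : IsAffineHom a.left :=
    MorphismProperty.of_isPullback ((sq.map (Over.forget (kSpec k))).flip) hf
  exact isAffine_of_isAffineHom a.left

end Groth.SpLimit
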