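import Groth.Agent.SpLimit.Stage
import Groth.Agent.Limits.FlatDescent
import Groth.Agent.SpectralTopology.DescendFP
import Groth.Agent.AlgSpBasic.Topology
import Groth.Agent.SpLimit.RelLimit
import Mathlib.AlgebraicGeometry.Morphisms.FlatRank

/-!
# Finite affine fppf coverings
-/

set_option autoImplicit false
set_option backward.isDefEq.respectTransparency false
set_option backward.isDefEq.respectTransparency.types false

universe u

open CategoryTheory CategoryTheory.Limits AlgebraicGeometry Opposite AlgSp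

noncomputable section

namespace Groth.SpLimit

variable {S : Scheme.{u}}

/-- A finite jointly surjective family of flat finitely presented maps from affine schemes. -/
structure IsAffCover {T : Over S} {n : Type u} (U : n → Over S) (u : ∀ a, U a ⟶ T) : Prop where
  finite : Finite n
  aff : ∀ a, IsAffine (U a).left
  flat : ∀ a, Flat (u a).left
  lfp : ∀ a, LocallyOfFinitePresentation (u a).left
  surj : ∀ t : T.left, ∃ (a : n) (v : (U a).left), (u a).left v = t

theorem isOpenMap_of_flat_lfp {X Y : Scheme.{u}} (f : X ⟶ Y) [Flat f] [LocallyOfFinitePresentation f] :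
    IsOpenMap f :=
  have : UniversallyOpen f := inferInstance
  f.isOpenMap

/-- A covering sieve of a quasi-compact scheme contains a finite affine covering. -/
theorem exists_affCover_of_mem {T : Over S} [CompactSpace T.left] {R : Sieve T} (hR : R ∈ J S T) :
    ∃ (n : Type u) (U : n → Over S) (u : ∀ a, U a ⟶ T), IsAffCover U u ∧ ∀ a, R (u a) := by
  obtain ⟨C, hC, hR'⟩ := Groth.AlgSpBasic.exists_cover_of_mem hR
  obtain ⟨ι, Z, g, rfl⟩ := C.exists_eq_ofArrows
  obtain ⟨hsurj, hfl⟩ := (Scheme.ofArrows_mem_precoverage_iff _).1 hC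
  have h : ∀ t : T.left, ∃ (j : ι) (V : (Z j).Opens), IsAffineOpen V ∧ t ∈ (g j) '' (V : Set (Z j)) := fun t => by
    obtain ⟨j, y, hy⟩ := hsurj t
    obtain ⟨_, ⟨V, hV, rfl⟩, hyV, -⟩ :=
      (Z j).isBasis_affineOpens.exists_subset_of_mem_open (Set.mem_univ y) isOpen_univ
    exact ⟨j, V, hV, y, hyV, hy⟩
  choose j V hV ht using h
  have hopen : ∀ t, IsOpen ((g (j t)) '' (V t : Set (Z (j t)))) := fun t => by
    have : Flat (g (j t)) := (hfl (j t)).1
    have : LocallyOfFinitePresentation (g (j t)) := (hfl (j t)).2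
    exact isOpenMap_of_flat_lfp (g (j t)) _ (V t).2
  obtain ⟨s, hs⟩ := isCompact_univ.elim_finite_subcover _ hopen
    (fun t _ => Set.mem_iUnion.2 ⟨t, ht t⟩)
  refine ⟨{t // t ∈ s}, fun t => Over.mk (((V t).ι ≫ g (j t)) ≫ T.hom),
    fun t => Over.homMk ((V t).ι ≫ g (j t)), ⟨inferInstance, fun t => hV t, fun t => ?_, fun t => ?_, fun x => ?_⟩, fun t => ?_⟩
  · have : Flat (g (j t.1)) := (hfl (j t.1)).1
    exact inferInstanceAs (Flat ((V t.1).ι ≫ g (j t.1)))
  · have : LocallyOfFinitePresentation (g (j t.1)) := (hfl (j t.1)).2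
    exact inferInstanceAs (LocallyOfFinitePresentation ((V t.1).ι ≫ g (j t.1)))
  · obtain ⟨t, ht, y, hy, rfl⟩ := Set.mem_iUnion₂.1 (hs (Set.mem_univ x))
    exact ⟨⟨t, ht⟩, ⟨y, hy⟩, rfl⟩
  · have h := R.downward_closed (hR' (g (j t.1)) ⟨j t.1⟩)
      (Over.homMk (V t.1).ι (Category.assoc _ _ _).symm :
        Over.mk (((V t.1).ι ≫ g (j t.1)) ≫ T.hom) ⟶ Over.mk (g (j t.1) ≫ T.hom))
    exact h

namespace IsAffCover

variable {T : Over S} {n : Type u} {U : n → Over S} {u : ∀ a, U a ⟶ T}

theorem mem (h : IsAffCover U u) : Sieve.ofArrows U u ∈ J S T := by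
  rw [GrothendieckTopology.mem_over_iff]
  refine GrothendieckTopology.superset_covering _ ?_ (Precoverage.generate_mem_toGrothendieck
    (R := Presieve.ofArrows (fun a => (U a).left) (fun a => (u a).left))
    ((Scheme.ofArrows_mem_precoverage_iff _).2 ⟨fun t => h.surj t, fun a => ⟨h.flat a, h.lfp a⟩⟩))
  rw [Sieve.generate_le_iff]
  rintro _ _ ⟨a⟩
  exact ⟨U a, u a, 𝟙 _, ⟨U a, 𝟙 _, u a, ⟨a⟩, by simp⟩, by simp⟩

variable {F : PSp S} (hF : Presheaf.IsSheaf (J S) F)

include hF

theorem isSheafFor (h : IsAffCover U u) : (Presieve.ofArrows U u).IsSheafFor F :=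
  (Presieve.isSheafFor_iff_generate _).2 ((isSheaf_iff_isSheaf_of_type _ _).1 hF _ h.mem)

theorem sect_ext (h : IsAffCover U u) {x y : F.obj (op T)}
    (he : ∀ a, F.map (u a).op x = F.map (u a).op y) : x = y := by
  refine (h.isSheafFor hF).isSeparatedFor.ext ?_
  rintro _ _ ⟨a⟩
  exact he a

theorem exists_glue (h : IsAffCover U u) (x : ∀ a, F.obj (op (U a)))
    (hx : ∀ a b, F.map (pullback.fst (u a) (u b)).op (x a) = F.map (pullback.snd (u a) (u b)).op (x b)) :
    ∃ y : F.obj (op T), ∀ a, F.map (u a).op y = x a := by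
  obtain ⟨y, hy, -⟩ := (Presieve.isSheafFor_arrows_iff _ _).1 (h.isSheafFor hF) x (fun a b Z p q e => by
    rw [← pullback.lift_fst p q e, op_comp, Functor.map_comp_apply, hx a b, ← Functor.map_comp_apply,
      ← op_comp, pullback.lift_snd])
  exact ⟨y, hy⟩

omit hF

/-- Coverings compose. -/
theorem bind (h : IsAffCover U u) {m : n → Type u} {W : ∀ a, m a → Over S} {w : ∀ a b, W a b ⟶ U a}
    (hw : ∀ a, IsAffCover (W a) (w a)) :
    IsAffCover (n := Σ a, m a) (fun p => W p.1 p.2) (fun p => w p.1 p.2 ≫ u p.1) where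
  finite := have := h.finite; have := fun a => (hw a).finite; inferInstance
  aff p := (hw p.1).aff p.2
  flat p := by
    have := (hw p.1).flat p.2
    have := h.flat p.1
    exact inferInstanceAs (Flat ((w p.1 p.2).left ≫ (u p.1).left))
  lfp p := by
    have := (hw p.1).lfp p.2
    have := h.lfp p.1
    exact inferInstanceAs (LocallyOfFinitePresentation ((w p.1 p.2).left ≫ (u p.1).left))
  surj t := by
    obtain ⟨a, v, rfl⟩ := h.surj t
    obtain ⟨b, z, rfl⟩ := (hw a).surj v
    exact ⟨⟨a, b⟩, z, rfl⟩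

/-- A covering of an affine scheme pulls back along a map from an affine scheme. -/
theorem of_isPullback (h : IsAffCover U u) [IsAffine T.left] {T' : Over S} [IsAffine T'.left]
    {f : T' ⟶ T} {U' : n → Over S} {u' : ∀ a, U' a ⟶ T'} {p : ∀ a, U' a ⟶ U a}
    (sq : ∀ a, IsPullback (p a) (u' a) (u a) f) : IsAffCover U' u' where
  finite := h.finite
  aff a := by
    have := h.aff a
    have : IsAffineHom ((Over.forget S).map (u a)) := inferInstanceAs (IsAffineHom (u a).left)
    have : IsAffineHom (u' a).left :=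
      MorphismProperty.of_isPullback (P := @IsAffineHom) ((sq a).map (Over.forget S)) this
    exact isAffine_of_isAffineHom (u' a).left
  flat a := MorphismProperty.of_isPullback (P := @Flat) ((sq a).map (Over.forget S)) (h.flat a)
  lfp a := MorphismProperty.of_isPullback (P := @LocallyOfFinitePresentation)
    ((sq a).map (Over.forget S)) (h.lfp a)
  surj t := by
    obtain ⟨a, v, hv⟩ := h.surj (f.left t)
    obtain ⟨z, -, hz⟩ := Scheme.exists_preimage_of_isPullback ((sq a).map (Over.forget S)) v t hv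
    exact ⟨a, z, hz⟩

theorem pullback (h : IsAffCover U u) [IsAffine T.left] {T' : Over S} [IsAffine T'.left] (f : T' ⟶ T) :
    IsAffCover (fun a => Limits.pullback f (u a)) (fun a => pullback.fst f (u a)) :=
  h.of_isPullback fun a => (IsPullback.of_hasPullback f (u a)).flip

end IsAffCover

variable {I : Type u} [SmallCategory I] [IsCofiltered I] (A : AffSys S I)

/-- A flat finitely presented map from an affine scheme to the limit comes from a stage. -/
theorem exists_flat_stage {W : Over S} [IsAffine W.left] (f : W ⟶ A.c.pt)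
    (hfl : Flat f.left) (hfp : LocallyOfFinitePresentation f.left) :
    ∃ (i : I) (W₀ : Over S) (f₀ : W₀ ⟶ A.D.obj i) (top : W ⟶ W₀),
      IsPullback top f f₀ (A.c.π.app i) ∧ IsAffine W₀.left ∧ Flat f₀.left ∧
        LocallyOfFinitePresentation f₀.left := by
  let D' := A.D ⋙ Over.forget S
  have : Flat f.left := hfl
  have hlfp : LocallyOfFinitePresentation f.left := hfp
  have hqc : QuasiCompact f.left := inferInstance
  have hqs : QuasiSeparated f.left := inferInstance
  obtain ⟨i, ⟨M⟩⟩ := Groth.SpectralTopology.exists_stageModel (D := D') (c := (Over.forget S).mapCone A.c)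
    A.isLimit (X := W.left) (f := f.left)
  have htr : ∀ (P : MorphismProperty Scheme.{u}) [P.RespectsIso] {i : I}
      (M : Groth.SpectralTopology.StageModel (show W.left ⟶ ((Over.forget S).mapCone A.c).pt from f.left) i),
      P f.left → P (pullback.snd M.hom (((Over.forget S).mapCone A.c).π.app i)) := fun P _ i M h => by
    rw [← M.sq.isoPullback_inv_snd, P.cancel_left_of_respectsIso]
    exact h
  have : CompactSpace M.obj :=
    have : IsAffine (D'.obj i) := A.aff i
    QuasiCompact.compactSpace_of_compactSpace M.hom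
  obtain ⟨j₁, h₁⟩ := Groth.Limits.exists_stage_of_ringDescends @Flat Groth.Limits.ringDescends_flat
    (fun _ _ _ _ => inferInstance) D' _ A.isLimit i M.hom (htr @Flat M hfl)
  let M₁ := M.pull j₁.hom
  have e₁ : Flat M₁.hom := (prop_fst_iff (P := @Flat) _ _).2 h₁
  obtain ⟨j₂, φ₂, h₂⟩ := Groth.Calg2.DescendProps.baseDesc_isAffineHom D' _ A.isLimit M₁.hom
    (htr @IsAffineHom M₁ inferInstance)
  let M₂ := M₁.pull φ₂
  have a₂ : IsAffineHom M₂.hom := (prop_fst_iff (P := @IsAffineHom) _ _).2 h₂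
  refine ⟨j₂, Over.mk (M₂.hom ≫ (A.D.obj j₂).hom), Over.homMk M₂.hom rfl,
    Over.homMk M₂.map (by
      change M₂.map ≫ M₂.hom ≫ (A.D.obj j₂).hom = W.hom
      rw [← Over.w f, ← Category.assoc, M₂.sq.w, Category.assoc]
      exact congrArg (f.left ≫ ·) (Over.w (A.c.π.app j₂))), ?_, ?_, ?_, M₂.lfp⟩
  · exact IsPullback.of_map (Over.forget S) (Over.OverMorphism.ext M₂.sq.w) M₂.sq
  · have : IsAffine (D'.obj j₂) := A.aff j₂
    exact isAffine_of_isAffineHom M₂.hom
  · exact MorphismProperty.pullback_fst (P := @Flat) _ _ e₁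

/-- A covering of the limit comes from a stage. -/
theorem exists_affCover_stage {n : Type u} {U : n → Over S} {u : ∀ a, U a ⟶ A.c.pt}
    (h : IsAffCover U u) :
    ∃ (k : I) (U₀ : n → Over S) (u₀ : ∀ a, U₀ a ⟶ A.D.obj k) (top : ∀ a, U a ⟶ U₀ a),
      IsAffCover U₀ u₀ ∧ ∀ a, IsPullback (top a) (u a) (u₀ a) (A.c.π.app k) := by
  classical
  have := h.finite
  cases nonempty_fintype n
  choose i W₀ f₀ top sq hW₀ hfl hfp using fun a =>
    haveI := h.aff a
    exists_flat_stage A (u a) (h.flat a) (h.lfp a)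
  obtain ⟨k, hk⟩ := IsCofiltered.inf_objs_exists (Finset.univ.image i)
  let φ : ∀ a, k ⟶ i a := fun a => (hk (Finset.mem_image_of_mem i (Finset.mem_univ a))).some
  let U₁ : n → Over S := fun a => pullback (f₀ a) (A.D.map (φ a))
  let u₁ : ∀ a, U₁ a ⟶ A.D.obj k := fun a => pullback.snd _ _
  let top₁ : ∀ a, U a ⟶ U₁ a := fun a => pullback.lift (top a) (u a ≫ A.c.π.app k)
    (by rw [(sq a).w, Category.assoc, A.c.w])
  have sq₁ : ∀ a, IsPullback (top₁ a) (u a) (u₁ a) (A.c.π.app k) := fun a =>
    IsPullback.of_right (by rw [pullback.lift_fst, A.c.w]; exact sq a) (pullback.lift_snd _ _ _)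
      (IsPullback.of_hasPullback (f₀ a) (A.D.map (φ a)))
  have hfl₁ : ∀ a, Flat (u₁ a).left := fun a => MorphismProperty.of_isPullback (P := @Flat)
    ((IsPullback.of_hasPullback (f₀ a) (A.D.map (φ a))).map (Over.forget S)) (hfl a)
  have hfp₁ : ∀ a, LocallyOfFinitePresentation (u₁ a).left := fun a =>
    MorphismProperty.of_isPullback (P := @LocallyOfFinitePresentation)
      ((IsPullback.of_hasPullback (f₀ a) (A.D.map (φ a))).map (Over.forget S)) (hfp a)
  let O : (A.D.obj k).left.Opens := ⟨⋃ a, Set.range (u₁ a).left, isOpen_iUnion fun a => by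
    have := hfl₁ a
    have := hfp₁ a
    exact (isOpenMap_of_flat_lfp (u₁ a).left).isOpen_range⟩
  have hO : (A.c.π.app k).left ⁻¹ᵁ O = ⊤ := by
    refine top_le_iff.1 fun t _ => ?_
    obtain ⟨a, v, rfl⟩ := h.surj t
    refine Set.mem_iUnion.2 ⟨a, (top₁ a).left v, ?_⟩
    exact congrArg (fun m => m.left v) (sq₁ a).w
  have : ∀ j, CompactSpace ((A.D ⋙ Over.forget S).obj j) := fun j =>
    inferInstanceAs (CompactSpace (A.D.obj j).left)
  obtain ⟨l, ψ, hl⟩ := exists_map_eq_top (A.D ⋙ Over.forget S) _ A.isLimit (i := k) O hO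
  let U₂ : n → Over S := fun a => pullback (u₁ a) (A.D.map ψ)
  let top₂ : ∀ a, U a ⟶ U₂ a := fun a => pullback.lift (top₁ a) (u a ≫ A.c.π.app l)
    (by rw [(sq₁ a).w, Category.assoc, A.c.w])
  refine ⟨l, U₂, fun a => pullback.snd _ _, top₂, ⟨inferInstance, fun a => ?_, fun a => ?_, fun a => ?_, fun t => ?_⟩,
    fun a => IsPullback.of_right (by rw [pullback.lift_fst, A.c.w]; exact sq₁ a)
      (pullback.lift_snd _ _ _) (IsPullback.of_hasPullback (u₁ a) (A.D.map ψ))⟩
  · have : IsAffine (W₀ a).left := hW₀ a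
    have : IsAffineHom ((Over.forget S).map (f₀ a)) := inferInstanceAs (IsAffineHom (f₀ a).left)
    have : IsAffineHom ((Over.forget S).map (u₁ a)) := MorphismProperty.of_isPullback (P := @IsAffineHom)
      ((IsPullback.of_hasPullback (f₀ a) (A.D.map (φ a))).map (Over.forget S)) this
    have : IsAffineHom (pullback.snd (u₁ a) (A.D.map ψ)).left :=
      MorphismProperty.of_isPullback (P := @IsAffineHom)
        ((IsPullback.of_hasPullback (u₁ a) (A.D.map ψ)).map (Over.forget S)) this
    exact isAffine_of_isAffineHom (pullback.snd (u₁ a) (A.D.map ψ)).left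
  · exact MorphismProperty.of_isPullback (P := @Flat)
      ((IsPullback.of_hasPullback (u₁ a) (A.D.map ψ)).map (Over.forget S)) (hfl₁ a)
  · exact MorphismProperty.of_isPullback (P := @LocallyOfFinitePresentation)
      ((IsPullback.of_hasPullback (u₁ a) (A.D.map ψ)).map (Over.forget S)) (hfp₁ a)
  · obtain ⟨a, v, hv⟩ := Set.mem_iUnion.1 (hl.ge (Set.mem_univ t))
    obtain ⟨z, -, hz⟩ := Scheme.exists_preimage_of_isPullback
      ((IsPullback.of_hasPullback (u₁ a) (A.D.map ψ)).map (Over.forget S)) v t hv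
    exact ⟨a, z, hz⟩

end Groth.SpLimit
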