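import Groth.Agent.SpLimit.GroupAlgClosed

/-!
# The group of points of a group space over a field, and translations
-/

set_option autoImplicit false
set_option backward.isDefEq.respectTransparency false
set_option backward.isDefEq.respectTransparency.types false

universe u

open CategoryTheory CategoryTheory.Limits AlgebraicGeometry Opposite AlgSp MonoidalCategory MonObj
open Groth.AlgSpBasic

noncomputable section

namespace Groth.SpLimit

variable {k : Type u} [Field k] (G : Over ((yon (kSpec k)).obj (Over.mk (𝟙 (kSpec k))))) [GrpObj G]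

/-- A space over the base. -/
def ptOver (Y : Sp (kSpec k)) : Over ((yon (kSpec k)).obj (Over.mk (𝟙 (kSpec k)))) :=
  Over.mk ((IsTerminal.isTerminalObj (yon (kSpec k)) _ Over.mkIdTerminal).from Y)

variable {G}

/-- A point as a morphism over the base. -/
def ptHom {Y : Sp (kSpec k)} (a : Y ⟶ G.left) : ptOver Y ⟶ G :=
  Over.homMk a ((IsTerminal.isTerminalObj (yon (kSpec k)) _ Over.mkIdTerminal).hom_ext _ _)

omit [GrpObj G] in
theorem ptHom_left {Y : Sp (kSpec k)} (a : Y ⟶ G.left) : (ptHom a).left = a := rfl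

omit [GrpObj G] in
theorem ptHom_eta {Y : Sp (kSpec k)} (p : ptOver Y ⟶ G) : ptHom p.left = p :=
  Over.OverMorphism.ext rfl

/-- The product of two points. -/
def mulP {Y : Sp (kSpec k)} (a b : Y ⟶ G.left) : Y ⟶ G.left := (ptHom a * ptHom b).left

/-- The inverse of a point. -/
def invP {Y : Sp (kSpec k)} (a : Y ⟶ G.left) : Y ⟶ G.left := (ptHom a)⁻¹.left

theorem mulP_assoc {Y : Sp (kSpec k)} (a b c : Y ⟶ G.left) :
    mulP (mulP a b) c = mulP a (mulP b c) := by
  simp only [mulP, ptHom_eta, _root_.mul_assoc]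

theorem comp_mulP {Z Y : Sp (kSpec k)} (f : Z ⟶ Y) (a b : Y ⟶ G.left) :
    f ≫ mulP a b = mulP (f ≫ a) (f ≫ b) :=
  congrArg CommaMorphism.left (MonObj.comp_mul (M := G)
    (Over.homMk f ((IsTerminal.isTerminalObj (yon (kSpec k)) _ Over.mkIdTerminal).hom_ext _ _) :
      ptOver Z ⟶ ptOver Y) (ptHom a) (ptHom b))

theorem mulP_mulP_invP {Y : Sp (kSpec k)} (a b : Y ⟶ G.left) :
    mulP (mulP a b) (invP b) = a := by
  simp only [mulP, invP, ptHom_eta, mul_inv_cancel_right]
  rfl

theorem mulP_invP_mulP {Y : Sp (kSpec k)} (a b : Y ⟶ G.left) :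
    mulP (mulP a (invP b)) b = a := by
  simp only [mulP, invP, ptHom_eta, inv_mul_cancel_right]
  rfl

theorem invP_mulP_mulP {Y : Sp (kSpec k)} (a b : Y ⟶ G.left) :
    mulP (invP b) (mulP b a) = a := by
  simp only [mulP, invP, ptHom_eta, inv_mul_cancel_left]
  rfl

theorem mulP_mulP_invP_left {Y : Sp (kSpec k)} (a b : Y ⟶ G.left) :
    mulP b (mulP (invP b) a) = a := by
  simp only [mulP, invP, ptHom_eta, mul_inv_cancel_left]
  rfl

theorem comp_invP {Z Y : Sp (kSpec k)} (f : Z ⟶ Y) (a : Y ⟶ G.left) :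
    f ≫ invP a = invP (f ≫ a) :=
  congrArg CommaMorphism.left (GrpObj.comp_inv (G := G)
    (Over.homMk f ((IsTerminal.isTerminalObj (yon (kSpec k)) _ Over.mkIdTerminal).hom_ext _ _) :
      ptOver Z ⟶ ptOver Y) (ptHom a))

/-- Right translation by a rational point of a base change. -/
theorem exists_translation_right {Y : Sp (kSpec k)} (c : Y ⟶ G.left) :
    ∃ σ : G.left ⨯ Y ≅ G.left ⨯ Y, σ.hom ≫ prod.snd = prod.snd ∧
      σ.hom ≫ prod.fst = mulP prod.fst (prod.snd ≫ c) := by
  refine ⟨⟨prod.lift (mulP prod.fst (prod.snd ≫ c)) prod.snd,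
    prod.lift (mulP prod.fst (prod.snd ≫ invP c)) prod.snd, ?_, ?_⟩, prod.lift_snd _ _, prod.lift_fst _ _⟩
  · apply prod.hom_ext
    · rw [Category.assoc, prod.lift_fst, comp_mulP, prod.lift_fst, ← Category.assoc, prod.lift_snd,
        comp_invP, mulP_mulP_invP, Category.id_comp]
    · rw [Category.assoc, prod.lift_snd, prod.lift_snd, Category.id_comp]
  · apply prod.hom_ext
    · rw [Category.assoc, prod.lift_fst, comp_mulP, prod.lift_fst, ← Category.assoc, prod.lift_snd,
        comp_invP, mulP_invP_mulP, Category.id_comp]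
    · rw [Category.assoc, prod.lift_snd, prod.lift_snd, Category.id_comp]

/-- Left translation by a rational point of a base change. -/
theorem exists_translation_left {Y : Sp (kSpec k)} (c : Y ⟶ G.left) :
    ∃ σ : G.left ⨯ Y ≅ G.left ⨯ Y, σ.hom ≫ prod.snd = prod.snd ∧
      σ.hom ≫ prod.fst = mulP (prod.snd ≫ c) prod.fst := by
  refine ⟨⟨prod.lift (mulP (prod.snd ≫ c) prod.fst) prod.snd,
    prod.lift (mulP (prod.snd ≫ invP c) prod.fst) prod.snd, ?_, ?_⟩, prod.lift_snd _ _, prod.lift_fst _ _⟩
  · apply prod.hom_ext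
    · rw [Category.assoc, prod.lift_fst, comp_mulP, prod.lift_fst, ← Category.assoc, prod.lift_snd,
        comp_invP, invP_mulP_mulP, Category.id_comp]
    · rw [Category.assoc, prod.lift_snd, prod.lift_snd, Category.id_comp]
  · apply prod.hom_ext
    · rw [Category.assoc, prod.lift_fst, comp_mulP, prod.lift_fst, ← Category.assoc, prod.lift_snd,
        comp_invP, mulP_mulP_invP_left, Category.id_comp]
    · rw [Category.assoc, prod.lift_snd, prod.lift_snd, Category.id_comp]

end Groth.SpLimit
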