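import Groth.Agent.SpLimit.FppfAffCover
import Groth.Agent.SpLimit.RelLimit
import Mathlib.CategoryTheory.Sites.LocallySurjective

/-!
# Sections of sheaves over limits of affine schemes, locally
-/

set_option autoImplicit false
set_option backward.isDefEq.respectTransparency false
set_option backward.isDefEq.respectTransparency.types false

universe u

open CategoryTheory CategoryTheory.Limits AlgebraicGeometry Opposite AlgSp

noncomputable section

namespace Groth.SpLimit

variable {S : Scheme.{u}} {I : Type u} [SmallCategory I] [IsCofiltered I] (A : AffSys S I)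

theorem exists_lower {C : Type u} [SmallCategory C] [IsCofiltered C] {n : Type u} [Finite n] (f : n → C) :
    ∃ j : C, ∀ p, Nonempty (j ⟶ f p) := by
  classical
  cases nonempty_fintype n
  obtain ⟨j, hj⟩ := IsCofiltered.inf_objs_exists (Finset.univ.image f)
  exact ⟨j, fun p => hj (Finset.mem_image_of_mem f (Finset.mem_univ p))⟩

/-- Two sections at a stage agree at a later stage. -/
def EqAt (F : PSp S) (i : I) (x₁ x₂ : F.obj (op (A.D.obj i))) : Prop :=
  ∃ (j : I) (φ : j ⟶ i), F.map (A.D.map φ).op x₁ = F.map (A.D.map φ).op x₂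

/-- A section over the limit lifts over a section at a stage. -/
def LiftAt {F G : PSp S} (a : F ⟶ G) (i : I) (y : G.obj (op (A.D.obj i))) (x : F.obj (op A.c.pt)) : Prop :=
  ∃ (j : I) (φ : j ⟶ i) (x' : F.obj (op (A.D.obj j))),
    F.map (A.c.π.app j).op x' = x ∧ a.app _ x' = G.map (A.D.map φ).op y

section Pull

variable (i : I) {W : Over S} (f : W ⟶ A.D.obj i) [IsAffine W.left]

/-- The projection of a pulled system to the system. -/
abbrev stageFst (k : Over i) : (A.pull i f).D.obj k ⟶ A.D.obj k.left := pullback.fst _ _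

/-- The projection of a pulled system to its base. -/
abbrev stageSnd (k : Over i) : (A.pull i f).D.obj k ⟶ W := pullback.snd _ _

/-- The projection of the limit of a pulled system to the limit. -/
abbrev limFst : (A.pull i f).c.pt ⟶ A.c.pt := pullback.fst _ _

/-- The projection of the limit of a pulled system to its base. -/
abbrev limSnd : (A.pull i f).c.pt ⟶ W := pullback.snd _ _

theorem map_stageFst {k l : Over i} (m : k ⟶ l) :
    (A.pull i f).D.map m ≫ stageFst A i f l = stageFst A i f k ≫ A.D.map m.left :=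
  pullback.lift_fst _ _ _

theorem map_stageSnd {k l : Over i} (m : k ⟶ l) :
    (A.pull i f).D.map m ≫ stageSnd A i f l = stageSnd A i f k :=
  pullback.lift_snd _ _ _

theorem π_stageFst (k : Over i) :
    (A.pull i f).c.π.app k ≫ stageFst A i f k = limFst A i f ≫ A.c.π.app k.left :=
  pullback.lift_fst _ _ _

theorem π_stageSnd (k : Over i) :
    (A.pull i f).c.π.app k ≫ stageSnd A i f k = limSnd A i f :=
  pullback.lift_snd _ _ _

theorem stageFst_self :
    stageFst A i f (Over.mk (𝟙 i)) = stageSnd A i f (Over.mk (𝟙 i)) ≫ f := by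
  refine Eq.trans ?_ pullback.condition
  refine (Category.comp_id _).symm.trans ?_
  exact congrArg (stageFst A i f (Over.mk (𝟙 i)) ≫ ·) (A.D.map_id i).symm

end Pull

variable {F G : PSp S}

/-- Equality at a later stage is local. -/
theorem eqAt_of_cover (hF : Presheaf.IsSheaf (J S) F) {i : I} {n : Type u} {U : n → Over S}
    {u : ∀ p, U p ⟶ A.D.obj i} (hU : IsAffCover U u) (x₁ x₂ : F.obj (op (A.D.obj i)))
    (h : ∀ p, haveI := hU.aff p
      EqAt (A.pull i (u p)) F (Over.mk (𝟙 i)) (F.map (stageFst A i (u p) (Over.mk (𝟙 i))).op x₁)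
        (F.map (stageFst A i (u p) (Over.mk (𝟙 i))).op x₂)) :
    EqAt A F i x₁ x₂ := by
  have := hU.finite
  have := hU.aff
  choose m φ hm using h
  obtain ⟨j, hj⟩ := exists_lower m
  refine ⟨j.left, j.hom, (hU.pullback (A.D.map j.hom)).sect_ext hF fun p => ?_⟩
  obtain ⟨μ⟩ := hj p
  have e : ((A.pull i (u p)).D.map μ ≫ (A.pull i (u p)).D.map (φ p)) ≫
      stageFst A i (u p) (Over.mk (𝟙 i)) = stageFst A i (u p) j ≫ A.D.map j.hom := by
    rw [← Functor.map_comp, map_stageFst]
    exact congrArg (fun α => stageFst A i (u p) j ≫ A.D.map α)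
      ((Category.comp_id _).symm.trans (Over.w (μ ≫ φ p)))
  have h' := congrArg (F.map ((A.pull i (u p)).D.map μ).op) (hm p)
  simp only [map_map_apply] at h'
  rw [← Category.assoc, e] at h'
  rw [map_map_apply, map_map_apply]
  exact h'

/-- Lifting to a later stage is local, for sheaves with equality at stages. -/
theorem liftAt_of_cover (hF : Presheaf.IsSheaf (J S) F) (hG : Presheaf.IsSheaf (J S) G) {a : F ⟶ G}
    (ha : EqStage a) {i : I} {n : Type u} {U : n → Over S} {u : ∀ p, U p ⟶ A.D.obj i}
    (hU : IsAffCover U u) (y : G.obj (op (A.D.obj i))) (x : F.obj (op A.c.pt))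
    (h : ∀ p, haveI := hU.aff p
      LiftAt (A.pull i (u p)) a (Over.mk (𝟙 i)) (G.map (stageFst A i (u p) (Over.mk (𝟙 i))).op y)
        (F.map (limFst A i (u p)).op x)) :
    LiftAt A a i y x := by
  have := hU.finite
  have := hU.aff
  choose m φ z hz hzy using h
  obtain ⟨j, hj⟩ := exists_lower m
  let μ := fun p => (hj p).some
  obtain ⟨x₁, hx₁, hy₁⟩ : ∃ x₁ : ∀ p, F.obj (op ((A.pull i (u p)).D.obj j)),
      (∀ p, F.map ((A.pull i (u p)).c.π.app j).op (x₁ p) = F.map (limFst A i (u p)).op x) ∧
      ∀ p, a.app _ (x₁ p) = G.map (stageFst A i (u p) j ≫ A.D.map j.hom).op y := by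
    refine ⟨fun p => F.map ((A.pull i (u p)).D.map (μ p)).op (z p),
      fun p => (map_congr F ((A.pull i (u p)).c.w (μ p)) (z p)).trans (hz p), fun p => ?_⟩
    refine (app_map_apply a _ _).trans ((congrArg _ (hzy p)).trans ?_)
    rw [map_map_apply, map_map_apply]
    refine congrArg (fun e => G.map (Quiver.Hom.op e) y) ?_
    rw [← Functor.map_comp, map_stageFst]
    exact congrArg (fun α => stageFst A i (u p) j ≫ A.D.map α)
      ((Category.comp_id _).symm.trans (Over.w (μ p ≫ φ p)))
  -- agreement on the overlaps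
  let P : n × n → Over S := fun pq => Limits.pullback (stageFst A i (u pq.1) j) (stageFst A i (u pq.2) j)
  let g : ∀ pq, P pq ⟶ A.D.obj j.left := fun pq => pullback.fst _ _ ≫ stageFst A i (u pq.1) j
  have hUj := hU.pullback (A.D.map j.hom)
  have hPa : ∀ pq, IsAffine (P pq).left := fun pq => by
    have hsq := (IsPullback.of_hasPullback (stageFst A i (u pq.1) j) (stageFst A i (u pq.2) j)).map (Over.forget S)
    have : IsAffine ((A.pull i (u pq.1)).D.obj j).left := (A.pull i (u pq.1)).aff j
    have : IsAffine ((A.pull i (u pq.2)).D.obj j).left := (A.pull i (u pq.2)).aff j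
    have : IsAffineHom ((Over.forget S).map (stageFst A i (u pq.2) j)) :=
      inferInstanceAs (IsAffineHom (stageFst A i (u pq.2) j).left)
    have : IsAffineHom (pullback.fst (stageFst A i (u pq.1) j) (stageFst A i (u pq.2) j)).left :=
      MorphismProperty.of_isPullback (P := @IsAffineHom) hsq.flip this
    exact isAffine_of_isAffineHom (pullback.fst (stageFst A i (u pq.1) j) (stageFst A i (u pq.2) j)).left
  have hPQ : ∀ pq, EqAt (A.pull j.left (g pq)) F (Over.mk (𝟙 j.left))
      (F.map (stageSnd A j.left (g pq) _ ≫ pullback.fst _ _).op (x₁ pq.1))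
      (F.map (stageSnd A j.left (g pq) _ ≫ pullback.snd _ _).op (x₁ pq.2)) := fun pq => by
    refine ha (A.pull j.left (g pq)) _ _ _ ?_ ?_
    · rw [app_map_apply, app_map_apply, hy₁, hy₁, map_map_apply, map_map_apply]
      refine congrArg (fun e => G.map (Quiver.Hom.op e) y) ?_
      simp only [Category.assoc]
      have hc : pullback.fst (stageFst A i (u pq.1) j) (stageFst A i (u pq.2) j) ≫ stageFst A i (u pq.1) j =
        pullback.snd _ _ ≫ stageFst A i (u pq.2) j := pullback.condition
      rw [reassoc_of% hc]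
    · rw [map_map_apply, map_map_apply]
      have key : ∀ (p : n) (r : P pq ⟶ (A.pull i (u p)).D.obj j), r ≫ stageFst A i (u p) j = g pq →
          F.map ((A.pull j.left (g pq)).c.π.app (Over.mk (𝟙 j.left)) ≫
            stageSnd A j.left (g pq) _ ≫ r).op (x₁ p) = F.map (limFst A j.left (g pq)).op x := fun p r hr => by
        let σ : (A.pull j.left (g pq)).c.pt ⟶ (A.pull i (u p)).c.pt :=
          pullback.lift (limFst A j.left (g pq)) (limSnd A j.left (g pq) ≫ r ≫ stageSnd A i (u p) j) (by
            have hc : limFst A j.left (g pq) ≫ A.c.π.app j.left = limSnd A j.left (g pq) ≫ g pq :=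
              pullback.condition
            have hc' : stageFst A i (u p) j ≫ A.D.map j.hom = stageSnd A i (u p) j ≫ u p :=
              pullback.condition
            refine Eq.trans (congrArg (limFst A j.left (g pq) ≫ ·) (A.c.w j.hom).symm) ?_
            rw [reassoc_of% hc, ← hr]
            simp only [Category.assoc, hc'])
        have hσ : σ ≫ (A.pull i (u p)).c.π.app j =
            (A.pull j.left (g pq)).c.π.app (Over.mk (𝟙 j.left)) ≫ stageSnd A j.left (g pq) _ ≫ r := by
          rw [reassoc_of% (π_stageSnd A j.left (g pq) (Over.mk (𝟙 j.left)))]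
          apply pullback.hom_ext
          · show (σ ≫ _) ≫ stageFst A i (u p) j = (_ ≫ r) ≫ stageFst A i (u p) j
            rw [Category.assoc, π_stageFst, Category.assoc, hr]
            erw [pullback.lift_fst_assoc]
            exact pullback.condition
          · show (σ ≫ _) ≫ stageSnd A i (u p) j = (_ ≫ r) ≫ stageSnd A i (u p) j
            rw [Category.assoc, π_stageSnd, Category.assoc]
            exact pullback.lift_snd _ _ _
        rw [← hσ, ← map_map_apply]
        refine (congrArg (F.map σ.op) (hx₁ p)).trans ((map_map_apply F σ _ x).trans ?_)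
        exact congrArg (fun e => F.map (Quiver.Hom.op e) x) (pullback.lift_fst _ _ _)
      exact (key pq.1 _ rfl).trans (key pq.2 _ pullback.condition.symm).symm
  choose m₂ φ₂ hm₂ using hPQ
  obtain ⟨j₂, hj₂⟩ := exists_lower m₂
  let k : Over i := Over.mk (j₂.hom ≫ j.hom)
  let ν : k ⟶ j := Over.homMk j₂.hom
  let x₂ : ∀ p, F.obj (op ((A.pull i (u p)).D.obj k)) := fun p => F.map ((A.pull i (u p)).D.map ν).op (x₁ p)
  have hUk := hU.pullback (A.D.map k.hom)
  obtain ⟨x', hx'⟩ := hUk.exists_glue hF x₂ fun p q => by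
    obtain ⟨κ⟩ := hj₂ (p, q)
    let T := Limits.pullback (stageFst A i (u p) k) (stageFst A i (u q) k)
    let t₁ : T ⟶ (A.pull i (u p)).D.obj k := pullback.fst _ _
    let t₂ : T ⟶ (A.pull i (u q)).D.obj k := pullback.snd _ _
    let tP : T ⟶ P (p, q) := pullback.lift (t₁ ≫ (A.pull i (u p)).D.map ν) (t₂ ≫ (A.pull i (u q)).D.map ν) (by
      have hc : t₁ ≫ stageFst A i (u p) k = t₂ ≫ stageFst A i (u q) k := pullback.condition
      simp only [Category.assoc, map_stageFst]
      rw [reassoc_of% hc])
    let tC : T ⟶ (A.pull j.left (g (p, q))).D.obj j₂ := pullback.lift (t₁ ≫ stageFst A i (u p) k) tP (by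
      show (t₁ ≫ stageFst A i (u p) k) ≫ A.D.map j₂.hom = tP ≫ pullback.fst _ _ ≫ stageFst A i (u p) j
      rw [← Category.assoc, pullback.lift_fst, Category.assoc, Category.assoc, map_stageFst]
      rfl)
    have h' := congrArg (F.map (tC ≫ (A.pull j.left (g (p, q))).D.map κ).op) (hm₂ (p, q))
    simp only [map_map_apply, Category.assoc] at h'
    have es : tC ≫ (A.pull j.left (g (p, q))).D.map κ ≫ (A.pull j.left (g (p, q))).D.map (φ₂ (p, q)) ≫
        stageSnd A j.left (g (p, q)) (Over.mk (𝟙 j.left)) = tP := by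
      rw [← Functor.map_comp_assoc, map_stageSnd]
      exact pullback.lift_snd _ _ _
    rw [reassoc_of% es, reassoc_of% es, pullback.lift_fst, pullback.lift_snd] at h'
    show F.map t₁.op (x₂ p) = F.map t₂.op (x₂ q)
    simp only [x₂, map_map_apply]
    exact h'
  refine ⟨k.left, k.hom, x', ?_, ?_⟩
  · have hUpt : IsAffCover (fun p => (A.pull i (u p)).c.pt) (fun p => limFst A i (u p)) :=
      have : IsAffine A.c.pt.left := A.affPt
      hU.pullback (A.c.π.app i)
    refine hUpt.sect_ext hF fun p => ?_
    refine (map_congr F (π_stageFst A i (u p) k).symm x').trans ((map_map_apply F _ _ x').symm.trans ?_)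
    refine (congrArg _ (hx' p)).trans ?_
    simp only [x₂, map_map_apply]
    rw [(A.pull i (u p)).c.w ν]
    exact hx₁ p
  · refine hUk.sect_ext hG fun p => ?_
    rw [← app_map_apply, hx' p, map_map_apply]
    refine (app_map_apply a _ _).trans ((congrArg _ (hy₁ p)).trans ?_)
    rw [map_map_apply]
    refine congrArg (fun e => G.map (Quiver.Hom.op e) y) ?_
    rw [← Category.assoc, map_stageFst, Category.assoc, ← A.D.map_comp]
    rfl

end Groth.SpLimit
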