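import Groth.Agent.SpLimit.MonoEventual

/-!
# Systems of pairs: self fibre products along a map of systems
-/

set_option autoImplicit false
set_option backward.isDefEq.respectTransparency false
set_option backward.isDefEq.respectTransparency.types false

universe u

open CategoryTheory CategoryTheory.Limits AlgebraicGeometry Opposite AlgSp
open Groth.AlgSpBasic

noncomputable section

namespace Groth.SpLimit

section

variable {C : Type*} [Category C] [HasPullbacks C] {J : Type u} [SmallCategory J]
  {E F G : J ⥤ C} (a : E ⟶ F) (b : F ⟶ G)

/-- Pairs of points with the same image, as a system. -/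
def pairSys : J ⥤ C where
  obj k := pullback (a.app k) (a.app k)
  map {k l} m := pullback.map _ _ _ _ (E.map m) (E.map m) (F.map m) (a.naturality m).symm (a.naturality m).symm
  map_id k := by apply pullback.hom_ext <;> simp [pullback.map]
  map_comp m m' := by apply pullback.hom_ext <;> simp [pullback.map]

variable {cE : Cone E} {cF : Cone F} {g : cE.pt ⟶ cF.pt} (hg : ∀ k, g ≫ cF.π.app k = cE.π.app k ≫ a.app k)

/-- The cone on pairs given by pairs over the limit. -/
def pairCone : Cone (pairSys a) where
  pt := pullback g g
  π :=
    { app := fun k => pullback.map _ _ _ _ (cE.π.app k) (cE.π.app k) (cF.π.app k) (hg k) (hg k)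
      naturality := fun k l m => by
        show 𝟙 _ ≫ _ = _
        rw [Category.id_comp]
        apply pullback.hom_ext <;> simp [pairSys, pullback.map] }

/-- Pairs over the limit form the limit of the pairs over the stages. -/
theorem nonempty_isLimit_pairCone (hE : IsLimit cE) (hF : IsLimit cF) :
    Nonempty (IsLimit (pairCone a hg)) := by
  let u (s : Cone (pairSys a)) : Cone E :=
    { pt := s.pt
      π :=
        { app := fun k => s.π.app k ≫ pullback.fst (a.app k) (a.app k)
          naturality := fun k l m => by
            show 𝟙 _ ≫ _ = _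
            rw [Category.id_comp, ← s.w m]
            simp [pairSys, pullback.map] } }
  let w (s : Cone (pairSys a)) : Cone E :=
    { pt := s.pt
      π :=
        { app := fun k => s.π.app k ≫ pullback.snd (a.app k) (a.app k)
          naturality := fun k l m => by
            show 𝟙 _ ≫ _ = _
            rw [Category.id_comp, ← s.w m]
            simp [pairSys, pullback.map] } }
  have hu : ∀ s k, hE.lift (u s) ≫ cE.π.app k = s.π.app k ≫ pullback.fst (a.app k) (a.app k) :=
    fun s k => hE.fac (u s) k
  have hw : ∀ s k, hE.lift (w s) ≫ cE.π.app k = s.π.app k ≫ pullback.snd (a.app k) (a.app k) :=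
    fun s k => hE.fac (w s) k
  have hc : ∀ s, hE.lift (u s) ≫ g = hE.lift (w s) ≫ g := fun s => hF.hom_ext fun k => by
    rw [Category.assoc, Category.assoc, hg, reassoc_of% hu s k, reassoc_of% hw s k]
    exact congrArg (s.π.app k ≫ ·) pullback.condition
  exact ⟨{
    lift := fun s => pullback.lift (hE.lift (u s)) (hE.lift (w s)) (hc s)
    fac := fun s k => by
      apply pullback.hom_ext
      · simp only [pairCone, pullback.map, Category.assoc, pullback.lift_fst, pullback.lift_fst_assoc, hu]
      · simp only [pairCone, pullback.map, Category.assoc, pullback.lift_snd, pullback.lift_snd_assoc, hw]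
    uniq := fun s m hm => by
      apply pullback.hom_ext <;> apply hE.hom_ext <;> intro k
      · rw [Category.assoc, pullback.lift_fst, hu, ← hm k]
        simp [pairCone, pullback.map]
      · rw [Category.assoc, pullback.lift_snd, hw, ← hm k]
        simp [pairCone, pullback.map] }⟩

variable (c : E ⟶ G) (hc : ∀ k, a.app k ≫ b.app k = c.app k)

/-- Pairs with the same image map to pairs with the same composed image. -/
def pairMap : pairSys a ⟶ pairSys c where
  app k := pullback.map (a.app k) (a.app k) (c.app k) (c.app k) (𝟙 _) (𝟙 _) (b.app k)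
    (by rw [hc, Category.id_comp]) (by rw [hc, Category.id_comp])
  naturality k l m := by
    apply pullback.hom_ext <;> simp [pairSys, pullback.map]

theorem pairMap_app_fst (k : J) :
    (pairMap a b c hc).app k ≫ pullback.fst (c.app k) (c.app k) = pullback.fst (a.app k) (a.app k) := by
  simp [pairMap, pullback.map]

theorem pairMap_app_snd (k : J) :
    (pairMap a b c hc).app k ≫ pullback.snd (c.app k) (c.app k) = pullback.snd (a.app k) (a.app k) := by
  simp [pairMap, pullback.map]

theorem pairSys_map_fst {k l : J} (m : l ⟶ k) :
    (pairSys a).map m ≫ pullback.fst (a.app k) (a.app k) = pullback.fst (a.app l) (a.app l) ≫ E.map m := by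
  simp [pairSys, pullback.map]

theorem pairSys_map_snd {k l : J} (m : l ⟶ k) :
    (pairSys a).map m ≫ pullback.snd (a.app k) (a.app k) = pullback.snd (a.app l) (a.app l) ≫ E.map m := by
  simp [pairSys, pullback.map]

/-- The fibre product of the pairs at an earlier stage with the composed pairs at a later one. -/
theorem exists_isPullback_pairMap {k l : J} (m : l ⟶ k) [Mono (G.map m)] :
    ∃ (fst : pullback (a.app l ≫ F.map m) (a.app l ≫ F.map m) ⟶ (pairSys a).obj k)
      (snd : pullback (a.app l ≫ F.map m) (a.app l ≫ F.map m) ⟶ (pairSys c).obj l),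
      IsPullback fst snd ((pairMap a b c hc).app k) ((pairSys c).map m) ∧
        pullback.mapDesc (a.app l) (a.app l) (F.map m) ≫ fst = (pairSys a).map m ∧
        pullback.mapDesc (a.app l) (a.app l) (F.map m) ≫ snd = (pairMap a b c hc).app l := by
  let Q := pullback (a.app l ≫ F.map m) (a.app l ≫ F.map m)
  let f₁ : Q ⟶ E.obj l := pullback.fst _ _
  let f₂ : Q ⟶ E.obj l := pullback.snd _ _
  have e₁ : (f₁ ≫ E.map m) ≫ a.app k = (f₂ ≫ E.map m) ≫ a.app k := by
    rw [Category.assoc, Category.assoc, a.naturality]
    exact pullback.condition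
  have e₂ : f₁ ≫ c.app l = f₂ ≫ c.app l := by
    rw [← cancel_mono (G.map m)]
    have h : ∀ x : Q ⟶ E.obj l, (x ≫ c.app l) ≫ G.map m = (x ≫ a.app l ≫ F.map m) ≫ b.app k := fun x => by
      simp [← hc]
    rw [h, h]
    exact congrArg (· ≫ b.app k) pullback.condition
  refine ⟨pullback.lift _ _ e₁, pullback.lift f₁ f₂ e₂, ⟨⟨?_⟩, ⟨PullbackCone.IsLimit.mk _
    (fun s => pullback.lift (s.snd ≫ pullback.fst (c.app l) (c.app l))
      (s.snd ≫ pullback.snd (c.app l) (c.app l)) ?_) (fun s => ?_) (fun s => ?_) (fun s n h₁ h₂ => ?_)⟩⟩, ?_, ?_⟩
  · apply pullback.hom_ext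
    · rw [Category.assoc, pairMap_app_fst, pullback.lift_fst, Category.assoc, pairSys_map_fst,
        pullback.lift_fst_assoc]
    · rw [Category.assoc, pairMap_app_snd, pullback.lift_snd, Category.assoc, pairSys_map_snd,
        pullback.lift_snd_assoc]
  · have c₁ := s.condition =≫ pullback.fst (c.app k) (c.app k)
    have c₂ := s.condition =≫ pullback.snd (c.app k) (c.app k)
    erw [Category.assoc, Category.assoc, pairMap_app_fst, pairSys_map_fst] at c₁
    erw [Category.assoc, Category.assoc, pairMap_app_snd, pairSys_map_snd] at c₂
    simp only [Category.assoc]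
    rw [← a.naturality, ← reassoc_of% c₁, ← reassoc_of% c₂]
    exact congrArg (s.fst ≫ ·) pullback.condition
  · have c₁ := s.condition =≫ pullback.fst (c.app k) (c.app k)
    have c₂ := s.condition =≫ pullback.snd (c.app k) (c.app k)
    erw [Category.assoc, Category.assoc, pairMap_app_fst, pairSys_map_fst] at c₁
    erw [Category.assoc, Category.assoc, pairMap_app_snd, pairSys_map_snd] at c₂
    apply pullback.hom_ext
    · rw [Category.assoc, pullback.lift_fst]
      exact (pullback.lift_fst_assoc _ _ _ _).trans ((Category.assoc _ _ _).trans c₁.symm)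
    · rw [Category.assoc, pullback.lift_snd]
      exact (pullback.lift_snd_assoc _ _ _ _).trans ((Category.assoc _ _ _).trans c₂.symm)
  · apply pullback.hom_ext
    · rw [Category.assoc, pullback.lift_fst]; exact pullback.lift_fst _ _ _
    · rw [Category.assoc, pullback.lift_snd]; exact pullback.lift_snd _ _ _
  · apply pullback.hom_ext
    · rw [pullback.lift_fst, ← h₂, Category.assoc, pullback.lift_fst]
    · rw [pullback.lift_snd, ← h₂, Category.assoc, pullback.lift_snd]
  · apply pullback.hom_ext <;> simp [f₁, f₂, pairSys, pullback.map, pullback.mapDesc]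
  · apply pullback.hom_ext <;> simp [f₁, f₂, pairMap, pullback.map, pullback.mapDesc]

end

end Groth.SpLimit
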