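import Groth.Agent.SpLimit.LocalStage
import Mathlib.CategoryTheory.Sites.LocallyInjective

/-!
# Limit preservation passes to locally bijective sheaves
-/

set_option autoImplicit false
set_option backward.isDefEq.respectTransparency false
set_option backward.isDefEq.respectTransparency.types false

universe u

open CategoryTheory CategoryTheory.Limits AlgebraicGeometry Opposite AlgSp

noncomputable section

namespace Groth.SpLimit

variable {S : Scheme.{u}} {F G F' G' : PSp S} {a : F ⟶ G} {a' : F' ⟶ G'} {η : F ⟶ F'} {θ : G ⟶ G'}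
  [Presheaf.IsLocallyInjective (J S) η] [Presheaf.IsLocallySurjective (J S) η]
  [Presheaf.IsLocallyInjective (J S) θ]
  (hF : Presheaf.IsSheaf (J S) F') (sq : η ≫ a' = a ≫ θ) (ha : EqStage a)

variable {I : Type u} [SmallCategory I] [IsCofiltered I] (A : AffSys S I)

omit [Presheaf.IsLocallyInjective (J S) η] [Presheaf.IsLocallySurjective (J S) η]
  [Presheaf.IsLocallyInjective (J S) θ] in
include sq in
theorem square_apply {T : (Over S)ᵒᵖ} (x : F.obj T) :
    a'.app T (η.app T x) = θ.app T (a.app T x) :=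
  ConcreteCategory.congr_hom (congr_app sq T) x

omit [Presheaf.IsLocallyInjective (J S) η] [Presheaf.IsLocallySurjective (J S) η]
  [Presheaf.IsLocallyInjective (J S) θ] in
theorem eqAt_of_above {H : PSp S} {k : I} {l : Over k} {x₁ x₂ : H.obj (op (A.D.obj k))}
    (h : EqAt (A.above k) H l (H.map (A.D.map l.hom).op x₁) (H.map (A.D.map l.hom).op x₂)) :
    EqAt A H k x₁ x₂ := by
  obtain ⟨j, φ, hj⟩ := h
  refine ⟨j.left, φ.left ≫ l.hom, ?_⟩
  rw [A.D.map_comp, ← map_map_apply, ← map_map_apply]
  exact hj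

omit [Presheaf.IsLocallySurjective (J S) η] [Presheaf.IsLocallyInjective (J S) θ] in
include hF ha in
/-- Sections of the presheaf, equal in the sheaf over the limit, are equal in the sheaf at a stage. -/
theorem eqAt_app {k : I} (x₁ x₂ : F.obj (op (A.D.obj k))) (h : a.app _ x₁ = a.app _ x₂)
    (he : η.app _ (F.map (A.c.π.app k).op x₁) = η.app _ (F.map (A.c.π.app k).op x₂)) :
    EqAt A F' k (η.app _ x₁) (η.app _ x₂) := by
  have : CompactSpace A.c.pt.left := have := A.affPt; inferInstance
  obtain ⟨n, V, v, hV, hVe⟩ := exists_affCover_of_mem (Presheaf.equalizerSieve_mem (J S) η _ _ he)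
  obtain ⟨l, V₀, v₀, top, hV₀, sqV⟩ := exists_affCover_stage (A.above k) hV
  refine eqAt_of_above A (eqAt_of_cover (A.above k) hF hV₀ _ _ fun p => ?_)
  have := hV₀.aff p
  let C := (A.above k).pull l (v₀ p)
  let f₀ : C.D.obj (Over.mk (𝟙 l)) ⟶ A.D.obj k :=
    stageFst (A.above k) l (v₀ p) (Over.mk (𝟙 l)) ≫ A.D.map l.hom
  have hf₀ : C.c.π.app (Over.mk (𝟙 l)) ≫ f₀ = limFst (A.above k) l (v₀ p) ≫ A.c.π.app k := by
    show _ ≫ stageFst (A.above k) l (v₀ p) (Over.mk (𝟙 l)) ≫ A.D.map l.hom = _
    rw [← Category.assoc, π_stageFst, Category.assoc]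
    exact congrArg (limFst (A.above k) l (v₀ p) ≫ ·) (A.c.w l.hom)
  obtain ⟨τ, hτ⟩ : ∃ τ : C.c.pt ⟶ V p, τ ≫ v p = limFst (A.above k) l (v₀ p) :=
    ⟨(sqV p).flip.isoPullback.inv, (sqV p).flip.isoPullback_inv_fst⟩
  obtain ⟨m, φ, hm⟩ := ha C (Over.mk (𝟙 l)) (F.map f₀.op x₁) (F.map f₀.op x₂)
    (by rw [app_map_apply, app_map_apply, h]) (by
      rw [map_map_apply, map_map_apply, hf₀, ← hτ]
      simp only [Category.assoc, ← map_map_apply]
      exact congrArg (F.map τ.op) (hVe p))
  refine ⟨m, φ, ?_⟩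
  have := congrArg (η.app _) hm
  rw [map_map_apply, map_map_apply, app_map_apply, app_map_apply] at this
  refine (map_map_apply F' _ _ _).trans ?_
  refine (map_map_apply F' _ _ _).trans (Eq.trans ?_ ((map_map_apply F' _ _ _).trans (map_map_apply F' _ _ _)).symm)
  simpa only [f₀, Category.assoc] using this

include hF sq ha in
/-- Equality at stages passes to a locally bijective sheaf. -/
theorem eqStage_of_locallyBijective : EqStage a' := by
  intro I _ _ A i x₁ x₂ h he
  have : CompactSpace (A.D.obj i).left := have := A.aff i; inferInstance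
  obtain ⟨n, U, u, hU, hUs⟩ := exists_affCover_of_mem ((J S).intersection_covering
    (Presheaf.imageSieve_mem (J S) η (U := op (A.D.obj i)) x₁) (Presheaf.imageSieve_mem (J S) η (U := op (A.D.obj i)) x₂))
  choose b₁ hb₁ using fun p => (hUs p).1
  choose b₂ hb₂ using fun p => (hUs p).2
  have hW : ∀ p, ∃ (m : Type u) (W : m → Over S) (w : ∀ q, W q ⟶ U p), IsAffCover W w ∧
      ∀ q, G.map (w q).op (a.app _ (b₁ p)) = G.map (w q).op (a.app _ (b₂ p)) := fun p => by
    have := hU.aff p
    exact exists_affCover_of_mem (Presheaf.equalizerSieve_mem (J S) θ _ _ (by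
      rw [← square_apply sq, ← square_apply sq, hb₁, hb₂, app_map_apply, app_map_apply, h]))
  choose m W w hWc hWe using hW
  refine eqAt_of_cover A hF (hU.bind hWc) x₁ x₂ fun p => ?_
  have := (hU.bind hWc).aff p
  let B := A.pull i (w p.1 p.2 ≫ u p.1)
  let s := stageSnd A i (w p.1 p.2 ≫ u p.1) (Over.mk (𝟙 i)) ≫ w p.1 p.2
  have e₁ : η.app _ (F.map s.op (b₁ p.1)) = F'.map (stageFst A i (w p.1 p.2 ≫ u p.1) (Over.mk (𝟙 i))).op x₁ := by
    rw [app_map_apply, hb₁, map_map_apply, stageFst_self]
    simp only [s, Category.assoc]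
    rfl
  have e₂ : η.app _ (F.map s.op (b₂ p.1)) = F'.map (stageFst A i (w p.1 p.2 ≫ u p.1) (Over.mk (𝟙 i))).op x₂ := by
    rw [app_map_apply, hb₂, map_map_apply, stageFst_self]
    simp only [s, Category.assoc]
    rfl
  rw [← e₁, ← e₂]
  refine eqAt_app hF ha B _ _ ?_ ?_
  · rw [app_map_apply, app_map_apply]
    simp only [s, ← map_map_apply]
    rw [hWe]
  · refine (app_map_apply η _ _).trans ((congrArg _ e₁).trans ?_)
    refine Eq.trans ?_ ((app_map_apply η _ _).trans (congrArg _ e₂)).symm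
    refine (map_congr F' (π_stageFst A i (w p.1 p.2 ≫ u p.1) (Over.mk (𝟙 i))) x₁).trans ?_
    refine Eq.trans ?_ (map_congr F' (π_stageFst A i (w p.1 p.2 ≫ u p.1) (Over.mk (𝟙 i))) x₂).symm
    refine (map_map_apply F' _ _ x₁).symm.trans (Eq.trans ?_ (map_map_apply F' _ _ x₂))
    exact congrArg (F'.map (limFst A i (w p.1 p.2 ≫ u p.1)).op) he

variable [Presheaf.IsLocallySurjective (J S) θ] (hG : Presheaf.IsSheaf (J S) G') (hl : LiftsStage a)

include hF hG sq ha hl in
omit [Presheaf.IsLocallySurjective (J S) θ] in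
/-- Sections over the limit lift to a stage over sections of the presheaf. -/
theorem liftAt_app {k : I} (y : G.obj (op (A.D.obj k))) (x : F'.obj (op A.c.pt))
    (h : a'.app _ x = θ.app _ (G.map (A.c.π.app k).op y)) : LiftAt A a' k (θ.app _ y) x := by
  have : CompactSpace A.c.pt.left := have := A.affPt; inferInstance
  obtain ⟨n, V, v, hV, hVs⟩ := exists_affCover_of_mem (Presheaf.imageSieve_mem (J S) η (U := op A.c.pt) x)
  choose b hb using hVs
  have hW : ∀ p, ∃ (m : Type u) (W : m → Over S) (w : ∀ q, W q ⟶ V p), IsAffCover W w ∧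
      ∀ q, G.map (w q).op (a.app _ (b p)) = G.map (w q).op (G.map (v p).op (G.map (A.c.π.app k).op y)) :=
    fun p => by
      have := hV.aff p
      exact exists_affCover_of_mem (Presheaf.equalizerSieve_mem (J S) θ _ _ (by
        rw [← square_apply sq, hb, app_map_apply, h]
        exact (app_map_apply θ _ _).symm))
  choose m W w hWc hWe using hW
  obtain ⟨l, V₀, v₀, top, hV₀, sqV⟩ := exists_affCover_stage (A.above k) (hV.bind hWc)
  obtain ⟨j, φ, x', hx', hx'y⟩ := liftAt_of_cover (A.above k) hF hG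
    (eqStage_of_locallyBijective hF sq ha) hV₀ (G'.map (A.D.map l.hom).op (θ.app _ y)) x fun p => by
      have := hV₀.aff p
      let C := (A.above k).pull l (v₀ p)
      let f₀ : C.D.obj (Over.mk (𝟙 l)) ⟶ A.D.obj k :=
        stageFst (A.above k) l (v₀ p) (Over.mk (𝟙 l)) ≫ A.D.map l.hom
      have hf₀ : C.c.π.app (Over.mk (𝟙 l)) ≫ f₀ = limFst (A.above k) l (v₀ p) ≫ A.c.π.app k := by
        show _ ≫ stageFst (A.above k) l (v₀ p) (Over.mk (𝟙 l)) ≫ A.D.map l.hom = _
        rw [← Category.assoc, π_stageFst, Category.assoc]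
        exact congrArg (limFst (A.above k) l (v₀ p) ≫ ·) (A.c.w l.hom)
      obtain ⟨τ, hτ⟩ : ∃ τ : C.c.pt ⟶ W p.1 p.2, τ ≫ w p.1 p.2 ≫ v p.1 = limFst (A.above k) l (v₀ p) :=
        ⟨(sqV p).flip.isoPullback.inv, (sqV p).flip.isoPullback_inv_fst⟩
      obtain ⟨j, φ, z, hz, hzy⟩ := hl C (Over.mk (𝟙 l)) (G.map f₀.op y)
        (F.map (τ ≫ w p.1 p.2).op (b p.1)) (by
          rw [app_map_apply, ← map_map_apply G τ, hWe]
          refine Eq.trans ?_ (map_congr G hf₀ y).symm
          rw [← hτ, map_map_apply, map_map_apply]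
          refine (map_map_apply G _ _ _).trans ?_
          simp only [Category.assoc]
          rfl)
      refine ⟨j, φ, η.app _ z, ?_, ?_⟩
      · refine (app_map_apply η _ _).symm.trans ((congrArg _ hz).trans ((app_map_apply η _ _).trans ?_))
        refine (congrArg _ (hb p.1)).trans ((map_map_apply F' _ _ x).trans ?_)
        rw [Category.assoc, hτ]
        rfl
      · rw [square_apply sq, hzy, app_map_apply, app_map_apply]
        simp only [f₀, ← map_map_apply]
        rfl
  refine ⟨j.left, φ.left ≫ l.hom, x', hx', ?_⟩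
  rw [A.D.map_comp, ← map_map_apply]
  exact hx'y

include hF hG sq ha hl in
/-- Lifting to stages passes to a locally bijective sheaf. -/
theorem liftsStage_of_locallyBijective : LiftsStage a' := by
  intro I _ _ A i y x h
  have : CompactSpace (A.D.obj i).left := have := A.aff i; inferInstance
  obtain ⟨n, U, u, hU, hUs⟩ := exists_affCover_of_mem (Presheaf.imageSieve_mem (J S) θ (U := op (A.D.obj i)) y)
  choose b hb using hUs
  refine liftAt_of_cover A hF hG (eqStage_of_locallyBijective hF sq ha) hU y x fun p => ?_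
  have := hU.aff p
  have e : θ.app _ (G.map (stageSnd A i (u p) (Over.mk (𝟙 i))).op (b p)) =
      G'.map (stageFst A i (u p) (Over.mk (𝟙 i))).op y := by
    rw [app_map_apply, hb, map_map_apply, stageFst_self]
    rfl
  rw [← e]
  refine liftAt_app hF sq ha (A.pull i (u p)) hG hl _ _ ?_
  rw [app_map_apply, app_map_apply, e, map_map_apply, π_stageFst, ← map_map_apply]
  exact congrArg (G'.map (limFst A i (u p)).op) h

end Groth.SpLimit
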